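import Groth.Agent.NonAbH1.K554.Fpqc

/-!
# Points of a base change

For `f : X ⟶ B`, `G : Over B` and `Y : Over X`: the points `Y ⟶ Red.bc f G` over `X` are the points
`(Over.map f).obj Y ⟶ G` over `B`.
-/

set_option autoImplicit false
universe u

open CategoryTheory CategoryTheory.Limits MonoidalCategory CartesianMonoidalCategory MonObj GrpObj AlgebraicGeometry
open Groth.Agent.Books.BorelOrb

namespace K554.BcPt

variable {B X : Scheme.{u}} (f : X ⟶ B) {G H : Over B}

/-- the point of the base change attached to a point -/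
noncomputable def mk {Y : Over X} (g : (Over.map f).obj Y ⟶ G) : Y ⟶ Red.bc f G :=
  (Over.mapPullbackAdj f).homEquiv Y G g

/-- the point attached to a point of the base change -/
noncomputable def un {Y : Over X} (g : Y ⟶ Red.bc f G) : (Over.map f).obj Y ⟶ G :=
  ((Over.mapPullbackAdj f).homEquiv Y G).symm g

@[simp] lemma un_mk {Y : Over X} (g : (Over.map f).obj Y ⟶ G) : un f (mk f g) = g :=
  Equiv.symm_apply_apply _ _

@[simp] lemma mk_un {Y : Over X} (g : Y ⟶ Red.bc f G) : mk f (un f g) = g :=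
  Equiv.apply_symm_apply _ _

lemma un_injective {Y : Over X} {g g' : Y ⟶ Red.bc f G} (h : un f g = un f g') : g = g' := by
  rw [← mk_un f g, h, mk_un]

lemma mk_injective {Y : Over X} {g g' : (Over.map f).obj Y ⟶ G} (h : mk f g = mk f g') : g = g' := by
  rw [← un_mk f g, h, un_mk]

lemma mk_comp_map {Y : Over X} (g : (Over.map f).obj Y ⟶ G) (φ : G ⟶ H) :
    mk f g ≫ (Over.pullback f).map φ = mk f (g ≫ φ) :=
  ((Over.mapPullbackAdj f).homEquiv_naturality_right g φ).symm

lemma un_comp_map {Y : Over X} (g : Y ⟶ Red.bc f G) (φ : G ⟶ H) :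
    un f (g ≫ (Over.pullback f).map φ) = un f g ≫ φ :=
  (Over.mapPullbackAdj f).homEquiv_naturality_right_symm g φ

lemma comp_mk {Y Y' : Over X} (t : Y' ⟶ Y) (g : (Over.map f).obj Y ⟶ G) :
    t ≫ mk f g = mk f ((Over.map f).map t ≫ g) :=
  ((Over.mapPullbackAdj f).homEquiv_naturality_left t g).symm

lemma un_comp {Y Y' : Over X} (t : Y' ⟶ Y) (g : Y ⟶ Red.bc f G) :
    un f (t ≫ g) = (Over.map f).map t ≫ un f g :=
  (Over.mapPullbackAdj f).homEquiv_naturality_left_symm t g

lemma un_left {Y : Over X} (g : Y ⟶ Red.bc f G) : (un f g).left = g.left ≫ pullback.fst G.hom f := by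
  simp [un, Adjunction.homEquiv_counit]

lemma mk_left_fst {Y : Over X} (g : (Over.map f).obj Y ⟶ G) :
    (mk f g).left ≫ pullback.fst G.hom f = g.left := by
  rw [← un_left, un_mk]

section Grp

variable [GrpObj G] [GrpObj H]

lemma mk_mul {Y : Over X} (g g' : (Over.map f).obj Y ⟶ G) : mk f (g * g') = mk f g * mk f g' :=
  AlgGrp.Action.homEquiv_mul f g g'

/-- `mk` as a group isomorphism -/
noncomputable def mulEquiv (Y : Over X) : ((Over.map f).obj Y ⟶ G) ≃* (Y ⟶ Red.bc f G) where
  toFun := mk f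
  invFun := un f
  left_inv := un_mk f
  right_inv := mk_un f
  map_mul' := mk_mul f

lemma un_mul {Y : Over X} (g g' : Y ⟶ Red.bc f G) : un f (g * g') = un f g * un f g' :=
  map_mul (mulEquiv f Y).symm g g'

lemma mk_one {Y : Over X} : mk f (1 : (Over.map f).obj Y ⟶ G) = 1 := map_one (mulEquiv f Y)

lemma un_one {Y : Over X} : un f (1 : Y ⟶ Red.bc f G) = 1 := map_one (mulEquiv f Y).symm

lemma mk_inv {Y : Over X} (g : (Over.map f).obj Y ⟶ G) : mk f g⁻¹ = (mk f g)⁻¹ := map_inv (mulEquiv f Y) g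

lemma un_inv {Y : Over X} (g : Y ⟶ Red.bc f G) : un f g⁻¹ = (un f g)⁻¹ := map_inv (mulEquiv f Y).symm g

end Grp

end K554.BcPt
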