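import Groth.Agent.NonAbH1.K554.FibAct
import Groth.Agent.Sga3C.Affinization
import Groth.Agent.PRed.K543.Kit

/-!
# Actions on affinizations, stabilizers of points, sub-actions
-/

set_option autoImplicit false
universe u

open CategoryTheory CategoryTheory.Limits MonoidalCategory CartesianMonoidalCategory MonObj GrpObj AlgebraicGeometry
open Groth.Agent.Books.BorelOrb K554.Fpqc K554.FibAct Groth.Agent.Sga3C.Affinization

namespace K554.StabAff

/-- A group acting on `Y` acts on its affinization (over a field, `G` affine and `Y` qcqs). -/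
theorem exists_affAct (k : Type u) [Field k] {G Y Z : Over (Spec (CommRingCat.of k))} [GrpObj G] [IsAffine G.left]
    [CompactSpace Y.left] [QuasiSeparatedSpace Y.left] (π : Y ⟶ Z) (hπ : IsAffinization π)
    (b : AlgGrp.Action G Y) : ∃ β : AlgGrp.Action G Z, ∀ (T : Over (Spec (CommRingCat.of k))) (g : T ⟶ G)
      (y : T ⟶ Y), sm β g (y ≫ π) = sm b g y ≫ π := by
  have hZ : IsAffine Z.left := hπ.isAffine
  have h1 : IsAffinization (𝟙 G ⊗ₘ π) := (IsAffinization.id G).tensor k hπ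
  have : CompactSpace (G ⊗ Y).left := by
    have h2 : QuasiCompact (pullback.snd G.hom Y.hom) := inferInstance
    exact QuasiCompact.compactSpace_of_compactSpace (pullback.snd G.hom Y.hom)
  have : QuasiSeparatedSpace (G ⊗ Y).left := by
    have h2 : QuasiSeparated (pullback.snd G.hom Y.hom) := inferInstance
    exact quasiSeparatedSpace_of_quasiSeparated (pullback.snd G.hom Y.hom)
  have h2 : IsAffinization (𝟙 G ⊗ₘ (𝟙 G ⊗ₘ π)) := (IsAffinization.id G).tensor k h1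
  obtain ⟨α, hα⟩ := h1.exists_fac (b.act ≫ π)
  have hα' : ∀ (T : Over (Spec (CommRingCat.of k))) (g : T ⟶ G) (y : T ⟶ Y),
      lift g (y ≫ π) ≫ α = sm b g y ≫ π := by
    intro T g y
    have h3 : lift g (y ≫ π) = lift g y ≫ (𝟙 G ⊗ₘ π) := by rw [lift_map, Category.comp_id]
    rw [h3, Category.assoc, hα, ← Category.assoc, sm]
  have hone : lift (1 : Z ⟶ G) (𝟙 Z) ≫ α = 𝟙 Z := by
    apply hπ.hom_ext
    rw [comp_lift_assoc, MonObj.comp_one, Category.comp_id]
    have h3 := hα' Y 1 (𝟙 Y)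
    rw [one_sm, Category.id_comp] at h3
    exact h3
  have hmul : lift (fst G (G ⊗ Z) * (snd G (G ⊗ Z) ≫ fst G Z)) (snd G (G ⊗ Z) ≫ snd G Z) ≫ α =
      lift (fst G (G ⊗ Z)) (lift (snd G (G ⊗ Z) ≫ fst G Z) (snd G (G ⊗ Z) ≫ snd G Z) ≫ α) ≫ α := by
    apply h2.hom_ext
    have e1 : (𝟙 G ⊗ₘ (𝟙 G ⊗ₘ π)) ≫ fst G (G ⊗ Z) = fst G (G ⊗ Y) := by rw [tensorHom_fst, Category.comp_id]
    have e2 : (𝟙 G ⊗ₘ (𝟙 G ⊗ₘ π)) ≫ snd G (G ⊗ Z) ≫ fst G Z = snd G (G ⊗ Y) ≫ fst G Y := by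
      rw [tensorHom_snd_assoc, tensorHom_fst, Category.comp_id]
    have e3 : (𝟙 G ⊗ₘ (𝟙 G ⊗ₘ π)) ≫ snd G (G ⊗ Z) ≫ snd G Z = (snd G (G ⊗ Y) ≫ snd G Y) ≫ π := by
      rw [tensorHom_snd_assoc, tensorHom_snd, Category.assoc]
    rw [comp_lift_assoc, comp_lift_assoc, comp_lift_assoc, MonObj.comp_mul, e1, e2, e3, hα', hα', hα', mul_sm]
  refine ⟨mkAction α ?_ ?_, ?_⟩
  · intro T z
    have h3 : lift (1 : T ⟶ G) z = z ≫ lift 1 (𝟙 Z) := by rw [comp_lift, MonObj.comp_one, Category.comp_id]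
    rw [h3, Category.assoc, hone, Category.comp_id]
  · intro T g h z
    have h3 := congrArg (fun m => lift g (lift h z) ≫ m) hmul
    simpa only [comp_lift_assoc, MonObj.comp_mul, lift_fst, lift_snd_assoc, lift_snd] using h3
  · intro T g y
    exact hα' T g y

/-- The stabilizer of a point. -/
theorem exists_stabilizer {S : Scheme.{u}} {G Z : Over S} [GrpObj G] (β : AlgGrp.Action G Z) (z₀ : 𝟙_ (Over S) ⟶ Z)
    [IsClosedImmersion z₀.left] :
    ∃ (H : Over S) (_ : GrpObj H) (i : H ⟶ G), IsMonHom i ∧ IsClosedImmersion i.left ∧ Mono i ∧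
      ∀ (T : Over S) (g : T ⟶ G), (∃ h : T ⟶ H, h ≫ i = g) ↔ sm β g (toUnit T ≫ z₀) = toUnit T ≫ z₀ := by
  let o : G ⟶ Z := β.orbitMap z₀
  have ho : ∀ (T : Over S) (g : T ⟶ G), g ≫ o = sm β g (toUnit T ≫ z₀) := fun T g => comp_orbitMap β g z₀
  let i : pullback o z₀ ⟶ G := pullback.fst o z₀
  have hmonoz : Mono z₀ := ⟨fun {T} s t _ => toUnit_unique s t⟩
  have hi : Mono i := inferInstance
  have hcl0 : IsClosedImmersion ((Over.forget S).map z₀) := inferInstanceAs (IsClosedImmersion z₀.left)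
  have hcl : IsClosedImmersion i.left :=
    MorphismProperty.of_isPullback (P := @IsClosedImmersion)
      (((IsPullback.of_hasPullback o z₀).map (Over.forget S)).flip) hcl0
  have hpts : ∀ {T : Over S} (g : T ⟶ G), (∃ h : T ⟶ pullback o z₀, h ≫ i = g) ↔
      sm β g (toUnit T ≫ z₀) = toUnit T ≫ z₀ := by
    intro T g
    constructor
    · rintro ⟨h, rfl⟩
      rw [← ho, Category.assoc, pullback.condition, ← Category.assoc, toUnit_unique (h ≫ pullback.snd o z₀) (toUnit T)]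
    · intro h
      exact ⟨pullback.lift g (toUnit T) (by rw [ho, h]), pullback.lift_fst _ _ _⟩
  obtain ⟨hG, hm⟩ := K543.Kit.exists_grpObj_of_points i (fun {T} g => sm β g (toUnit T ≫ z₀) = toUnit T ≫ z₀)
    hpts (one_sm _ _) (fun g h hg hh => by rw [mul_sm, hh, hg]) (fun g hg => by
      rw [← hg, ← mul_sm, inv_mul_cancel, one_sm, hg])
  exact ⟨pullback o z₀, hG, i, hm, hcl, hi, fun T g => hpts g⟩

section Sub

variable {X : Scheme.{u}} {H G T V : Over X} [GrpObj H] [GrpObj G] (i : H ⟶ G) [IsMonHom i]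
  (a : AlgGrp.Action G T) (j : V ⟶ T) [Mono j]
  (hj : ∀ (R : Over X) (h : R ⟶ H) (v : R ⟶ V), ∃ w : R ⟶ V, w ≫ j = sm a (h ≫ i) (v ≫ j))

include hj in
theorem exists_subAct : ∃ b : AlgGrp.Action H V, ∀ (R : Over X) (h : R ⟶ H) (v : R ⟶ V),
    sm b h v ≫ j = sm a (h ≫ i) (v ≫ j) := by
  obtain ⟨act, hact⟩ := hj (H ⊗ V) (fst H V) (snd H V)
  have key : ∀ (R : Over X) (h : R ⟶ H) (v : R ⟶ V), lift h v ≫ act ≫ j = sm a (h ≫ i) (v ≫ j) := by
    intro R h v
    rw [hact, comp_sm, lift_fst_assoc, lift_snd_assoc]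
  refine ⟨mkAction act ?_ ?_, ?_⟩
  · intro R v
    rw [← cancel_mono j, Category.assoc, key, MonObj.one_comp, one_sm]
  · intro R g h v
    rw [← cancel_mono j, Category.assoc, Category.assoc, key, key, Category.assoc, key, MonObj.mul_comp, mul_sm]
  · intro R h v
    rw [sm_mkAction, Category.assoc, key]

variable {i a j}

omit [IsMonHom i] in
theorem isPseudoTorsorSch_sub [Mono i] (ha : NonAbH1.IsPseudoTorsorSch a) (b : AlgGrp.Action H V)
    (hb : ∀ (R : Over X) (h : R ⟶ H) (v : R ⟶ V), sm b h v ≫ j = sm a (h ≫ i) (v ≫ j))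
    (hd : ∀ (R : Over X) (v v' : R ⟶ V), ∃ h : R ⟶ H, h ≫ i = dif ha (v ≫ j) (v' ≫ j)) :
    NonAbH1.IsPseudoTorsorSch b := by
  rw [isPseudoTorsorSch_iff]
  intro R v v'
  obtain ⟨h, hh⟩ := hd R v v'
  refine ⟨h, ?_, ?_⟩
  · change sm b h v' = v
    rw [← cancel_mono j, hb, hh, sm_dif]
  · intro h' hh'
    rw [← cancel_mono i, hh]
    refine (dif_eq ha ?_).symm
    rw [← hb, hh']

end Sub

end K554.StabAff
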