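import Groth.Agent.Books.BorelOrb
import Groth.Agent.Desc.FpqcRefine
import Groth.Prelude.Def_NonAbH2
import Groth.Prelude.Def_ActBC
import Mathlib.AlgebraicGeometry.Morphisms.FlatDescent
import Mathlib.AlgebraicGeometry.AffineSpace

/-!
# Torsors for the fpqc precoverage: points, descent of properties, equivariant morphisms

* `prop_of_family`: a property of morphisms which is Zariski local at the target, stable under base
  change and descends along `Surjective ⊓ Flat ⊓ QuasiCompact` can be checked on an fpqc covering family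
  of the target.
* `dif`: the point calculus of a pseudo-torsor (`IsPseudoTorsorSch`).
* `prop_of_isTorsorFor`: such a property passes from `G` to a `G`-torsor `X`.
* `isIso_of_equivariant`: an equivariant morphism of `G`-torsors for a subcanonical precoverage is an
  isomorphism.
-/

set_option autoImplicit false
universe u

open CategoryTheory CategoryTheory.Limits MonoidalCategory CartesianMonoidalCategory MonObj GrpObj AlgebraicGeometry
open Groth.Agent.Books.BorelOrb

namespace K554.Fpqc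

section Family

variable (P : MorphismProperty Scheme.{u}) [IsZariskiLocalAtTarget P] [P.IsStableUnderBaseChange]
  [P.DescendsAlong (@Surjective ⊓ @Flat ⊓ @QuasiCompact)]

omit [P.IsStableUnderBaseChange] in
/-- Descent along a finite family of flat morphisms from affines to an affine scheme. -/
theorem prop_of_finite_family {S X : Scheme.{u}} [IsAffine S] (g : X ⟶ S) {n : ℕ} (W : Fin n → Scheme.{u})
    [∀ k, IsAffine (W k)] (q : ∀ k, W k ⟶ S) [∀ k, Flat (q k)]
    (hq : ∀ s : S, ∃ (k : Fin n) (w : W k), q k w = s)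
    (h : ∀ k, P (pullback.snd g (q k))) : P g := by
  let W' : ULift.{u} (Fin n) → Scheme.{u} := fun k => W k.down
  let Q : ∐ W' ⟶ S := Sigma.desc (fun k => q k.down)
  have hW' : ∀ k, IsAffine (W' k) := fun k => inferInstanceAs (IsAffine (W k.down))
  have hQ : ∀ i : ULift.{u} (Fin n), Sigma.ι W' i ≫ Q = q i.down := fun i => Sigma.ι_desc _ _
  have h1 : Surjective Q := ⟨fun s => by
    obtain ⟨k, w, hw⟩ := hq s
    refine ⟨Sigma.ι W' ⟨k⟩ w, ?_⟩
    rw [← Scheme.Hom.comp_apply, hQ]
    exact hw⟩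
  have h2 : Flat Q := by
    rw [IsZariskiLocalAtSource.iff_of_openCover (P := @Flat) (sigmaOpenCover W')]
    intro i
    have : (sigmaOpenCover W').f i ≫ Q = q (ULift.down i) := hQ i
    rw [this]
    exact inferInstanceAs (Flat (q (ULift.down i)))
  have h3 : QuasiCompact Q := inferInstance
  refine MorphismProperty.of_pullback_snd_of_descendsAlong (P := P)
    (Q := @Surjective ⊓ @Flat ⊓ @QuasiCompact) (f := g) (g := Q) ⟨⟨h1, h2⟩, h3⟩ ?_
  rw [IsZariskiLocalAtTarget.iff_of_openCover (P := P) (sigmaOpenCover W')]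
  intro i
  have h4 : P (pullback.snd g (q (ULift.down i))) := h (ULift.down i)
  have h5 := (IsPullback.of_hasPullback (pullback.snd g Q) ((sigmaOpenCover W').f i)).paste_horiz
    (IsPullback.of_hasPullback g Q)
  have h6 : (sigmaOpenCover W').f i ≫ Q = q (ULift.down i) := hQ i
  rw [h6] at h5
  have h7 := h5.isoPullback_hom_snd
  have h8 : P (pullback.snd (pullback.snd g Q) ((sigmaOpenCover W').f i)) := by
    rw [← h7]
    exact (P.cancel_left_of_respectsIso _ _).2 h4
  exact h8

omit [IsZariskiLocalAtTarget P] [P.DescendsAlong (@Surjective ⊓ @Flat ⊓ @QuasiCompact)] in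
lemma prop_snd_iff_of_isPullback {A B C D : Scheme.{u}} {a : A ⟶ B} {b : A ⟶ C} {g : B ⟶ D} {q : C ⟶ D}
    (h : IsPullback a b g q) : P b ↔ P (pullback.snd g q) := by
  rw [← h.isoPullback_hom_snd, P.cancel_left_of_respectsIso]

omit [IsZariskiLocalAtTarget P] [P.DescendsAlong (@Surjective ⊓ @Flat ⊓ @QuasiCompact)] in
lemma prop_snd_comp {X S T T' : Scheme.{u}} (g : X ⟶ S) (u : T ⟶ S) (v : T' ⟶ T)
    (h : P (pullback.snd g u)) : P (pullback.snd g (v ≫ u)) := by
  rw [← prop_snd_iff_of_isPullback P ((IsPullback.of_hasPullback (pullback.snd g u) v).paste_horiz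
    (IsPullback.of_hasPullback g u))]
  exact P.pullback_snd _ _ h

omit [IsZariskiLocalAtTarget P] [P.DescendsAlong (@Surjective ⊓ @Flat ⊓ @QuasiCompact)] in
lemma prop_snd_snd_iff {X S T T' : Scheme.{u}} (g : X ⟶ S) (u : T ⟶ S) (v : T' ⟶ T) :
    P (pullback.snd (pullback.snd g u) v) ↔ P (pullback.snd g (v ≫ u)) :=
  prop_snd_iff_of_isPullback P ((IsPullback.of_hasPullback (pullback.snd g u) v).paste_horiz
    (IsPullback.of_hasPullback g u))

/-- Descent along an fpqc covering family. -/
theorem prop_of_family {S X : Scheme.{u}} (g : X ⟶ S) {R : Presieve S} (hR : R ∈ Scheme.fpqcPrecoverage S)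
    (h : ∀ ⦃S' : Scheme.{u}⦄ (f : S' ⟶ S), R f → P (pullback.snd g f)) : P g := by
  rw [IsZariskiLocalAtTarget.iff_of_openCover (P := P) S.affineCover]
  intro i
  change P (pullback.snd g (S.affineCover.f i))
  let j := S.affineCover.f i
  have hR' : R.pullbackArrows j ∈ Scheme.fpqcPrecoverage _ := Precoverage.pullbackArrows_mem j hR
  have h' : ∀ ⦃S' : Scheme.{u}⦄ (f : S' ⟶ S.affineCover.X i), (R.pullbackArrows j) f →
      P (pullback.snd (pullback.snd g j) f) := by
    rintro S' f ⟨T, u, hu⟩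
    refine (prop_snd_snd_iff P g j _).2 ?_
    rw [← pullback.condition]
    exact prop_snd_comp P g u _ (h u hu)
  have hA : IsAffine (S.affineCover.X i) := inferInstance
  change P (pullback.snd g j)
  obtain ⟨ι', Y, f, hf⟩ := (R.pullbackArrows j).exists_eq_ofArrows
  rw [hf] at hR' h'
  obtain ⟨n, W, α, p, hp1, hp2, hp3, hp4⟩ := Groth.Agent.Desc.FpqcRefine.exists_refine f hR'
  refine prop_of_finite_family P (pullback.snd g j) W (fun k => p k ≫ f (α k)) hp4 fun k => ?_
  exact prop_snd_comp P _ _ _ (h' _ (Presieve.ofArrows.mk _))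

end Family

section Pseudo

variable {S : Scheme.{u}} {G X : Over S} [GrpObj G] {a : AlgGrp.Action G X}

/-- the point of `G` carrying `x'` to `x` -/
noncomputable def dif (ha : NonAbH1.IsPseudoTorsorSch a) {Y : Over S} (x x' : Y ⟶ X) : Y ⟶ G :=
  haveI : IsIso (lift a.act (snd G X)) := ha
  lift x x' ≫ inv (lift a.act (snd G X)) ≫ fst G X

lemma sm_dif (ha : NonAbH1.IsPseudoTorsorSch a) {Y : Over S} (x x' : Y ⟶ X) : sm a (dif ha x x') x' = x := by
  have : IsIso (lift a.act (snd G X)) := ha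
  have h1 : lift (dif ha x x') x' = lift x x' ≫ inv (lift a.act (snd G X)) := by
    apply CartesianMonoidalCategory.hom_ext
    · rw [lift_fst]; simp [dif]
    · rw [lift_snd, Category.assoc]
      have h2 : inv (lift a.act (snd G X)) ≫ snd G X = snd X X := by
        rw [IsIso.inv_comp_eq, lift_snd]
      rw [h2, lift_snd]
  rw [sm, h1, Category.assoc]
  have h3 : inv (lift a.act (snd G X)) ≫ a.act = fst X X := by
    rw [IsIso.inv_comp_eq, lift_fst]
  rw [h3, lift_fst]

lemma sm_injective (ha : NonAbH1.IsPseudoTorsorSch a) {Y : Over S} {g g' : Y ⟶ G} (x : Y ⟶ X)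
    (h : sm a g x = sm a g' x) : g = g' := by
  have : IsIso (lift a.act (snd G X)) := ha
  have h1 : lift g x ≫ lift a.act (snd G X) = lift g' x ≫ lift a.act (snd G X) := by
    rw [comp_lift, comp_lift, lift_snd, lift_snd]
    congr 1
  rw [cancel_mono] at h1
  have h2 := congrArg (· ≫ fst G X) h1
  simpa using h2

lemma dif_eq (ha : NonAbH1.IsPseudoTorsorSch a) {Y : Over S} {x x' : Y ⟶ X} {g : Y ⟶ G} (h : sm a g x' = x) :
    dif ha x x' = g := sm_injective ha x' ((sm_dif ha x x').trans h.symm)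

lemma dif_self (ha : NonAbH1.IsPseudoTorsorSch a) {Y : Over S} (x : Y ⟶ X) : dif ha x x = 1 :=
  dif_eq ha (one_sm a x)

lemma dif_mul_dif (ha : NonAbH1.IsPseudoTorsorSch a) {Y : Over S} (x y z : Y ⟶ X) :
    dif ha x y * dif ha y z = dif ha x z :=
  (dif_eq ha (by rw [mul_sm, sm_dif, sm_dif])).symm

lemma dif_sm_left (ha : NonAbH1.IsPseudoTorsorSch a) {Y : Over S} (g : Y ⟶ G) (x y : Y ⟶ X) :
    dif ha (sm a g x) y = g * dif ha x y :=
  dif_eq ha (by rw [mul_sm, sm_dif])

lemma dif_sm_right (ha : NonAbH1.IsPseudoTorsorSch a) {Y : Over S} (g : Y ⟶ G) (x y : Y ⟶ X) :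
    dif ha x (sm a g y) = dif ha x y * g⁻¹ :=
  dif_eq ha (by rw [mul_sm, ← mul_sm a g⁻¹, inv_mul_cancel, one_sm, sm_dif])

lemma comp_dif (ha : NonAbH1.IsPseudoTorsorSch a) {Y Y' : Over S} (f : Y' ⟶ Y) (x x' : Y ⟶ X) :
    f ≫ dif ha x x' = dif ha (f ≫ x) (f ≫ x') :=
  (dif_eq ha (by rw [← comp_sm, sm_dif])).symm

lemma dif_inv (ha : NonAbH1.IsPseudoTorsorSch a) {Y : Over S} (x x' : Y ⟶ X) : (dif ha x x')⁻¹ = dif ha x' x := by
  rw [inv_eq_iff_mul_eq_one, dif_mul_dif, dif_self]

lemma sm_trivialAction {T : Over S} (g h : T ⟶ G) : sm (NonAbH1.trivialAction G) g h = g * h := by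
  rw [sm, Hom.mul_def]; rfl

/-- pseudo-torsors in terms of points: the action is simply transitive. -/
lemma isPseudoTorsorSch_iff (a : AlgGrp.Action G X) : NonAbH1.IsPseudoTorsorSch a ↔
    ∀ (Y : Over S) (x x' : Y ⟶ X), ∃! g : Y ⟶ G, sm a g x' = x := by
  constructor
  · intro ha Y x x'
    exact ⟨dif ha x x', sm_dif ha x x', fun g hg => (dif_eq ha hg).symm⟩
  · intro h
    obtain ⟨g, hg, hu⟩ := h (X ⊗ X) (fst X X) (snd X X)
    refine ⟨⟨lift g (snd X X), ?_, ?_⟩⟩
    · apply CartesianMonoidalCategory.hom_ext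
      · rw [Category.assoc, lift_fst, Category.id_comp]
        obtain ⟨g', hg', hu'⟩ := h (G ⊗ X) a.act (snd G X)
        rw [hu' (lift a.act (snd G X) ≫ g), hu' (fst G X)]
        · change sm a (fst G X) (snd G X) = a.act
          rw [sm, lift_fst_snd, Category.id_comp]
        · change sm a (lift a.act (snd G X) ≫ g) (snd G X) = a.act
          have h1 : sm a (lift a.act (snd G X) ≫ g) (snd G X) =
              lift a.act (snd G X) ≫ sm a g (snd X X) := by
            rw [comp_sm, lift_snd]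
          rw [h1]
          have hg' : sm a g (snd X X) = fst X X := hg
          rw [hg', lift_fst]
      · rw [Category.assoc, lift_snd, Category.id_comp, lift_snd]
    · apply CartesianMonoidalCategory.hom_ext
      · rw [Category.assoc, lift_fst, Category.id_comp]
        exact hg
      · rw [Category.assoc, lift_snd, Category.id_comp, lift_snd]

lemma isEquivariant_iff {Y : Over S} (a : AlgGrp.Action G X) (b : AlgGrp.Action G Y) (f : X ⟶ Y) :
    AlgGrp.Action.IsEquivariant a b f ↔ ∀ (T : Over S) (g : T ⟶ G) (x : T ⟶ X), sm a g x ≫ f = sm b g (x ≫ f) := by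
  constructor
  · intro h T g x
    rw [sm, Category.assoc, h, lift_whiskerLeft_assoc, sm]
  · intro h
    apply AlgGrp.Action.hom_ext_lift₂
    intro T g x
    have := h T g x
    rw [sm, Category.assoc] at this
    rw [this, lift_whiskerLeft_assoc, sm]

lemma sm_restrict {H : Over S} [GrpObj H] (φ : H ⟶ G) [IsMonHom φ] (a : AlgGrp.Action G X) {T : Over S}
    (h : T ⟶ H) (x : T ⟶ X) : sm (a.restrict φ) h x = sm a (h ≫ φ) x :=
  AlgGrp.Action.lift_restrict_act φ a h x

/-- a pseudo-torsor with a section is the trivial one, through the orbit map. -/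
theorem isIso_orbitMap (ha : NonAbH1.IsPseudoTorsorSch a) (o : 𝟙_ (Over S) ⟶ X) : IsIso (a.orbitMap o) := by
  refine ⟨⟨dif ha (𝟙 X) (toUnit X ≫ o), ?_, ?_⟩⟩
  · rw [comp_dif, Category.comp_id, orbitMap_eq]
    apply dif_eq
    congr 1
    rw [← Category.assoc, toUnit_unique (sm a (𝟙 G) (toUnit G ≫ o) ≫ toUnit X) (toUnit G)]
  · rw [comp_orbitMap, sm_dif]

end Pseudo

section Sheaf

variable (K : Precoverage Scheme.{u}) [K.toGrothendieck.Subcanonical]

lemma isSheafFor {T : Scheme.{u}} {R : Presieve T} (hR : R ∈ K T) (Y : Scheme.{u}) :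
    R.IsSheafFor (yoneda.obj Y) := by
  exact (GrothendieckTopology.Subcanonical.isSheaf_of_isRepresentable (J := K.toGrothendieck)
    (yoneda.obj Y)).isSheafFor R (Precoverage.generate_mem_toGrothendieck hR)

include K in
/-- morphisms agreeing on a covering family agree -/
theorem eq_of_cover {T Y : Scheme.{u}} {R : Presieve T} (hR : R ∈ K T) {s t : T ⟶ Y}
    (h : ∀ ⦃T' : Scheme.{u}⦄ (f : T' ⟶ T), R f → f ≫ s = f ≫ t) : s = t :=
  (isSheafFor K hR Y).isSeparatedFor.ext h

include K in
/-- compatible families of morphisms glue along a covering family -/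
theorem exists_glue {T Y : Scheme.{u}} {R : Presieve T} (hR : R ∈ K T)
    (x : ∀ ⦃T' : Scheme.{u}⦄ (f : T' ⟶ T), R f → (T' ⟶ Y))
    (hx : ∀ ⦃T₁ T₂ W : Scheme.{u}⦄ (g₁ : W ⟶ T₁) (g₂ : W ⟶ T₂) (f₁ : T₁ ⟶ T) (f₂ : T₂ ⟶ T) (h₁ : R f₁)
      (h₂ : R f₂), g₁ ≫ f₁ = g₂ ≫ f₂ → g₁ ≫ x f₁ h₁ = g₂ ≫ x f₂ h₂) :
    ∃ t : T ⟶ Y, ∀ ⦃T' : Scheme.{u}⦄ (f : T' ⟶ T) (h : R f), f ≫ t = x f h := by
  obtain ⟨t, ht, -⟩ := isSheafFor K hR Y x (fun T₁ T₂ W g₁ g₂ f₁ f₂ h₁ h₂ e => hx g₁ g₂ f₁ f₂ h₁ h₂ e)
  exact ⟨t, fun T' f h => ht f h⟩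

include K in
/-- a monomorphism having sections on a covering family of its target is an isomorphism -/
theorem isIso_of_mono_of_local_sections {X Y : Scheme.{u}} (f : X ⟶ Y) [Mono f] {R : Presieve Y}
    (hR : R ∈ K Y) (h : ∀ ⦃U : Scheme.{u}⦄ (u : U ⟶ Y), R u → ∃ s : U ⟶ X, s ≫ f = u) : IsIso f := by
  choose s hs using h
  obtain ⟨t, ht⟩ := exists_glue K hR (Y := X) (fun U u hu => s u hu) (by
    intro T₁ T₂ W g₁ g₂ f₁ f₂ h₁ h₂ e
    rw [← cancel_mono f, Category.assoc, Category.assoc, hs, hs, e])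
  have h1 : t ≫ f = 𝟙 Y := eq_of_cover K hR (fun T' v hv => by
    rw [← Category.assoc, ht v hv, hs, Category.comp_id])
  exact ⟨t, by rw [← cancel_mono f, Category.assoc, h1, Category.comp_id, Category.id_comp], h1⟩

variable {S : Scheme.{u}} {G X X' : Over S} [GrpObj G]

include K in
/-- A `G`-equivariant morphism from a torsor to a pseudo-torsor is an isomorphism. -/
theorem isIso_of_isEquivariant [K.IsStableUnderBaseChange] (a : AlgGrp.Action G X) (a' : AlgGrp.Action G X')
    (ha : NonAbH1.IsTorsorFor K a) (ha' : NonAbH1.IsPseudoTorsorSch a')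
    (f : X ⟶ X') (hf : AlgGrp.Action.IsEquivariant a a' f) : IsIso f := by
  rw [isEquivariant_iff] at hf
  have hmono : ∀ (T : Over S) (p q : T ⟶ X), p ≫ f = q ≫ f → p = q := by
    intro T p q h
    have h1 : sm a' (dif ha.1 q p) (p ≫ f) = sm a' 1 (p ≫ f) := by
      rw [← hf, sm_dif, one_sm, h]
    have h2 := sm_injective ha' _ h1
    have h3 := sm_dif ha.1 q p
    rw [h2, one_sm] at h3
    exact h3
  have : Mono f := ⟨fun {T} p q h => hmono T p q h⟩
  have : Mono f.left := inferInstanceAs (Mono ((Over.forget S).map f))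
  obtain ⟨R, hR, hsec⟩ := ha.2
  have h1 : IsIso f.left := by
    refine isIso_of_mono_of_local_sections K f.left (Precoverage.pullbackArrows_mem X'.hom hR) ?_
    rintro U v ⟨Z, u, hu⟩
    obtain ⟨σ, hσ⟩ := hsec u hu
    -- the test object `Z ×_S X'`
    let T : Over S := Over.mk (pullback.snd u X'.hom ≫ X'.hom)
    let v' : T ⟶ X' := Over.homMk (pullback.snd u X'.hom) rfl
    let σ' : T ⟶ X := Over.homMk (pullback.fst u X'.hom ≫ σ) (by
      rw [Category.assoc, hσ, pullback.condition]; rfl)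
    refine ⟨(sm a (dif ha' v' (σ' ≫ f)) σ').left, ?_⟩
    rw [← Over.comp_left, hf, sm_dif]
    rfl
  have : IsIso ((Over.forget S).map f) := h1
  exact isIso_of_reflects_iso f (Over.forget S)

lemma comp_eq_of_fst_snd {X S Y : Scheme.{u}} {p : X ⟶ S} {m : X ⟶ Y}
    (hm : pullback.fst p p ≫ m = pullback.snd p p ≫ m) {T : Scheme.{u}} (a b : T ⟶ X) (h : a ≫ p = b ≫ p) :
    a ≫ m = b ≫ m := by
  have h3 := congrArg (fun z => pullback.lift a b h ≫ z) hm
  simp only [pullback.lift_fst_assoc, pullback.lift_snd_assoc] at h3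
  exact h3

omit [GrpObj G] in
include K in
/-- Morphisms out of the base of a locally trivial `X ⟶ S` are the morphisms out of `X` which agree on `X ×_S X`. -/
theorem exists_desc [K.IsStableUnderBaseChange] (hX : NonAbH1.IsLocallyTrivialFor K X) {Y : Scheme.{u}} (m : X.left ⟶ Y)
    (hm : pullback.fst X.hom X.hom ≫ m = pullback.snd X.hom X.hom ≫ m) : ∃ t : S ⟶ Y, X.hom ≫ t = m := by
  obtain ⟨R, hR, hsec⟩ := hX
  choose s hs using hsec
  obtain ⟨t, ht⟩ := exists_glue K hR (fun T f hf => s f hf ≫ m) (by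
    intro T₁ T₂ W g₁ g₂ f₁ f₂ h₁ h₂ e
    rw [← Category.assoc, ← Category.assoc]
    exact comp_eq_of_fst_snd hm _ _ (by rw [Category.assoc, Category.assoc, hs, hs, e]))
  refine ⟨t, eq_of_cover K (Precoverage.pullbackArrows_mem X.hom hR) ?_⟩
  rintro U v ⟨Z, u, hu⟩
  rw [← Category.assoc, ← pullback.condition, Category.assoc, ht u hu, ← Category.assoc]
  exact comp_eq_of_fst_snd hm _ _ (by rw [Category.assoc, hs u hu, pullback.condition])

omit [GrpObj G] in
include K in
/-- the structure morphism of a locally trivial `X ⟶ S` is an epimorphism -/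
theorem epi_of_isLocallyTrivialFor (hX : NonAbH1.IsLocallyTrivialFor K X) {Y : Scheme.{u}} {t t' : S ⟶ Y}
    (h : X.hom ≫ t = X.hom ≫ t') : t = t' := by
  obtain ⟨R, hR, hsec⟩ := hX
  refine eq_of_cover K hR fun T f hf => ?_
  obtain ⟨s, hs⟩ := hsec f hf
  rw [← hs, Category.assoc, h, ← Category.assoc]

omit [K.toGrothendieck.Subcanonical] in
lemma act_eq_iff {a : AlgGrp.Action G X} (ha : NonAbH1.IsPseudoTorsorSch a) {Y : Scheme.{u}} (m : X.left ⟶ Y) :
    a.act.left ≫ m = (snd G X).left ≫ m ↔ pullback.fst X.hom X.hom ≫ m = pullback.snd X.hom X.hom ≫ m := by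
  have h1 : IsIso (lift a.act (snd G X)) := ha
  have h2 : IsIso (lift a.act (snd G X)).left :=
    inferInstanceAs (IsIso ((Over.forget S).map (lift a.act (snd G X))))
  rw [← cancel_epi (lift a.act (snd G X)).left]
  have e1 : (lift a.act (snd G X)).left ≫ pullback.fst X.hom X.hom = a.act.left := by
    change (lift a.act (snd G X)).left ≫ (fst X X).left = _
    rw [← Over.comp_left, lift_fst]
  have e2 : (lift a.act (snd G X)).left ≫ pullback.snd X.hom X.hom = (snd G X).left := by
    change (lift a.act (snd G X)).left ≫ (snd X X).left = _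
    rw [← Over.comp_left, lift_snd]
  rw [← Category.assoc, ← Category.assoc, e1, e2]

include K in
/-- The functions on `S` are the invariant functions on a `G`-torsor `X` -/
theorem appTop_injective_and_range [K.IsStableUnderBaseChange] (a : AlgGrp.Action G X)
    (ha : NonAbH1.IsTorsorFor K a) : Function.Injective X.hom.appTop.hom ∧
      ∀ s : Γ(X.left, ⊤), s ∈ Set.range X.hom.appTop.hom ↔
        a.act.left.appTop.hom s = (CartesianMonoidalCategory.snd G X).left.appTop.hom s := by
  have key : ∀ {Z W : Scheme.{u}} (f g : Z ⟶ W) (q : W ⟶ S) (_ : f ≫ q = g ≫ q) (s : Γ(W, ⊤)),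
      f.appTop.hom s = g.appTop.hom s ↔ f ≫ AffineSpace.homOfVector q (fun _ : PUnit.{u+1} => s) =
        g ≫ AffineSpace.homOfVector q (fun _ : PUnit.{u+1} => s) := by
    intro Z W f g q hq s
    rw [AffineSpace.comp_homOfVector, AffineSpace.comp_homOfVector]
    constructor
    · intro h
      ext i
      · simp [hq]
      · simp only [AffineSpace.homOfVector_appTop_coord, Function.comp]
        exact h
    · intro h
      have h1 := congrArg (fun z => z.appTop.hom (AffineSpace.coord S PUnit.unit)) h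
      simpa [AffineSpace.homOfVector_appTop_coord] using h1
  constructor
  · intro s s' h
    have h1 : X.hom ≫ AffineSpace.homOfVector (𝟙 S) (fun _ : PUnit.{u+1} => s) =
        X.hom ≫ AffineSpace.homOfVector (𝟙 S) (fun _ : PUnit.{u+1} => s') := by
      rw [AffineSpace.comp_homOfVector, AffineSpace.comp_homOfVector]
      congr 1
      funext i
      exact h
    have h2 := epi_of_isLocallyTrivialFor K ha.2 h1
    have h3 := congrArg (fun z => z.appTop.hom (AffineSpace.coord S PUnit.unit)) h2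
    simpa [AffineSpace.homOfVector_appTop_coord] using h3
  · intro s
    have hw : a.act.left ≫ X.hom = (snd G X).left ≫ X.hom := by
      rw [Over.w, Over.w]
    rw [key a.act.left (snd G X).left X.hom hw s]
    constructor
    · rintro ⟨s', rfl⟩
      rw [← key a.act.left (snd G X).left X.hom hw]
      change (X.hom.appTop ≫ a.act.left.appTop).hom s' = (X.hom.appTop ≫ (snd G X).left.appTop).hom s'
      rw [← Scheme.Hom.comp_appTop, ← Scheme.Hom.comp_appTop, hw]
    · intro h
      obtain ⟨t, ht⟩ := exists_desc K ha.2 _ ((act_eq_iff ha.1 _).1 h)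
      refine ⟨t.appTop.hom (AffineSpace.coord S PUnit.unit), ?_⟩
      change (t.appTop ≫ X.hom.appTop).hom _ = s
      rw [← Scheme.Hom.comp_appTop, ht]
      exact AffineSpace.homOfVector_appTop_coord _ _ _

end Sheaf

section Props

variable {S : Scheme.{u}} {G X : Over S} [GrpObj G]

/-- Properties which are local for the fpqc topology pass from a group scheme to its torsors. -/
theorem prop_of_isTorsorFor (P : MorphismProperty Scheme.{u}) [IsZariskiLocalAtTarget P]
    [P.IsStableUnderBaseChange] [P.DescendsAlong (@Surjective ⊓ @Flat ⊓ @QuasiCompact)]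
    {a : AlgGrp.Action G X} (ha : NonAbH1.IsTorsorFor Scheme.fpqcPrecoverage a) (hG : P G.hom) : P X.hom := by
  obtain ⟨hp, R, hR, hsec⟩ := ha
  refine prop_of_family P X.hom hR fun S' f hf => ?_
  obtain ⟨σ, hσ⟩ := hsec f hf
  have h1 : NonAbH1.IsPseudoTorsorSch (a.bc f) := NonAbH1.isPseudoTorsorSch_bc f hp
  let o : 𝟙_ (Over S') ⟶ Red.bc f X := Over.homMk (pullback.lift σ (𝟙 S') (by rw [hσ]; exact (Category.id_comp f).symm))
    (pullback.lift_snd _ _ _)
  have h2 : IsIso ((a.bc f).orbitMap o) := isIso_orbitMap h1 o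
  have h3 : IsIso ((a.bc f).orbitMap o).left :=
    inferInstanceAs (IsIso ((Over.forget S').map ((a.bc f).orbitMap o)))
  have h4 : ((a.bc f).orbitMap o).left ≫ (Red.bc f X).hom = (Red.bc f G).hom := Over.w _
  have h5 : P (Red.bc f G).hom := P.pullback_snd _ _ hG
  rw [← h4, P.cancel_left_of_respectsIso] at h5
  exact h5

end Props

end K554.Fpqc
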