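import Groth.Agent.FlatA.EtaleSections
import Groth.Agent.Pi1B.FlowLift
import Groth.Agent.Desc.FpqcRefine
import Mathlib.RingTheory.AdicCompletion.Completeness

/-!
# Sections of smooth surjective morphisms over étale covers, and over power series rings

* `exists_finite_cover`: an étale covering family of an affine scheme by affines is refined by one étale
  surjective morphism from an affine scheme.
* `exists_etale_ring`: a smooth surjective `P ⟶ Spec R` has a section over some étale faithfully flat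
  `R'`.
* `exists_section_powerSeries`: an affine smooth surjective `P ⟶ Spec R⟦X⟧` has a section over `R'⟦X⟧` for some
  étale faithfully flat `R'`.
-/

set_option autoImplicit false
universe u

open CategoryTheory CategoryTheory.Limits AlgebraicGeometry

namespace K554.EtaleSec

theorem exists_etale_affine {S P₀ : Scheme.{u}} [IsAffine S] (p : P₀ ⟶ S) [Smooth p] [Surjective p] :
    ∃ (Y : Scheme.{u}) (g : Y ⟶ S), IsAffine Y ∧ Etale g ∧ Surjective g ∧ ∃ s : Y ⟶ P₀, s ≫ p = g := by
  have hex : ∀ s : S, ∃ (V : Scheme.{u}) (g : V ⟶ S), Etale g ∧ s ∈ Set.range g ∧ ∃ h : V ⟶ P₀, h ≫ p = g := by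
    intro s
    obtain ⟨S', g, s', h1, h2, h, h3⟩ := Groth.Agent.FlatA.EtaleSections.exists_section p s (p.surjective s)
    exact ⟨S', g, h1, ⟨s', h2⟩, h, h3⟩
  choose V g hg hr h hh using hex
  have hf : Presieve.ofArrows V g ∈ Scheme.fpqcPrecoverage S := by
    apply Scheme.fppfPrecoverage_le_fpqcPrecoverage
    rw [Scheme.fppfPrecoverage, Scheme.ofArrows_mem_precoverage_iff]
    refine ⟨fun x => ⟨x, hr x⟩, fun x => ?_⟩
    have := hg x
    exact ⟨inferInstance, inferInstance⟩
  obtain ⟨n, W, α, q, hq1, hq2, hq3, hq4⟩ := Groth.Agent.Desc.FpqcRefine.exists_refine g hf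
  let W' : ULift.{u} (Fin n) → Scheme.{u} := fun k => W k.down
  let Q : ∐ W' ⟶ S := Sigma.desc (fun k => q k.down ≫ g (α k.down))
  have hW' : ∀ k, IsAffine (W' k) := fun k => hq2 k.down
  have hQ : ∀ i : ULift.{u} (Fin n), Sigma.ι W' i ≫ Q = q i.down ≫ g (α i.down) := fun i => Sigma.ι_desc _ _
  refine ⟨∐ W', Q, inferInstance, ?_, ?_, Sigma.desc (fun k => q k.down ≫ h (α k.down)), ?_⟩
  · rw [IsZariskiLocalAtSource.iff_of_openCover (P := @Etale) (sigmaOpenCover W')]
    intro i
    have h1 : (sigmaOpenCover W').f i ≫ Q = q (ULift.down i) ≫ g (α (ULift.down i)) := hQ i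
    rw [h1]
    have a1 := hg (α (ULift.down i))
    have a2 := hq1 (ULift.down i)
    have a3 : Etale (q (ULift.down i)) := inferInstance
    exact MorphismProperty.comp_mem @Etale _ _ a3 a1
  · refine ⟨fun s => ?_⟩
    obtain ⟨k, w, hw⟩ := hq4 s
    refine ⟨Sigma.ι W' ⟨k⟩ w, ?_⟩
    rw [← Scheme.Hom.comp_apply, hQ]
    exact hw
  · refine Sigma.hom_ext _ _ fun i => ?_
    rw [Sigma.ι_desc_assoc, Category.assoc, hh, hQ]

theorem exists_etale_ring (R : Type u) [CommRing R] {P₀ : Scheme.{u}} (p : P₀ ⟶ Spec (CommRingCat.of R)) [Smooth p]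
    [Surjective p] : ∃ (R' : Type u) (_ : CommRing R') (_ : Algebra R R'),
      Algebra.Etale R R' ∧ Module.FaithfullyFlat R R' ∧
      ∃ s : Spec (CommRingCat.of R') ⟶ P₀, s ≫ p = Spec.map (CommRingCat.ofHom (algebraMap R R')) := by
  obtain ⟨Y, g, hY, h1, h2, s, hs⟩ := exists_etale_affine p
  let φ : CommRingCat.of R ⟶ Γ(Y, ⊤) := Spec.preimage (Y.isoSpec.inv ≫ g)
  have hφ : Spec.map φ = Y.isoSpec.inv ≫ g := Spec.map_preimage _
  let _ : Algebra R Γ(Y, ⊤) := φ.hom.toAlgebra
  have e1 : Etale (Spec.map φ) := by rw [hφ]; infer_instance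
  have e2 : Flat (Spec.map φ) := inferInstance
  have e3 : Surjective (Spec.map φ) := by rw [hφ]; infer_instance
  refine ⟨Γ(Y, ⊤), inferInstance, inferInstance, ?_, ?_, Y.isoSpec.inv ≫ s, ?_⟩
  · exact RingHom.etale_algebraMap.1 (HasRingHomProperty.Spec_iff (P := @Etale).1 e1)
  · exact (RingHom.faithfullyFlat_algebraMap_iff).1 ((flat_and_surjective_SpecMap_iff φ).1 ⟨e2, e3⟩)
  · rw [Category.assoc, hs]
    exact hφ.symm

/-- Lifting a point of a smooth affine scheme from `R'` to `R'⟦X⟧`. -/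
theorem exists_lift_powerSeries (R : Type u) [CommRing R] {P : Scheme.{u}} [IsAffine P]
    (p : P ⟶ Spec (CommRingCat.of (PowerSeries R))) [Smooth p] (R' : Type u) [CommRing R'] [Algebra R R']
    (s : Spec (CommRingCat.of R') ⟶ P)
    (hs : s ≫ p = Spec.map (CommRingCat.ofHom (algebraMap R R')) ≫
      Spec.map (CommRingCat.ofHom (PowerSeries.constantCoeff (R := R)))) :
    ∃ σ : Spec (CommRingCat.of (PowerSeries R')) ⟶ P,
      σ ≫ p = Spec.map (CommRingCat.ofHom (PowerSeries.map (algebraMap R R'))) := by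
  let φ : CommRingCat.of (PowerSeries R) ⟶ Γ(P, ⊤) := Spec.preimage (P.isoSpec.inv ≫ p)
  have hφ : Spec.map φ = P.isoSpec.inv ≫ p := Spec.map_preimage _
  have hφ' : P.isoSpec.hom ≫ Spec.map φ = p := by rw [hφ, Iso.hom_inv_id_assoc]
  let ψ : Γ(P, ⊤) ⟶ CommRingCat.of R' := Spec.preimage (s ≫ P.isoSpec.hom)
  have hψ : Spec.map ψ = s ≫ P.isoSpec.hom := Spec.map_preimage _
  let _ : Algebra (PowerSeries R) Γ(P, ⊤) := φ.hom.toAlgebra
  have e1 : Smooth (Spec.map φ) := by rw [hφ]; infer_instance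
  have e2 : Algebra.Smooth (PowerSeries R) Γ(P, ⊤) :=
    RingHom.smooth_algebraMap.1 (HasRingHomProperty.Spec_iff (P := @Smooth).1 e1)
  have hker : RingHom.ker (PowerSeries.constantCoeff (R := R')) = Ideal.span {PowerSeries.X} := by
    ext x
    rw [RingHom.mem_ker, Ideal.mem_span_singleton, PowerSeries.X_dvd_iff]
  have hadic : IsAdicComplete (RingHom.ker (PowerSeries.constantCoeff (R := R'))) (PowerSeries R') := by
    rw [hker]; infer_instance
  obtain ⟨θ, hθ1, hθ2⟩ := Groth.Agent.Pi1B.FlowLift.exists_lift (B := PowerSeries R) (S := Γ(P, ⊤))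
    (PowerSeries.constantCoeff (R := R')) (PowerSeries.constantCoeff_surj)
    (PowerSeries.map (algebraMap R R')) ψ.hom (by
      have h1 : φ ≫ ψ = CommRingCat.ofHom (PowerSeries.constantCoeff (R := R)) ≫
          CommRingCat.ofHom (algebraMap R R') := by
        apply Spec.map_injective
        rw [Spec.map_comp, Spec.map_comp, hψ, Category.assoc, hφ', hs]
      ext x
      have h2 := congrArg (fun z => z.hom x) h1
      change ψ.hom (φ.hom x) = _
      rw [RingHom.comp_apply, ← PowerSeries.coeff_zero_eq_constantCoeff_apply, PowerSeries.coeff_map,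
        PowerSeries.coeff_zero_eq_constantCoeff_apply]
      exact h2)
  refine ⟨Spec.map (CommRingCat.ofHom θ) ≫ P.isoSpec.inv, ?_⟩
  rw [Category.assoc, ← hφ, ← Spec.map_comp]
  congr 1
  ext x n
  exact congrArg (fun z => PowerSeries.coeff n (z x)) hθ2

/-- An affine smooth surjective `P ⟶ Spec R⟦X⟧` has a section over `R'⟦X⟧`, `R'` étale faithfully flat over `R`. -/
theorem exists_section_powerSeries (R : Type u) [CommRing R] {P : Scheme.{u}} [IsAffine P]
    (p : P ⟶ Spec (CommRingCat.of (PowerSeries R))) [Smooth p] [Surjective p] :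
    ∃ (R' : Type u) (_ : CommRing R') (_ : Algebra R R'),
      Algebra.Etale R R' ∧ Module.FaithfullyFlat R R' ∧
      ∃ σ : Spec (CommRingCat.of (PowerSeries R')) ⟶ P,
        σ ≫ p = Spec.map (CommRingCat.ofHom (PowerSeries.map (algebraMap R R'))) := by
  obtain ⟨R', _, _, h1, h2, s, hs⟩ := exists_etale_ring R
    (pullback.snd p (Spec.map (CommRingCat.ofHom (PowerSeries.constantCoeff (R := R)))))
  obtain ⟨σ, hσ⟩ := exists_lift_powerSeries R p R' (s ≫ pullback.fst _ _) (by
    rw [Category.assoc, pullback.condition, ← Category.assoc, hs])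
  exact ⟨R', inferInstance, inferInstance, h1, h2, σ, hσ⟩

end K554.EtaleSec
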