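import Groth.Agent.NonAbH1.K554.FibProd

/-!
# More on torsors for the fpqc precoverage
-/

set_option autoImplicit false
universe u

open CategoryTheory CategoryTheory.Limits MonoidalCategory CartesianMonoidalCategory MonObj GrpObj AlgebraicGeometry
open Groth.Agent.Books.BorelOrb K554.Fpqc

namespace K554.Fpqc2

/-- members of fpqc covering families are jointly surjective -/
theorem exists_mem_of_fpqc {S : Scheme.{u}} {R : Presieve S} (hR : R ∈ Scheme.fpqcPrecoverage S) (s : S) :
    ∃ (S' : Scheme.{u}) (f : S' ⟶ S) (_ : R f) (s' : S'), f s' = s := by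
  obtain ⟨ι', Y, f, rfl⟩ := R.exists_eq_ofArrows
  have h : Presieve.ofArrows Y f ∈ Scheme.precoverage @Flat S := hR.2
  rw [Scheme.ofArrows_mem_precoverage_iff] at h
  obtain ⟨i, s', hs'⟩ := h.1 s
  exact ⟨Y i, f i, Presieve.ofArrows.mk i, s', hs'⟩

/-- members of fpqc covering families are flat -/
theorem flat_of_fpqc {S : Scheme.{u}} {R : Presieve S} (hR : R ∈ Scheme.fpqcPrecoverage S) {S' : Scheme.{u}}
    (f : S' ⟶ S) (hf : R f) : Flat f := by
  have h : R ∈ Scheme.precoverage @Flat S := hR.2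
  exact h.2 hf

theorem surjective_of_isLocallyTrivialFor {S : Scheme.{u}} {X : Over S}
    (h : NonAbH1.IsLocallyTrivialFor Scheme.fpqcPrecoverage X) : Surjective X.hom := by
  obtain ⟨R, hR, hsec⟩ := h
  refine ⟨fun s => ?_⟩
  obtain ⟨S', f, hf, s', rfl⟩ := exists_mem_of_fpqc hR s
  obtain ⟨σ, hσ⟩ := hsec f hf
  exact ⟨σ s', by rw [← Scheme.Hom.comp_apply, hσ]⟩

/-- a flat quasi-compact surjective `X ⟶ S` is locally trivial for the fpqc topology -/
theorem isLocallyTrivialFor_of_flat {S : Scheme.{u}} (X : Over S) [Flat X.hom] [Surjective X.hom]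
    [QuasiCompact X.hom] : NonAbH1.IsLocallyTrivialFor Scheme.fpqcPrecoverage X := by
  refine ⟨Presieve.singleton X.hom, Scheme.Hom.singleton_mem_fpqcPrecoverage _, ?_⟩
  rintro S' g ⟨⟩
  exact ⟨𝟙 _, Category.id_comp _⟩

/-- a flat surjective `X ⟶ S` locally of finite presentation is locally trivial for the fppf topology -/
theorem isLocallyTrivialFor_fppf_of_flat {S : Scheme.{u}} (X : Over S) [Flat X.hom] [Surjective X.hom]
    [LocallyOfFinitePresentation X.hom] : NonAbH1.IsLocallyTrivialFor Scheme.fppfPrecoverage X := by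
  refine ⟨Presieve.singleton X.hom, Scheme.Hom.singleton_mem_fppfPrecoverage _, ?_⟩
  rintro S' g ⟨⟩
  exact ⟨𝟙 _, Category.id_comp _⟩

end K554.Fpqc2
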