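import Groth.Agent.NonAbH1.K554.FreeQuot
import Groth.Agent.Ega2.Normal
import Groth.Agent.S0429
import Groth.Agent.S3843
import Groth.Agent.S14141
import Groth.Agent.Ega4dB.SchDense

/-!
# Extending isomorphisms of torsors under a finite flat group over a normal base
-/

set_option autoImplicit false
universe u

open CategoryTheory CategoryTheory.Limits MonoidalCategory CartesianMonoidalCategory MonObj GrpObj AlgebraicGeometry
open Groth.Agent.Books.BorelOrb K554.Fpqc K554.Fpqc2 K554.BcPt K554.FibAct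

namespace K554.ExtTors

lemma mk_def {S S' : Scheme.{u}} (f : S' ⟶ S) {G : Over S} {Y : Over S'} (g : (Over.map f).obj Y ⟶ G) :
    (Over.mapPullbackAdj f).homEquiv Y G g = mk f g := rfl

lemma un_sm {S S' : Scheme.{u}} (f : S' ⟶ S) {G X : Over S} [GrpObj G] (a : AlgGrp.Action G X) {Y : Over S'}
    (g : Y ⟶ Red.bc f G) (x : Y ⟶ Red.bc f X) : un f (sm (a.bc f) g x) = sm a (un f g) (un f x) := by
  apply mk_injective f
  rw [mk_un]
  have h := AlgGrp.Action.lift_homEquiv_bc_act f a (un f g) (un f x)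
  rw [mk_def, mk_def, mk_def, mk_un, mk_un] at h
  exact h

lemma mk_sm {S S' : Scheme.{u}} (f : S' ⟶ S) {G X : Over S} [GrpObj G] (a : AlgGrp.Action G X) {Y : Over S'}
    (g : (Over.map f).obj Y ⟶ G) (x : (Over.map f).obj Y ⟶ X) : mk f (sm a g x) = sm (a.bc f) (mk f g) (mk f x) := by
  apply un_injective f
  rw [un_sm, un_mk, un_mk, un_mk]

/-- A rational section of an integral morphism onto a normal integral scheme extends. -/
theorem exists_section {X Y : Scheme.{u}} [IsIntegral X] (hX : Pi1.IsNormalScheme X) (g : Y ⟶ X)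
    [IsIntegralHom g] (U : X.Opens) (hU : (U : Set X).Nonempty) [QuasiCompact U.ι] (s : (U : Scheme.{u}) ⟶ Y)
    (hs : s ≫ g = U.ι) : ∃ s' : X ⟶ Y, s' ≫ g = 𝟙 X ∧ U.ι ≫ s' = s := by
  have : Nonempty (U : Scheme.{u}) := hU.to_subtype
  have : QuasiCompact (s ≫ g) := by rw [hs]; infer_instance
  have : QuasiCompact s := QuasiCompact.of_comp s g
  have : IsIntegral s.image := Groth.Agent.Ega2.Normal.isIntegral_image s
  have h1 : s.toImage ≫ (s.imageι ≫ g) = U.ι := by rw [Scheme.Hom.toImage_imageι_assoc, hs]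
  have h2 : IsIso (s.imageι ≫ g) :=
    Groth.Agent.Ega2.Normal.isIso_of_integral_hom_of_rational_section hX (s.imageι ≫ g) U hU s.toImage h1
  refine ⟨inv (s.imageι ≫ g) ≫ s.imageι, by rw [Category.assoc, IsIso.inv_hom_id], ?_⟩
  rw [← h1, Category.assoc, IsIso.hom_inv_id_assoc, Scheme.Hom.toImage_imageι]

section Dense

variable {X : Scheme.{u}} [IsIntegral X]

/-- morphisms from a flat `X`-scheme to a separated one agreeing over a nonempty open of the integral `X` agree. -/
lemma ext_of_dense {Y Z : Over X} [Flat Y.hom] [LocallyOfFinitePresentation Y.hom] [IsSeparated Z.hom]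
    (U : X.Opens) (hU : (U : Set X).Nonempty) (f g : Y ⟶ Z)
    (h : ∀ (T : Over X) (_ : T ⟶ Over.mk U.ι) (y : T ⟶ Y), y ≫ f = y ≫ g) : f = g := by
  have hU' : Dense (U : Set X) := U.isOpen.dense hU
  have h1 : CInt.IsSchematicallyDense U := Groth.Agent.S14141.isSchematicallyDense_of_dense U hU'
  have h2 : CInt.IsSchematicallyDense (Y.hom ⁻¹ᵁ U) := Groth.Agent.S3843.result Y.hom U h1
  apply Over.OverMorphism.ext
  refine Groth.Agent.Ega4dB.SchDense.ext_of_isSchematicallyDense Z.hom (by rw [Over.w, Over.w]) _ h2 ?_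
  let T : Over X := Over.mk ((Y.hom ⁻¹ᵁ U).ι ≫ Y.hom)
  let w : T ⟶ Over.mk U.ι := Over.homMk (Y.hom ∣_ U) (morphismRestrict_ι _ _)
  let y : T ⟶ Y := Over.homMk (Y.hom ⁻¹ᵁ U).ι rfl
  exact congrArg CommaMorphism.left (h T w y)

end Dense

section Prod

variable {X : Scheme.{u}} {G P Q : Over X} [GrpObj G] (a : AlgGrp.Action G P) (a' : AlgGrp.Action G Q)

/-- the diagonal action on a product -/
noncomputable def prodAct : AlgGrp.Action G (P ⊗ Q) :=
  mkAction (lift (sm a (fst G (P ⊗ Q)) (snd G (P ⊗ Q) ≫ fst P Q)) (sm a' (fst G (P ⊗ Q)) (snd G (P ⊗ Q) ≫ snd P Q)))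
    (by
      intro T x
      apply CartesianMonoidalCategory.hom_ext
      · rw [Category.assoc, lift_fst, comp_sm, lift_fst, lift_snd_assoc, one_sm]
      · rw [Category.assoc, lift_snd, comp_sm, lift_fst, lift_snd_assoc, one_sm])
    (by
      intro T g h x
      apply CartesianMonoidalCategory.hom_ext
      · simp only [Category.assoc, lift_fst, comp_sm, lift_snd_assoc, mul_sm]
      · simp only [Category.assoc, lift_snd, comp_sm, lift_fst, lift_snd_assoc, mul_sm])

lemma sm_prodAct {T : Over X} (g : T ⟶ G) (x : T ⟶ P ⊗ Q) :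
    sm (prodAct a a') g x = lift (sm a g (x ≫ fst P Q)) (sm a' g (x ≫ snd P Q)) := by
  rw [prodAct, sm_mkAction]
  apply CartesianMonoidalCategory.hom_ext
  · simp only [Category.assoc, lift_fst, comp_sm, lift_snd_assoc]
  · simp only [Category.assoc, lift_snd, comp_sm, lift_fst, lift_snd_assoc]

lemma mono_prodAct (ha : NonAbH1.IsPseudoTorsorSch a) : Mono (lift (prodAct a a').act (snd G (P ⊗ Q))) := by
  refine ⟨fun {T} s t h => ?_⟩
  rw [comp_lift, comp_lift] at h
  have h1 := congrArg (· ≫ fst _ _) h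
  have h2 := congrArg (· ≫ snd _ _) h
  simp only [lift_fst, lift_snd] at h1 h2
  apply CartesianMonoidalCategory.hom_ext
  · have h3 : ∀ r : T ⟶ G ⊗ (P ⊗ Q), r ≫ (prodAct a a').act = sm (prodAct a a') (r ≫ fst _ _) (r ≫ snd _ _) := by
      intro r
      rw [sm, lift_comp_fst_snd]
    rw [h3, h3, h2, sm_prodAct, sm_prodAct] at h1
    have h4 := congrArg (· ≫ fst _ _) h1
    simp only [lift_fst] at h4
    exact sm_injective ha _ h4
  · exact h2

end Prod

section Fibre

variable {X : Scheme.{u}} {G Y M : Over X} [GrpObj G] (b : AlgGrp.Action G Y) (q : Y ⟶ M)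
    (hq : ∀ (T : Over X) (y y' : T ⟶ Y), y ≫ q = y' ≫ q ↔ ∃ g : T ⟶ G, sm b g y' = y)
    (σ : 𝟙_ (Over X) ⟶ M)

/-- the action on the fibre of the quotient over a section -/
noncomputable def fibAct : AlgGrp.Action G (pullback q σ) :=
  mkAction (pullback.lift (sm b (fst G (pullback q σ)) (snd G (pullback q σ) ≫ pullback.fst q σ)) (toUnit _) (by
      rw [(hq _ _ _).2 ⟨_, rfl⟩, Category.assoc, pullback.condition, ← Category.assoc]
      congr 1
      exact toUnit_unique _ _))
    (by
      intro T x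
      apply pullback.hom_ext
      · rw [Category.assoc, pullback.lift_fst, comp_sm, lift_fst, lift_snd_assoc, one_sm]
      · exact toUnit_unique _ _)
    (by
      intro T g h x
      apply pullback.hom_ext
      · simp only [Category.assoc, pullback.lift_fst, comp_sm, lift_fst, lift_snd_assoc, mul_sm]
      · exact toUnit_unique _ _)

lemma sm_fibAct {T : Over X} (g : T ⟶ G) (x : T ⟶ pullback q σ) :
    sm (fibAct b q hq σ) g x ≫ pullback.fst q σ = sm b g (x ≫ pullback.fst q σ) := by
  rw [fibAct, sm_mkAction, Category.assoc, pullback.lift_fst, comp_sm, lift_fst, lift_snd_assoc]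

lemma isPseudoTorsorSch_fibAct [hm : Mono (lift b.act (snd G Y))] :
    NonAbH1.IsPseudoTorsorSch (fibAct b q hq σ) := by
  rw [isPseudoTorsorSch_iff]
  intro T x x'
  have h1 : (x ≫ pullback.fst q σ) ≫ q = (x' ≫ pullback.fst q σ) ≫ q := by
    simp only [Category.assoc, pullback.condition]
    rw [← Category.assoc, ← Category.assoc]
    congr 1
    exact toUnit_unique _ _
  obtain ⟨g, hg⟩ := (hq _ _ _).1 h1
  refine ⟨g, ?_, ?_⟩
  · apply pullback.hom_ext
    · rw [sm_fibAct, hg]
    · exact toUnit_unique _ _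
  · intro g' hg'
    have h2 := congrArg (· ≫ pullback.fst q σ) hg'
    rw [sm_fibAct, ← hg] at h2
    have h3 : lift g' (x' ≫ pullback.fst q σ) ≫ lift b.act (snd G Y) =
        lift g (x' ≫ pullback.fst q σ) ≫ lift b.act (snd G Y) := by
      rw [comp_lift, comp_lift, lift_snd, lift_snd]
      congr 1
    rw [cancel_mono] at h3
    have h4 := congrArg (· ≫ fst _ _) h3
    simpa using h4

end Fibre

end K554.ExtTors
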