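import Groth.Agent.NonAbH1.K554.RelAff
import Groth.Agent.NonAbH1.K554.ExtTors
import Groth.Agent.PrincBund.K826.BcTors
import Groth.Agent.NonAbH1.K551.Tors
import Groth.Agent.SGA1.K151.TorsFpqc

/-!
# Descent of an action along an `O`-connected faithfully flat morphism

`exists_descAct`: `f : X ⟶ Y` flat surjective qcqs with `O_Y = f_* O_X`, `H` a flat group scheme over `Y`, `Z` flat and
affine over `Y`; an action of `f^* H` on an `X`-scheme isomorphic to `f^* Z` comes from an action of `H` on `Z`.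
-/

set_option autoImplicit false
universe u

open CategoryTheory CategoryTheory.Limits MonoidalCategory CartesianMonoidalCategory MonObj GrpObj AlgebraicGeometry
open Groth.Agent.Books.BorelOrb K554.Fpqc K554.FibAct K554.BcPt K554.ExtTors

namespace K554.DescAct

variable {X Y : Scheme.{u}} (f : X ⟶ Y)

/-- the counit `P ×_Y X ⟶ P` -/
noncomputable abbrev cou (P : Over Y) : (Over.map f).obj ((Over.pullback f).obj P) ⟶ P :=
  un f (𝟙 (Red.bc f P))

lemma cou_left (P : Over Y) : (cou f P).left = pullback.fst P.hom f := by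
  rw [cou, un_left]
  exact Category.id_comp _

lemma map_mk_cou {T : Over X} {P : Over Y} (g : (Over.map f).obj T ⟶ P) :
    (Over.map f).map (mk f g) ≫ cou f P = g := by
  rw [cou, ← un_comp, Category.comp_id, un_mk]

theorem cou_epi [Flat f] [Surjective f] {P Z : Over Y} {a b : P ⟶ Z} (h : cou f P ≫ a = cou f P ≫ b) : a = b := by
  have h0 : Epi (pullback.fst P.hom f) := Flat.epi_of_flat_of_surjective _
  apply Over.OverMorphism.ext
  have h1 := congrArg (fun m => m.left) h
  simp only [Over.comp_left, cou_left] at h1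
  exact (cancel_epi (pullback.fst P.hom f)).1 h1

theorem cou_fac [QuasiCompact f] [QuasiSeparated f] (hf : ∀ V : Y.Opens, IsIso (f.app V)) {P Z : Over Y}
    [Flat P.hom] [IsAffineHom Z.hom] (v : (Over.map f).obj ((Over.pullback f).obj P) ⟶ Z) :
    ∃ w : P ⟶ Z, cou f P ≫ w = v := by
  have H : IsPullback (pullback.snd P.hom f) (pullback.fst P.hom f) f P.hom :=
    (IsPullback.of_hasPullback P.hom f).flip
  have h1 : ∀ V : P.left.Opens, IsIso ((pullback.fst P.hom f).app V) :=
    K436.FibBC.isIso_app_of_isPullback H hf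
  have h2 : v.left ≫ Z.hom = pullback.fst P.hom f ≫ P.hom := by
    rw [Over.w, pullback.condition]
    rfl
  obtain ⟨w, hw1, hw2⟩ := RelAff.existsUnique_fac (pullback.fst P.hom f) h1 P.hom Z.hom v.left h2
  refine ⟨Over.homMk w hw1, ?_⟩
  apply Over.OverMorphism.ext
  rw [Over.comp_left, cou_left]
  exact hw2

theorem exists_descAct [QuasiCompact f] [QuasiSeparated f] [Flat f] [Surjective f]
    (hf : ∀ V : Y.Opens, IsIso (f.app V)) {H Z : Over Y} [GrpObj H] [Flat H.hom] [Flat Z.hom] [IsAffineHom Z.hom]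
    {T : Over X} (u : T ≅ Red.bc f Z) (a : AlgGrp.Action (Red.bc f H) T) :
    ∃ a' : AlgGrp.Action H Z, Nonempty (NonAbH1.EquivIso (a'.bc f) a) := by
  have hflat : Flat (H ⊗ Z).hom := by
    have : Flat (pullback.fst H.hom Z.hom ≫ H.hom) := inferInstance
    exact this
  obtain ⟨m, hm⟩ := cou_fac f hf (P := H ⊗ Z) (Z := Z)
    (un f (sm a (mk f (cou f (H ⊗ Z) ≫ fst H Z)) (mk f (cou f (H ⊗ Z) ≫ snd H Z) ≫ u.inv) ≫ u.hom))
  have key : ∀ {Q : Over X} (g : (Over.map f).obj Q ⟶ H) (z : (Over.map f).obj Q ⟶ Z),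
      lift g z ≫ m = un f (sm a (mk f g) (mk f z ≫ u.inv) ≫ u.hom) := by
    intro Q g z
    have h1 : lift g z = (Over.map f).map (mk f (lift g z)) ≫ cou f (H ⊗ Z) := (map_mk_cou f _).symm
    rw [h1, Category.assoc, hm, ← un_comp, ← Category.assoc, comp_sm, comp_mk, ← Category.assoc, map_mk_cou, lift_fst,
      ← Category.assoc (mk f (lift g z)), comp_mk, ← Category.assoc ((Over.map f).map _), map_mk_cou, lift_snd]
  have key' : ∀ {Q : Over X} (g : (Over.map f).obj Q ⟶ H) (z : (Over.map f).obj Q ⟶ Z),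
      mk f (lift g z ≫ m) = sm a (mk f g) (mk f z ≫ u.inv) ≫ u.hom := by
    intro Q g z
    rw [key, mk_un]
  let a' : AlgGrp.Action H Z := mkAction m
    (by
      intro Q z
      apply cou_epi f
      rw [comp_lift_assoc, MonObj.comp_one, key, mk_one, one_sm, Category.assoc, u.inv_hom_id, Category.comp_id, un_mk])
    (by
      intro Q g h z
      apply cou_epi f
      rw [comp_lift_assoc, MonObj.comp_mul, comp_lift_assoc, comp_lift_assoc, key, key, key', Category.assoc, u.hom_inv_id,
        Category.comp_id, mk_mul, mul_sm])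
  refine ⟨a', ⟨K551.Tors.equivIsoOfPoints u.symm ?_⟩⟩
  intro Q g z
  have h1 : sm (a'.bc f) g z = sm a g (z ≫ u.inv) ≫ u.hom := by
    have h2 := key' (un f g) (un f z)
    rw [mk_un, mk_un] at h2
    rw [← h2, ← mk_un f g, ← mk_un f z, ← mk_sm, un_mk, un_mk]
    rfl
  rw [h1, Category.assoc, Iso.symm_hom, u.hom_inv_id, Category.comp_id]

/-- The torsor version. -/
theorem isTorsorFor_of_descAct [QuasiCompact f] [Flat f] [Surjective f]
    {H Z : Over Y} [GrpObj H] [Flat Z.hom] [Surjective Z.hom] [LocallyOfFinitePresentation Z.hom]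
    {T : Over X} (a : AlgGrp.Action (Red.bc f H) T) (ha : NonAbH1.IsPseudoTorsorSch a) (a' : AlgGrp.Action H Z)
    (e : NonAbH1.EquivIso (a'.bc f) a) : NonAbH1.IsTorsorFor Scheme.fppfPrecoverage a' := by
  refine ⟨?_, Fpqc2.isLocallyTrivialFor_fppf_of_flat Z⟩
  have h1 : NonAbH1.IsPseudoTorsorSch (a'.bc f) :=
    K151.TorsFpqc.isPseudoTorsorSch_of_equivIso (K551.Tors.equivIsoSymm e) ha
  have h2 := (K826.BcTors.isPseudoTorsorSch_bc_iff f a' (a'.bc f) rfl).1 h1
  exact K826.BcTors.isIso_of_isIso_map f _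

end K554.DescAct
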