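import Groth.Agent.NonAbH1.K554.ExtTors
import Groth.Agent.NonAbH1.K551.Tors
import Groth.Agent.PrincBund.K826.Descend

/-!
# Extending isomorphisms of torsors under a finite flat group over a normal base: affine case and globalisation
-/

set_option autoImplicit false
universe u

open CategoryTheory CategoryTheory.Limits MonoidalCategory CartesianMonoidalCategory MonObj GrpObj AlgebraicGeometry
open Groth.Agent.Books.BorelOrb K554.Fpqc K554.Fpqc2 K554.BcPt K554.FibAct K554.ExtTors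

namespace K554.ExtIso

lemma flat_of_torsor {X : Scheme.{u}} {G P : Over X} [GrpObj G] {a : AlgGrp.Action G P}
    (ha : NonAbH1.IsTorsorFor Scheme.fppfPrecoverage a) [IsFinite G.hom] [Flat G.hom] : Flat P.hom := by
  have h1 : NonAbH1.IsTorsorFor Scheme.fpqcPrecoverage a := FibProd.isTorsorFor_mono Scheme.fppfPrecoverage_le_fpqcPrecoverage ha
  have := FibProd.flat_descends
  exact prop_of_isTorsorFor @Flat h1 inferInstance

section Affine

variable {X : Scheme.{u}} [IsIntegral X] (hX : Pi1.IsNormalScheme X) {G P Q : Over X} [GrpObj G]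
  [IsFinite G.hom] [Flat G.hom] {a : AlgGrp.Action G P} {a' : AlgGrp.Action G Q}
  (ha : NonAbH1.IsTorsorFor Scheme.fppfPrecoverage a) (ha' : NonAbH1.IsTorsorFor Scheme.fppfPrecoverage a')
  (U : X.Opens) (hU : (U : Set X).Nonempty) (φ : Over.mk U.ι ⊗ P ⟶ Q)
  (hφ : ∀ (T : Over X) (w : T ⟶ Over.mk U.ι) (g : T ⟶ G) (p : T ⟶ P),
    lift w (sm a g p) ≫ φ = sm a' g (lift w p ≫ φ))

include hX ha ha' hU hφ in
/-- The case of an affine base and a quasi-compact open. -/
theorem affine_qc [IsAffine X] [QuasiCompact U.ι] : ∃ ψ : P ⟶ Q, AlgGrp.Action.IsEquivariant a a' ψ ∧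
    ∀ (T : Over X) (w : T ⟶ Over.mk U.ι) (p : T ⟶ P), p ≫ ψ = lift w p ≫ φ := by
  have hlfp : LocallyOfFinitePresentation G.hom := Groth.Agent.S0429.result G.hom
  have hP1 : IsFinite P.hom := K551.Tors.isFinite_of_torsor ha
  have hQ1 : IsFinite Q.hom := K551.Tors.isFinite_of_torsor ha'
  have hP2 : Flat P.hom := flat_of_torsor ha
  have hQ2 : Flat Q.hom := flat_of_torsor ha'
  let Y : Over X := P ⊗ Q
  have hY1 : IsFinite Y.hom := by
    have h1 : IsFinite (pullback.fst P.hom Q.hom) := inferInstance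
    exact inferInstanceAs (IsFinite (pullback.fst P.hom Q.hom ≫ P.hom))
  have hYa : IsAffine Y.left := isAffine_of_isAffineHom Y.hom
  let b : AlgGrp.Action G Y := prodAct a a'
  have hmono : Mono (lift b.act (snd G Y)) := mono_prodAct a a' ha.1
  obtain ⟨M, q, hMa, hq1, hq2, hq3, hq4, hq⟩ := FreeQuot.exists_quotient b
  -- `M ⟶ X` is integral
  have hM : IsIntegralHom M.hom := by
    rw [IsIntegralHom.iff_universallyClosed_and_isAffineHom]
    have h1 : q.left ≫ M.hom = Y.hom := Over.w q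
    have h2 : UniversallyClosed (q.left ≫ M.hom) := by rw [h1]; infer_instance
    exact ⟨UniversallyClosed.of_comp_surjective q.left M.hom, inferInstance⟩
  -- the rational section
  obtain ⟨σ₀, hσ₀, -⟩ := K826.Descend.existsUnique_descend Scheme.fppfPrecoverage_le_fpqcPrecoverage ha.2
    (T := Over.mk U.ι) (Y := M) (lift (snd _ P) φ ≫ q) (by
      intro T t x x'
      rw [comp_lift_assoc, comp_lift_assoc, lift_snd, lift_snd, hq]
      refine ⟨dif ha.1 x x', ?_⟩
      rw [sm_prodAct, lift_fst, lift_snd, sm_dif, ← hφ, sm_dif])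
  obtain ⟨s, hs1, hs2⟩ := exists_section hX M.hom U hU σ₀.left (Over.w σ₀)
  let σ : 𝟙_ (Over X) ⟶ M := Over.homMk s hs1
  have hσ : ∀ (T : Over X) (w : T ⟶ Over.mk U.ι), toUnit T ≫ σ = w ≫ σ₀ := by
    intro T w
    apply Over.OverMorphism.ext
    change (toUnit T).left ≫ s = w.left ≫ σ₀.left
    rw [← hs2, ← Category.assoc]
    congr 1
    exact (Over.toUnit_left.trans (Over.w w).symm)
  let Z : Over X := pullback q σ
  let c : AlgGrp.Action G Z := fibAct b q hq σ
  have hc : NonAbH1.IsPseudoTorsorSch c := isPseudoTorsorSch_fibAct b q hq σ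
  have hpb : IsPullback (pullback.fst q σ).left (pullback.snd q σ).left q.left s :=
    (IsPullback.of_hasPullback q σ).map (Over.forget X)
  have hZ0 : Z.hom = (pullback.snd q σ).left := by
    have h1 := Over.w (pullback.snd q σ)
    rw [← h1]
    exact Category.comp_id _
  have hZ1 : Flat Z.hom := by
    rw [hZ0]
    exact MorphismProperty.of_isPullback (P := @Flat) hpb hq2
  have hZ2 : LocallyOfFinitePresentation Z.hom := by
    rw [hZ0]
    exact MorphismProperty.of_isPullback (P := @LocallyOfFinitePresentation) hpb hq3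
  have hZ3 : Surjective Z.hom := by
    rw [hZ0]
    exact MorphismProperty.of_isPullback (P := @Surjective) hpb hq4
  have hct : NonAbH1.IsTorsorFor Scheme.fppfPrecoverage c := ⟨hc, isLocallyTrivialFor_fppf_of_flat Z⟩
  -- the two projections
  let u : Z ⟶ P := pullback.fst q σ ≫ fst P Q
  let v : Z ⟶ Q := pullback.fst q σ ≫ snd P Q
  have hu : AlgGrp.Action.IsEquivariant c a u := by
    rw [isEquivariant_iff]
    intro T g x
    change sm c g x ≫ pullback.fst q σ ≫ fst P Q = _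
    rw [← Category.assoc, sm_fibAct, sm_prodAct, lift_fst, Category.assoc]
  have hv : AlgGrp.Action.IsEquivariant c a' v := by
    rw [isEquivariant_iff]
    intro T g x
    change sm c g x ≫ pullback.fst q σ ≫ snd P Q = _
    rw [← Category.assoc, sm_fibAct, sm_prodAct, lift_snd, Category.assoc]
  have : IsIso u := isIso_of_isEquivariant Scheme.fppfPrecoverage c a hct ha.1 u hu
  refine ⟨inv u ≫ v, ?_, ?_⟩
  · rw [isEquivariant_iff] at hu hv ⊢
    intro T g x
    have h1 := hu T g (x ≫ inv u)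
    rw [Category.assoc, IsIso.inv_hom_id, Category.comp_id] at h1
    rw [← h1, Category.assoc, IsIso.hom_inv_id_assoc, hv, Category.assoc]
  · intro T w p
    -- the point `(p, φ(w, p))` of `Z`
    let z : T ⟶ Z := pullback.lift (lift p (lift w p ≫ φ)) (toUnit T) (by
      rw [hσ T w]
      have h1 := congrArg (fun m => lift w p ≫ m) hσ₀
      simp only [lift_fst_assoc] at h1
      rw [h1, comp_lift_assoc, lift_snd])
    have hz1 : z ≫ u = p := by
      change z ≫ pullback.fst q σ ≫ fst P Q = _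
      rw [pullback.lift_fst_assoc, lift_fst]
    have hz2 : z ≫ v = lift w p ≫ φ := by
      change z ≫ pullback.fst q σ ≫ snd P Q = _
      rw [pullback.lift_fst_assoc, lift_snd]
    rw [← hz2]
    conv_lhs => rw [← hz1]
    rw [Category.assoc, IsIso.hom_inv_id_assoc]

omit [IsIntegral X] in
lemma hom_unique {T : Over X} (w w' : T ⟶ Over.mk U.ι) : w = w' := by
  apply Over.OverMorphism.ext
  rw [← cancel_mono U.ι]
  exact (Over.w w).trans (Over.w w').symm

include hX ha ha' hU hφ in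
/-- The case of an affine base. -/
theorem affine_case [IsAffine X] : ∃ ψ : P ⟶ Q, AlgGrp.Action.IsEquivariant a a' ψ ∧
    ∀ (T : Over X) (w : T ⟶ Over.mk U.ι) (p : T ⟶ P), p ≫ ψ = lift w p ≫ φ := by
  obtain ⟨x, hx⟩ := hU
  obtain ⟨_, ⟨V', hV, rfl⟩, hxV, hVU⟩ := X.isBasis_affineOpens.exists_subset_of_mem_open hx U.isOpen
  let V : X.Opens := V'
  have hVU' : V ≤ U := hVU
  have hVa : IsAffine V := hV
  let i : Over.mk V.ι ⟶ Over.mk U.ι := Over.homMk (X.homOfLE hVU') (X.homOfLE_ι _)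
  have hVne : (V : Set X).Nonempty := ⟨x, hxV⟩
  obtain ⟨ψ, hψ1, hψ2⟩ := affine_qc hX ha ha' V hVne ((i ▷ P) ≫ φ) (by
    intro T w g p
    rw [lift_whiskerRight_assoc, lift_whiskerRight_assoc, hφ])
  refine ⟨ψ, hψ1, ?_⟩
  have hP2 : Flat P.hom := flat_of_torsor ha
  have hP3 : LocallyOfFinitePresentation P.hom := by
    have hP1 : IsFinite P.hom := K551.Tors.isFinite_of_torsor ha
    exact Groth.Agent.S0429.result P.hom
  have hQ1 : IsFinite Q.hom := K551.Tors.isFinite_of_torsor ha'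
  have key : snd (Over.mk U.ι) P ≫ ψ = φ := by
    have h1 : Flat (Over.mk U.ι ⊗ P).hom := inferInstanceAs (Flat (pullback.fst U.ι P.hom ≫ U.ι))
    have h2 : LocallyOfFinitePresentation (Over.mk U.ι ⊗ P).hom :=
      inferInstanceAs (LocallyOfFinitePresentation (pullback.fst U.ι P.hom ≫ U.ι))
    refine ext_of_dense V hVne _ _ fun T w y => ?_
    rw [← Category.assoc, hψ2 T w, lift_whiskerRight_assoc, hom_unique U (w ≫ i) (y ≫ fst _ _), lift_comp_fst_snd]
  intro T w p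
  rw [← key, lift_snd_assoc]

end Affine

section Local

variable {X : Scheme.{u}} [IsIntegral X] (hX : Pi1.IsNormalScheme X) {G P Q : Over X} [GrpObj G]
  [IsFinite G.hom] [Flat G.hom] {a : AlgGrp.Action G P} {a' : AlgGrp.Action G Q}
  (ha : NonAbH1.IsTorsorFor Scheme.fppfPrecoverage a) (ha' : NonAbH1.IsTorsorFor Scheme.fppfPrecoverage a')
  (U : X.Opens) (hU : (U : Set X).Nonempty) (φ : Over.mk U.ι ⊗ P ⟶ Q)
  (hφ : ∀ (T : Over X) (w : T ⟶ Over.mk U.ι) (g : T ⟶ G) (p : T ⟶ P),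
    lift w (sm a g p) ≫ φ = sm a' g (lift w p ≫ φ))
  {V : Scheme.{u}} (j : V ⟶ X) [IsOpenImmersion j] [IsAffine V] [Nonempty V]

lemma isNormal_of_isOpenImmersion {X V : Scheme.{u}} (j : V ⟶ X) [IsOpenImmersion j]
    (hX : Pi1.IsNormalScheme X) : Pi1.IsNormalScheme V := by
  intro x
  obtain ⟨h1, h2⟩ := hX (j x)
  let e : X.presheaf.stalk (j x) ≃+* V.presheaf.stalk x := (asIso (j.stalkMap x)).commRingCatIsoToRingEquiv
  exact ⟨e.symm.toMulEquiv.isDomain _, IsIntegrallyClosed.of_equiv e⟩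

include hX ha ha' hU hφ in
theorem local_case : ∃ ψ : Red.bc j P ⟶ Red.bc j Q,
    ∀ (T : Over V) (w : (Over.map j).obj T ⟶ Over.mk U.ι) (p : T ⟶ Red.bc j P),
      un j (p ≫ ψ) = lift w (un j p) ≫ φ := by
  have hV1 : IsIntegral V := isIntegral_of_isOpenImmersion j
  have hV2 : Pi1.IsNormalScheme V := isNormal_of_isOpenImmersion j hX
  have hG1 : IsFinite (Red.bc j G).hom := inferInstanceAs (IsFinite (pullback.snd G.hom j))
  have hG2 : Flat (Red.bc j G).hom := inferInstanceAs (Flat (pullback.snd G.hom j))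
  have hUV : ((j ⁻¹ᵁ U : V.Opens) : Set V).Nonempty := by
    have h1 : Dense (U : Set X) := U.isOpen.dense hU
    obtain ⟨_, ⟨v, rfl⟩, hv⟩ := h1.inter_open_nonempty _ j.isOpenEmbedding.isOpen_range
      ⟨j (Classical.arbitrary V), Set.mem_range_self _⟩
    exact ⟨v, hv⟩
  let WV : Over V := Over.mk (j ⁻¹ᵁ U).ι
  let jU : (Over.map j).obj WV ⟶ Over.mk U.ι := Over.homMk (j ∣_ U) (morphismRestrict_ι _ _)
  let φV : WV ⊗ Red.bc j P ⟶ Red.bc j Q :=
    mk j (lift ((Over.map j).map (fst WV (Red.bc j P)) ≫ jU) (un j (snd WV (Red.bc j P))) ≫ φ)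
  have hφV : ∀ (T : Over V) (w : T ⟶ WV) (p : T ⟶ Red.bc j P),
      un j (lift w p ≫ φV) = lift ((Over.map j).map w ≫ jU) (un j p) ≫ φ := by
    intro T w p
    rw [comp_mk, un_mk, comp_lift_assoc, ← un_comp, lift_snd, ← Category.assoc, ← Functor.map_comp, lift_fst]
  obtain ⟨ψ, hψ1, hψ2⟩ := affine_case hV2 (NonAbH1.isTorsorFor_bc j _ ha) (NonAbH1.isTorsorFor_bc j _ ha')
    (j ⁻¹ᵁ U) hUV φV (by
      intro T w g p
      apply un_injective j
      rw [hφV, un_sm, un_sm, hφ, hφV])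
  refine ⟨ψ, fun T w p => ?_⟩
  let w' : T ⟶ WV := Over.homMk ((isPullback_morphismRestrict j U).lift w.left T.hom (Over.w w))
    ((isPullback_morphismRestrict j U).lift_snd _ _ _)
  rw [hψ2 T w' p, hφV, hom_unique U ((Over.map j).map w' ≫ jU) w]

end Local

section Global

variable {X : Scheme.{u}} {G P Q : Over X} (U : X.Opens) (φ : Over.mk U.ι ⊗ P ⟶ Q)

lemma val {V : Scheme.{u}} (j : V ⟶ X) (ψ : Red.bc j P ⟶ Red.bc j Q)
    (hψ : ∀ (T : Over V) (w : (Over.map j).obj T ⟶ Over.mk U.ι) (p : T ⟶ Red.bc j P),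
      un j (p ≫ ψ) = lift w (un j p) ≫ φ) {T : Over X} (w : T ⟶ Over.mk U.ι)
    (t : T.left ⟶ (Red.bc j P).left) (p : T ⟶ P) (ht : t ≫ pullback.fst P.hom j = p.left) :
    t ≫ ψ.left ≫ pullback.fst Q.hom j = (lift w p ≫ φ).left := by
  let T₁ : Over V := Over.mk (t ≫ (Red.bc j P).hom)
  let p₁ : T₁ ⟶ Red.bc j P := Over.homMk t rfl
  have h0 : (t ≫ (Red.bc j P).hom) ≫ j = T.hom := by
    change (t ≫ pullback.snd P.hom j) ≫ j = _
    rw [Category.assoc, ← pullback.condition, ← Category.assoc, ht, Over.w]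
  let e : T ⟶ (Over.map j).obj T₁ := Over.homMk (𝟙 _) (by
    rw [Category.id_comp]
    exact h0)
  let w₁ : (Over.map j).obj T₁ ⟶ Over.mk U.ι := Over.homMk w.left ((Over.w w).trans h0.symm)
  have h1 := congrArg (fun m => e ≫ m) (hψ T₁ w₁ p₁)
  have h2 : e ≫ w₁ = w := Over.OverMorphism.ext (Category.id_comp _)
  have h3 : e ≫ un j p₁ = p := by
    apply Over.OverMorphism.ext
    rw [Over.comp_left, un_left]
    exact (Category.id_comp _).trans ht
  simp only [comp_lift_assoc, h2, h3] at h1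
  rw [← h1, Over.comp_left, un_left]
  change _ = 𝟙 _ ≫ _
  rw [Category.id_comp, Over.comp_left, Category.assoc]
  rfl

lemma over_val {V : Scheme.{u}} (j : V ⟶ X) (ψ : Red.bc j P ⟶ Red.bc j Q) :
    (ψ.left ≫ pullback.fst Q.hom j) ≫ Q.hom = pullback.fst P.hom j ≫ P.hom := by
  have h1 : ψ.left ≫ pullback.snd Q.hom j = pullback.snd P.hom j := Over.w ψ
  rw [Category.assoc, pullback.condition, ← Category.assoc, h1, pullback.condition]

lemma compat [IsIntegral X] (hU : (U : Set X).Nonempty) [Flat P.hom] [LocallyOfFinitePresentation P.hom]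
    [IsSeparated Q.hom] {V₁ V₂ : Scheme.{u}} (j₁ : V₁ ⟶ X) (j₂ : V₂ ⟶ X) [IsOpenImmersion j₁]
    [IsOpenImmersion j₂] (ψ₁ : Red.bc j₁ P ⟶ Red.bc j₁ Q) (ψ₂ : Red.bc j₂ P ⟶ Red.bc j₂ Q)
    (hψ₁ : ∀ (T : Over V₁) (w : (Over.map j₁).obj T ⟶ Over.mk U.ι) (p : T ⟶ Red.bc j₁ P),
      un j₁ (p ≫ ψ₁) = lift w (un j₁ p) ≫ φ)
    (hψ₂ : ∀ (T : Over V₂) (w : (Over.map j₂).obj T ⟶ Over.mk U.ι) (p : T ⟶ Red.bc j₂ P),
      un j₂ (p ≫ ψ₂) = lift w (un j₂ p) ≫ φ) :
    pullback.fst (pullback.fst P.hom j₁) (pullback.fst P.hom j₂) ≫ ψ₁.left ≫ pullback.fst Q.hom j₁ =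
      pullback.snd (pullback.fst P.hom j₁) (pullback.fst P.hom j₂) ≫ ψ₂.left ≫ pullback.fst Q.hom j₂ := by
  let Y : Over X := Over.mk (pullback.fst (pullback.fst P.hom j₁) (pullback.fst P.hom j₂) ≫
    pullback.fst P.hom j₁ ≫ P.hom)
  have h0 : pullback.fst (pullback.fst P.hom j₁) (pullback.fst P.hom j₂) ≫ pullback.fst P.hom j₁ =
    pullback.snd (pullback.fst P.hom j₁) (pullback.fst P.hom j₂) ≫ pullback.fst P.hom j₂ := pullback.condition
  have hY1 : Flat Y.hom := inferInstanceAs (Flat (pullback.fst (pullback.fst P.hom j₁) (pullback.fst P.hom j₂) ≫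
    pullback.fst P.hom j₁ ≫ P.hom))
  have hY2 : LocallyOfFinitePresentation Y.hom :=
    inferInstanceAs (LocallyOfFinitePresentation (pullback.fst (pullback.fst P.hom j₁) (pullback.fst P.hom j₂) ≫
      pullback.fst P.hom j₁ ≫ P.hom))
  let f : Y ⟶ Q := Over.homMk (pullback.fst (pullback.fst P.hom j₁) (pullback.fst P.hom j₂) ≫ ψ₁.left ≫
      pullback.fst Q.hom j₁) (by
    rw [Category.assoc, over_val]; rfl)
  let g : Y ⟶ Q := Over.homMk (pullback.snd (pullback.fst P.hom j₁) (pullback.fst P.hom j₂) ≫ ψ₂.left ≫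
      pullback.fst Q.hom j₂) (by
    rw [Category.assoc, over_val, ← Category.assoc, ← h0, Category.assoc]; rfl)
  have hfg : f = g := by
    refine ext_of_dense U hU f g fun T w y => ?_
    let p : T ⟶ P := y ≫ (Over.homMk (pullback.fst (pullback.fst P.hom j₁) (pullback.fst P.hom j₂) ≫
      pullback.fst P.hom j₁) (by rw [Category.assoc]; rfl) : Y ⟶ P)
    have e1 := val U φ j₁ ψ₁ hψ₁ w (y.left ≫ pullback.fst (pullback.fst P.hom j₁) (pullback.fst P.hom j₂)) p (by
      rw [Category.assoc]; rfl)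
    have e2 := val U φ j₂ ψ₂ hψ₂ w (y.left ≫ pullback.snd (pullback.fst P.hom j₁) (pullback.fst P.hom j₂)) p (by
      rw [Category.assoc, ← h0]; rfl)
    apply Over.OverMorphism.ext
    refine Eq.trans ?_ (e1.trans (e2.symm.trans ?_))
    · exact (Category.assoc _ _ _).symm
    · exact Category.assoc _ _ _
  exact congrArg CommaMorphism.left hfg

variable [GrpObj G] [IsIntegral X] (hX : Pi1.IsNormalScheme X)
  [IsFinite G.hom] [Flat G.hom] {a : AlgGrp.Action G P} {a' : AlgGrp.Action G Q}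
  (ha : NonAbH1.IsTorsorFor Scheme.fppfPrecoverage a) (ha' : NonAbH1.IsTorsorFor Scheme.fppfPrecoverage a')
  (hU : (U : Set X).Nonempty)
  (hφ : ∀ (T : Over X) (w : T ⟶ Over.mk U.ι) (g : T ⟶ G) (p : T ⟶ P),
    lift w (sm a g p) ≫ φ = sm a' g (lift w p ≫ φ))

include hX ha ha' hU hφ in
/-- An isomorphism over a nonempty open between torsors under a finite flat group scheme over a normal integral
scheme extends. -/
theorem exists_extension : ∃ ψ : P ⟶ Q, AlgGrp.Action.IsEquivariant a a' ψ ∧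
    ∀ (T : Over X) (w : T ⟶ Over.mk U.ι) (p : T ⟶ P), p ≫ ψ = lift w p ≫ φ := by
  have hG3 : LocallyOfFinitePresentation G.hom := Groth.Agent.S0429.result G.hom
  have hP1 : IsFinite P.hom := K551.Tors.isFinite_of_torsor ha
  have hP2 : Flat P.hom := flat_of_torsor ha
  have hP3 : LocallyOfFinitePresentation P.hom := Groth.Agent.S0429.result P.hom
  have hQ1 : IsFinite Q.hom := K551.Tors.isFinite_of_torsor ha'
  have hcov : ∀ x : X, ∃ V : X.Opens, IsAffineOpen V ∧ x ∈ V := fun x => by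
    obtain ⟨_, ⟨V, hV, rfl⟩, hxV, -⟩ := X.isBasis_affineOpens.exists_subset_of_mem_open (Set.mem_univ x) isOpen_univ
    exact ⟨V, hV, hxV⟩
  choose V hV hxV using hcov
  let 𝒰 : X.OpenCover := X.openCoverOfIsOpenCover V (by
    rw [TopologicalSpace.IsOpenCover, eq_top_iff]
    intro x _
    exact TopologicalSpace.Opens.mem_iSup.2 ⟨x, hxV x⟩)
  have hne : ∀ i, Nonempty (𝒰.X i) := fun i => ⟨⟨i, hxV i⟩⟩
  have haf : ∀ i, IsAffine (𝒰.X i) := fun i => hV i
  choose ψ hψ using fun i => local_case hX ha ha' U hU φ hφ (𝒰.f i)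
  let 𝒲 := 𝒰.pullback₁ P.hom
  obtain ⟨Ψ, hΨ⟩ : ∃ Ψ : P.left ⟶ Q.left, ∀ i, pullback.fst P.hom (𝒰.f i) ≫ Ψ =
      (ψ i).left ≫ pullback.fst Q.hom (𝒰.f i) :=
    ⟨Scheme.Cover.glueMorphisms 𝒲 (fun i => (ψ i).left ≫ pullback.fst Q.hom (𝒰.f i))
      (fun i k => compat U φ hU (𝒰.f i) (𝒰.f k) (ψ i) (ψ k) (hψ i) (hψ k)), fun i =>
      Scheme.Cover.ι_glueMorphisms 𝒲 _ _ i⟩
  have hΨover : Ψ ≫ Q.hom = P.hom := by
    refine Scheme.Cover.hom_ext 𝒲 _ _ fun (i : 𝒰.I₀) => ?_
    change pullback.fst P.hom (𝒰.f i) ≫ Ψ ≫ Q.hom = pullback.fst P.hom (𝒰.f i) ≫ P.hom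
    rw [← Category.assoc, hΨ, over_val]
  have hagree : ∀ (T : Over X) (w : T ⟶ Over.mk U.ι) (p : T ⟶ P), p ≫ Over.homMk Ψ hΨover = lift w p ≫ φ := by
    intro T w p
    apply Over.OverMorphism.ext
    refine Scheme.Cover.hom_ext (𝒲.pullback₁ p.left) _ _ fun (i : 𝒰.I₀) => ?_
    let r : Over.mk (pullback.fst p.left (pullback.fst P.hom (𝒰.f i)) ≫ T.hom) ⟶ T :=
      Over.homMk (pullback.fst p.left (pullback.fst P.hom (𝒰.f i))) rfl
    have e2 : pullback.fst p.left (pullback.fst P.hom (𝒰.f i)) ≫ p.left =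
      pullback.snd p.left (pullback.fst P.hom (𝒰.f i)) ≫ pullback.fst P.hom (𝒰.f i) := pullback.condition
    have e1 := val U φ (𝒰.f i) (ψ i) (hψ i) (r ≫ w) (pullback.snd p.left (pullback.fst P.hom (𝒰.f i))) (r ≫ p)
      e2.symm
    change pullback.fst p.left (pullback.fst P.hom (𝒰.f i)) ≫ p.left ≫ Ψ =
      pullback.fst p.left (pullback.fst P.hom (𝒰.f i)) ≫ (lift w p ≫ φ).left
    rw [← Category.assoc, e2, Category.assoc, hΨ]
    refine e1.trans ?_
    rw [← comp_lift_assoc]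
    rfl
  refine ⟨Over.homMk Ψ hΨover, ?_, hagree⟩
  have h1 : Flat (G ⊗ P).hom := inferInstanceAs (Flat (pullback.fst G.hom P.hom ≫ G.hom))
  have h2 : LocallyOfFinitePresentation (G ⊗ P).hom :=
    inferInstanceAs (LocallyOfFinitePresentation (pullback.fst G.hom P.hom ≫ G.hom))
  unfold AlgGrp.Action.IsEquivariant
  refine ext_of_dense U hU _ _ fun T w y => ?_
  obtain ⟨g, p, rfl⟩ : ∃ (g : T ⟶ G) (p : T ⟶ P), y = lift g p := ⟨y ≫ fst _ _, y ≫ snd _ _, by rw [lift_comp_fst_snd]⟩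
  have e1 := hagree T w (sm a g p)
  rw [← Category.assoc, lift_whiskerLeft_assoc, hagree T w p]
  exact e1.trans (hφ T w g p)

end Global

end K554.ExtIso
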