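import Groth.Agent.NonAbH1.K554.ExtTors
import Groth.Agent.NonAbH1.K551.Tors
import Groth.Agent.Sga3.H806.Approx

/-!
# Families of actions parametrised by a scheme over the base, and their descent along cofiltered limits

For `G` a group scheme over `S`, `V` and `T` over `S`: a `Fam G V T` is the data of an "action" `G × V × T ⟶ V` and a
"difference" `V × V × T ⟶ G`.  `Fam.IsTors` are the axioms of a pseudo-torsor.

* `Fam.exists_stage`: a `Fam` with the axioms over the limit of a cofiltered system comes from a stage.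
* `Fam.toAct`, `Fam.ofAct`: families over `Over.mk f` and actions of `Red.bc f G` on `Red.bc f V`.
-/

set_option autoImplicit false
universe u

open CategoryTheory CategoryTheory.Limits MonoidalCategory CartesianMonoidalCategory MonObj GrpObj AlgebraicGeometry
open Groth.Agent.Books.BorelOrb K554.Fpqc K554.FibAct K554.BcPt K554.ExtTors
open Groth.Agent.Sga3.H806.StageHom Groth.Agent.Sga3.H806.Approx

namespace K554.FamAct

/-- data of a family of pseudo-torsors -/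
structure Fam {S : Scheme.{u}} (G V T : Over S) where
  /-- the action -/
  m : (G ⊗ V) ⊗ T ⟶ V
  /-- the difference -/
  d : (V ⊗ V) ⊗ T ⟶ G

namespace Fam

section

variable {S : Scheme.{u}} {G V T T' T'' : Over S}

/-- action on points -/
noncomputable def act (F : Fam G V T) {A : Over S} (t : A ⟶ T) (g : A ⟶ G) (v : A ⟶ V) : A ⟶ V :=
  lift (lift g v) t ≫ F.m

/-- difference on points -/
noncomputable def dif (F : Fam G V T) {A : Over S} (t : A ⟶ T) (v w : A ⟶ V) : A ⟶ G := lift (lift v w) t ≫ F.d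

lemma comp_act (F : Fam G V T) {A B : Over S} (h : B ⟶ A) (t : A ⟶ T) (g : A ⟶ G) (v : A ⟶ V) :
    h ≫ F.act t g v = F.act (h ≫ t) (h ≫ g) (h ≫ v) := by
  rw [act, act, comp_lift_assoc, comp_lift]

lemma comp_dif (F : Fam G V T) {A B : Over S} (h : B ⟶ A) (t : A ⟶ T) (v w : A ⟶ V) :
    h ≫ F.dif t v w = F.dif (h ≫ t) (h ≫ v) (h ≫ w) := by
  rw [dif, dif, comp_lift_assoc, comp_lift]

/-- restriction to another parameter space -/
noncomputable def res (F : Fam G V T) (s : T' ⟶ T) : Fam G V T' := ⟨(G ⊗ V) ◁ s ≫ F.m, (V ⊗ V) ◁ s ≫ F.d⟩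

lemma res_act (F : Fam G V T) (s : T' ⟶ T) {A : Over S} (t : A ⟶ T') (g : A ⟶ G) (v : A ⟶ V) :
    (F.res s).act t g v = F.act (t ≫ s) g v := by
  rw [act, act, res, lift_whiskerLeft_assoc]

lemma res_dif (F : Fam G V T) (s : T' ⟶ T) {A : Over S} (t : A ⟶ T') (v w : A ⟶ V) :
    (F.res s).dif t v w = F.dif (t ≫ s) v w := by
  rw [dif, dif, res, lift_whiskerLeft_assoc]

lemma res_res (F : Fam G V T) (s : T' ⟶ T) (s' : T'' ⟶ T') : (F.res s).res s' = F.res (s' ≫ s) := by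
  simp only [res, MonoidalCategory.whiskerLeft_comp, Category.assoc]

end

section

variable {S : Scheme.{u}} {G V T T' : Over S} [GrpObj G]

/-- unit law -/
def One (F : Fam G V T) : Prop := ∀ (A : Over S) (t : A ⟶ T) (v : A ⟶ V), F.act t 1 v = v

/-- associativity law -/
def Mul (F : Fam G V T) : Prop :=
  ∀ (A : Over S) (t : A ⟶ T) (g h : A ⟶ G) (v : A ⟶ V), F.act t (g * h) v = F.act t g (F.act t h v)

omit [GrpObj G] in
/-- transitivity -/
def ActDif (F : Fam G V T) : Prop :=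
  ∀ (A : Over S) (t : A ⟶ T) (v w : A ⟶ V), F.act t (F.dif t v w) w = v

omit [GrpObj G] in
/-- freeness -/
def DifAct (F : Fam G V T) : Prop :=
  ∀ (A : Over S) (t : A ⟶ T) (g : A ⟶ G) (w : A ⟶ V), F.dif t (F.act t g w) w = g

/-- the axioms of a pseudo-torsor -/
structure IsTors (F : Fam G V T) : Prop where
  one : F.One
  mul : F.Mul
  act_dif : F.ActDif
  dif_act : F.DifAct

lemma One.res {F : Fam G V T} (h : F.One) (s : T' ⟶ T) : (F.res s).One := fun A t v => by rw [res_act, h]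
lemma Mul.res {F : Fam G V T} (h : F.Mul) (s : T' ⟶ T) : (F.res s).Mul := fun A t g g' v => by
  rw [res_act, res_act, res_act, h]
omit [GrpObj G] in
lemma ActDif.res {F : Fam G V T} (h : F.ActDif) (s : T' ⟶ T) : (F.res s).ActDif := fun A t v w => by
  rw [res_act, res_dif, h]
omit [GrpObj G] in
lemma DifAct.res {F : Fam G V T} (h : F.DifAct) (s : T' ⟶ T) : (F.res s).DifAct := fun A t g w => by
  rw [res_dif, res_act, h]

lemma one_iff (F : Fam G V T) : F.One ↔ F.act (snd V T) 1 (fst V T) = fst V T := by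
  refine ⟨fun h => h _ _ _, fun h A t v => ?_⟩
  have h1 := congrArg (fun m => lift v t ≫ m) h
  simpa only [comp_act, lift_fst, lift_snd, MonObj.comp_one] using h1

/-- one side of associativity -/
noncomputable def mulL (F : Fam G V T) : ((G ⊗ G) ⊗ V) ⊗ T ⟶ V :=
  F.act (snd ((G ⊗ G) ⊗ V) T) ((fst ((G ⊗ G) ⊗ V) T ≫ fst (G ⊗ G) V ≫ fst G G) *
      (fst ((G ⊗ G) ⊗ V) T ≫ fst (G ⊗ G) V ≫ snd G G)) (fst ((G ⊗ G) ⊗ V) T ≫ snd (G ⊗ G) V)

omit [GrpObj G] in
/-- the other side of associativity -/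
noncomputable def mulR (F : Fam G V T) : ((G ⊗ G) ⊗ V) ⊗ T ⟶ V :=
  F.act (snd ((G ⊗ G) ⊗ V) T) (fst ((G ⊗ G) ⊗ V) T ≫ fst (G ⊗ G) V ≫ fst G G)
      (F.act (snd ((G ⊗ G) ⊗ V) T) (fst ((G ⊗ G) ⊗ V) T ≫ fst (G ⊗ G) V ≫ snd G G)
        (fst ((G ⊗ G) ⊗ V) T ≫ snd (G ⊗ G) V))

omit [GrpObj G] in
/-- transitivity composite -/
noncomputable def adL (F : Fam G V T) : (V ⊗ V) ⊗ T ⟶ V :=
  F.act (snd (V ⊗ V) T) (F.dif (snd (V ⊗ V) T) (fst (V ⊗ V) T ≫ fst V V) (fst (V ⊗ V) T ≫ snd V V))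
      (fst (V ⊗ V) T ≫ snd V V)

omit [GrpObj G] in
/-- freeness composite -/
noncomputable def daL (F : Fam G V T) : (G ⊗ V) ⊗ T ⟶ G :=
  F.dif (snd (G ⊗ V) T) (F.act (snd (G ⊗ V) T) (fst (G ⊗ V) T ≫ fst G V) (fst (G ⊗ V) T ≫ snd G V))
      (fst (G ⊗ V) T ≫ snd G V)

lemma whisker_mulL (F : Fam G V T) (s : T' ⟶ T) : ((G ⊗ G) ⊗ V) ◁ s ≫ F.mulL = (F.res s).mulL := by
  rw [mulL, mulL, comp_act, MonObj.comp_mul, whiskerLeft_fst_assoc, whiskerLeft_fst_assoc, whiskerLeft_fst_assoc,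
    whiskerLeft_snd, res_act]

omit [GrpObj G] in
lemma whisker_mulR (F : Fam G V T) (s : T' ⟶ T) : ((G ⊗ G) ⊗ V) ◁ s ≫ F.mulR = (F.res s).mulR := by
  rw [mulR, mulR, comp_act, comp_act, whiskerLeft_fst_assoc, whiskerLeft_fst_assoc, whiskerLeft_fst_assoc,
    whiskerLeft_snd, res_act, res_act]

omit [GrpObj G] in
lemma whisker_adL (F : Fam G V T) (s : T' ⟶ T) : (V ⊗ V) ◁ s ≫ F.adL = (F.res s).adL := by
  rw [adL, adL, comp_act, comp_dif, whiskerLeft_fst_assoc, whiskerLeft_fst_assoc,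
    whiskerLeft_snd, res_act, res_dif]

omit [GrpObj G] in
lemma whisker_daL (F : Fam G V T) (s : T' ⟶ T) : (G ⊗ V) ◁ s ≫ F.daL = (F.res s).daL := by
  rw [daL, daL, comp_dif, comp_act, whiskerLeft_fst_assoc, whiskerLeft_fst_assoc,
    whiskerLeft_snd, res_act, res_dif]

lemma mul_iff (F : Fam G V T) : F.Mul ↔ F.mulL = F.mulR := by
  refine ⟨fun h => h _ _ _ _ _, fun h A t g g' v => ?_⟩
  have h1 := congrArg (fun m => lift (lift (lift g g') v) t ≫ m) h
  simpa only [mulL, mulR, comp_act, lift_fst, lift_snd, lift_fst_assoc, lift_snd_assoc, MonObj.comp_mul] using h1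

omit [GrpObj G] in
lemma actDif_iff (F : Fam G V T) : F.ActDif ↔ F.adL = fst (V ⊗ V) T ≫ fst V V := by
  refine ⟨fun h => h _ _ _ _, fun h A t v w => ?_⟩
  have h1 := congrArg (fun m => lift (lift v w) t ≫ m) h
  simpa only [adL, comp_act, comp_dif, lift_fst, lift_snd, lift_fst_assoc, lift_snd_assoc] using h1

omit [GrpObj G] in
lemma difAct_iff (F : Fam G V T) : F.DifAct ↔ F.daL = fst (G ⊗ V) T ≫ fst G V := by
  refine ⟨fun h => h _ _ _ _, fun h A t g w => ?_⟩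
  have h1 := congrArg (fun m => lift (lift g w) t ≫ m) h
  simpa only [daL, comp_act, comp_dif, lift_fst, lift_snd, lift_fst_assoc, lift_snd_assoc] using h1

end

section Lim

variable {I : Type u} [SmallCategory I] {D : I ⥤ Scheme.{u}} {c : Cone D} [IsCofiltered I]
    [∀ (i j : I) (f : i ⟶ j), IsAffineHom (D.map f)] [∀ i, CompactSpace (D.obj i)]
    [∀ i, QuasiSeparatedSpace (D.obj i)] (hc : IsLimit c) {i : I} {G V : Over (D.obj i)} [GrpObj G]
    [LocallyOfFinitePresentation G.hom] [QuasiCompact G.hom] [QuasiSeparated G.hom]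
    [LocallyOfFinitePresentation V.hom] [QuasiCompact V.hom] [QuasiSeparated V.hom]

include hc

omit [GrpObj G] in
theorem exists_data (F : Fam G V (TInf D c i)) : ∃ (j : I) (a : j ⟶ i) (F' : Fam G V (Groth.Agent.Sga3.H806.StageHom.T D a)),
    F'.res (proj D c a) = F := by
  have i1 := quasiCompact_tensor G V
  have i2 := quasiSeparated_tensor G V
  have i3 := quasiCompact_tensor V V
  have i4 := quasiSeparated_tensor V V
  obtain ⟨j1, a1, v1, h1⟩ := exists_factor hc (G ⊗ V) V F.m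
  obtain ⟨j2, a2, v2, h2⟩ := exists_factor hc (V ⊗ V) G F.d
  obtain ⟨j, g1, g2, hg⟩ := IsCofiltered.cospan a1 a2
  refine ⟨j, g1 ≫ a1, ⟨(G ⊗ V) ◁ tr' D g1 rfl ≫ v1, (V ⊗ V) ◁ tr' D g2 hg.symm ≫ v2⟩, ?_⟩
  have e : F = ⟨F.m, F.d⟩ := rfl
  rw [e]
  unfold Fam.res
  congr 1
  · change _ ◁ _ ≫ _ ◁ _ ≫ v1 = _
    rw [← MonoidalCategory.whiskerLeft_comp_assoc, proj_tr', h1]
  · change _ ◁ _ ≫ _ ◁ _ ≫ v2 = _
    rw [← MonoidalCategory.whiskerLeft_comp_assoc, proj_tr', h2]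

omit [LocallyOfFinitePresentation G.hom] [QuasiCompact G.hom] [QuasiSeparated G.hom] [QuasiSeparated V.hom]
  [∀ i, QuasiSeparatedSpace (D.obj i)] in
theorem exists_one {j : I} (a : j ⟶ i) (F : Fam G V (Groth.Agent.Sga3.H806.StageHom.T D a))
    (h : (F.res (proj D c a)).One) : ∃ (k : I) (b : k ⟶ j), (F.res (tr D a b)).One := by
  rw [one_iff] at h
  obtain ⟨k, b, hb⟩ := exists_eq hc V V a (F.act (snd _ _) (1 : _ ⟶ G) (fst _ _)) (fst _ _) (by
    rw [comp_act, MonObj.comp_one, whiskerLeft_fst, whiskerLeft_snd, ← res_act, h])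
  refine ⟨k, b, ?_⟩
  rw [one_iff, res_act]
  rw [comp_act, MonObj.comp_one, whiskerLeft_fst, whiskerLeft_snd] at hb
  exact hb

omit [LocallyOfFinitePresentation G.hom] [QuasiSeparated G.hom] [QuasiSeparated V.hom]
  [∀ i, QuasiSeparatedSpace (D.obj i)] in
theorem exists_mul {j : I} (a : j ⟶ i) (F : Fam G V (Groth.Agent.Sga3.H806.StageHom.T D a))
    (h : (F.res (proj D c a)).Mul) : ∃ (k : I) (b : k ⟶ j), (F.res (tr D a b)).Mul := by
  rw [mul_iff] at h
  have i1 := quasiCompact_tensor G G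
  have i2 := quasiCompact_tensor (G ⊗ G) V
  obtain ⟨k, b, hb⟩ := exists_eq hc ((G ⊗ G) ⊗ V) V a F.mulL F.mulR (by
    rw [whisker_mulL, whisker_mulR, h])
  refine ⟨k, b, ?_⟩
  rw [mul_iff, ← whisker_mulL, ← whisker_mulR, hb]

omit [GrpObj G] [LocallyOfFinitePresentation G.hom] [QuasiCompact G.hom] [QuasiSeparated G.hom] [QuasiSeparated V.hom]
  [∀ i, QuasiSeparatedSpace (D.obj i)] in
theorem exists_actDif {j : I} (a : j ⟶ i) (F : Fam G V (Groth.Agent.Sga3.H806.StageHom.T D a))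
    (h : (F.res (proj D c a)).ActDif) : ∃ (k : I) (b : k ⟶ j), (F.res (tr D a b)).ActDif := by
  rw [actDif_iff] at h
  have i1 := quasiCompact_tensor V V
  obtain ⟨k, b, hb⟩ := exists_eq hc (V ⊗ V) V a F.adL (fst _ _ ≫ fst V V) (by
    rw [whisker_adL, h, whiskerLeft_fst_assoc])
  refine ⟨k, b, ?_⟩
  rw [actDif_iff, ← whisker_adL, hb, whiskerLeft_fst_assoc]

omit [GrpObj G] [LocallyOfFinitePresentation V.hom] [QuasiSeparated G.hom] [QuasiSeparated V.hom]
  [∀ i, QuasiSeparatedSpace (D.obj i)] in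
theorem exists_difAct {j : I} (a : j ⟶ i) (F : Fam G V (Groth.Agent.Sga3.H806.StageHom.T D a))
    (h : (F.res (proj D c a)).DifAct) : ∃ (k : I) (b : k ⟶ j), (F.res (tr D a b)).DifAct := by
  rw [difAct_iff] at h
  have i1 := quasiCompact_tensor G V
  obtain ⟨k, b, hb⟩ := exists_eq hc (G ⊗ V) G a F.daL (fst _ _ ≫ fst G V) (by
    rw [whisker_daL, h, whiskerLeft_fst_assoc])
  refine ⟨k, b, ?_⟩
  rw [difAct_iff, ← whisker_daL, hb, whiskerLeft_fst_assoc]

/-- A family of pseudo-torsors over the limit comes from a stage. -/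
theorem exists_stage (F : Fam G V (TInf D c i)) (hF : F.IsTors) :
    ∃ (j : I) (a : j ⟶ i) (F' : Fam G V (Groth.Agent.Sga3.H806.StageHom.T D a)),
      F'.res (proj D c a) = F ∧ F'.IsTors := by
  obtain ⟨j, a, F0, h0⟩ := exists_data hc F
  obtain ⟨j1, b1, e1⟩ := exists_one hc a F0 (h0 ▸ hF.one)
  have h1 : (F0.res (tr D a b1)).res (proj D c (b1 ≫ a)) = F := by rw [res_res, proj_tr, h0]
  obtain ⟨j2, b2, e2⟩ := exists_mul hc (b1 ≫ a) _ (h1 ▸ hF.mul)
  have h2 : ((F0.res (tr D a b1)).res (tr D _ b2)).res (proj D c (b2 ≫ b1 ≫ a)) = F := by rw [res_res, proj_tr, h1]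
  obtain ⟨j3, b3, e3⟩ := exists_actDif hc (b2 ≫ b1 ≫ a) _ (h2 ▸ hF.act_dif)
  have h3 : (((F0.res (tr D a b1)).res (tr D _ b2)).res (tr D _ b3)).res (proj D c (b3 ≫ b2 ≫ b1 ≫ a)) = F := by
    rw [res_res, proj_tr, h2]
  obtain ⟨j4, b4, e4⟩ := exists_difAct hc (b3 ≫ b2 ≫ b1 ≫ a) _ (h3 ▸ hF.dif_act)
  exact ⟨j4, _, _, by rw [res_res, proj_tr, h3], ((e1.res _).res _).res _, (e2.res _).res _, e3.res _, e4⟩

end Lim

end Fam

end K554.FamAct
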