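import Groth.Agent.NonAbH1.K554.FamAct
import Groth.Agent.NonAbH1.K553.Bc

/-!
# Families of pseudo-torsors and actions on base changes
-/

set_option autoImplicit false
universe u

open CategoryTheory CategoryTheory.Limits MonoidalCategory CartesianMonoidalCategory MonObj GrpObj AlgebraicGeometry
open Groth.Agent.Books.BorelOrb K554.Fpqc K554.FibAct K554.BcPt K554.ExtTors K554.FamAct

namespace K554.FamConv

section

variable {S S' : Scheme.{u}} (f : S' ⟶ S)

/-- the tautological point of the parameter space -/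
noncomputable def st (Q : Over S') : (Over.map f).obj Q ⟶ Over.mk f := Over.homMk Q.hom rfl

lemma map_st {Q Q' : Over S'} (h : Q' ⟶ Q) : (Over.map f).map h ≫ st f Q = st f Q' := by
  ext
  exact Over.w h

variable {f} in
/-- a parametrised object as an `S'`-object -/
noncomputable def eA {A : Over S} (t : A ⟶ Over.mk f) : (Over.map f).obj (Over.mk t.left) ≅ A :=
  Over.isoMk (Iso.refl _) (by
    rw [Iso.refl_hom, Category.id_comp]
    exact (Over.w t).symm)

lemma eA_hom_left {A : Over S} (t : A ⟶ Over.mk f) : (eA t).hom.left = 𝟙 _ := rfl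
lemma eA_inv_left {A : Over S} (t : A ⟶ Over.mk f) : (eA t).inv.left = 𝟙 _ := rfl

lemma eA_comp {A : Over S} (t : A ⟶ Over.mk f) : (eA t).hom ≫ t = st f (Over.mk t.left) := by
  ext
  rw [Over.comp_left, eA_hom_left]
  exact Category.id_comp _

/-- the classifying map of a point of a product with the parameter space -/
noncomputable def pt {Z : Over S} {Q : Over S'} (z : (Over.map f).obj Q ⟶ Z) :
    Q ⟶ Over.mk (snd Z (Over.mk f)).left :=
  Over.homMk (lift z (st f Q)).left (by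
    have h1 := congrArg (fun m => m.left) (lift_snd z (st f Q))
    exact h1)

lemma lift_eA_inv {Z : Over S} {Q : Over S'} (z : (Over.map f).obj Q ⟶ Z) :
    lift z (st f Q) ≫ (eA (snd Z (Over.mk f))).inv = (Over.map f).map (pt f z) := by
  ext
  rw [Over.comp_left, eA_inv_left]
  exact Category.comp_id _

lemma pt_mk {Z W : Over S} {Q : Over S'} (z : (Over.map f).obj Q ⟶ Z) (w : Z ⟶ W) :
    pt f z ≫ mk f ((eA (snd Z (Over.mk f))).hom ≫ fst Z (Over.mk f) ≫ w) = mk f (z ≫ w) := by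
  rw [comp_mk, ← lift_eA_inv, Category.assoc, Iso.inv_hom_id_assoc, lift_fst_assoc]

lemma lift_eA_un {Z W : Over S} {Q : Over S'} (z : (Over.map f).obj Q ⟶ Z)
    (X : Over.mk (snd Z (Over.mk f)).left ⟶ Red.bc f W) :
    lift z (st f Q) ≫ (eA (snd Z (Over.mk f))).inv ≫ un f X = un f (pt f z ≫ X) := by
  rw [← Category.assoc, lift_eA_inv, ← un_comp]

variable {G V : Over S} [GrpObj G]

section To

variable (F : Fam G V (Over.mk f)) (hF : F.IsTors)

/-- the action attached to a family -/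
noncomputable def toMap : Red.bc f G ⊗ Red.bc f V ⟶ Red.bc f V :=
  mk f (F.act (st f _) (un f (fst (Red.bc f G) (Red.bc f V))) (un f (snd (Red.bc f G) (Red.bc f V))))

omit [GrpObj G] in
lemma lift_toMap {Q : Over S'} (g : Q ⟶ Red.bc f G) (v : Q ⟶ Red.bc f V) :
    lift g v ≫ toMap f F = mk f (F.act (st f Q) (un f g) (un f v)) := by
  rw [toMap, comp_mk, Fam.comp_act, map_st, ← un_comp, ← un_comp, lift_fst, lift_snd]

/-- the action attached to a family -/
noncomputable def toAct : AlgGrp.Action (Red.bc f G) (Red.bc f V) :=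
  mkAction (toMap f F)
    (fun Q v => by rw [lift_toMap, un_one, hF.one, mk_un])
    (fun Q g h v => by rw [lift_toMap, lift_toMap, lift_toMap, un_mul, hF.mul, un_mk])

lemma sm_toAct {Q : Over S'} (g : Q ⟶ Red.bc f G) (v : Q ⟶ Red.bc f V) :
    sm (toAct f F hF) g v = mk f (F.act (st f Q) (un f g) (un f v)) := by
  rw [toAct, sm_mkAction, lift_toMap]

lemma isPseudoTorsorSch_toAct : NonAbH1.IsPseudoTorsorSch (toAct f F hF) := by
  rw [isPseudoTorsorSch_iff]
  intro Q x x'
  refine ⟨mk f (F.dif (st f Q) (un f x) (un f x')), ?_, fun g hg => ?_⟩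
  · dsimp only
    rw [sm_toAct, un_mk, hF.act_dif, mk_un]
  · dsimp only at hg
    rw [← hg, sm_toAct, un_mk, hF.dif_act, mk_un]

end To

section Of

variable {V' : Over S'} (a : AlgGrp.Action (Red.bc f G) V') (ha : NonAbH1.IsPseudoTorsorSch a) (u : V' ≅ Red.bc f V)

/-- the family attached to an action -/
noncomputable def ofAct : Fam G V (Over.mk f) where
  m := (eA (snd (G ⊗ V) (Over.mk f))).inv ≫
    un f (sm a (mk f ((eA (snd (G ⊗ V) (Over.mk f))).hom ≫ fst (G ⊗ V) (Over.mk f) ≫ fst G V))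
      (mk f ((eA (snd (G ⊗ V) (Over.mk f))).hom ≫ fst (G ⊗ V) (Over.mk f) ≫ snd G V) ≫ u.inv) ≫ u.hom)
  d := (eA (snd (V ⊗ V) (Over.mk f))).inv ≫
    un f (dif ha (mk f ((eA (snd (V ⊗ V) (Over.mk f))).hom ≫ fst (V ⊗ V) (Over.mk f) ≫ fst V V) ≫ u.inv)
      (mk f ((eA (snd (V ⊗ V) (Over.mk f))).hom ≫ fst (V ⊗ V) (Over.mk f) ≫ snd V V) ≫ u.inv))

lemma ofAct_act {Q : Over S'} (g : (Over.map f).obj Q ⟶ G) (v : (Over.map f).obj Q ⟶ V) :
    (ofAct f a ha u).act (st f Q) g v = un f (sm a (mk f g) (mk f v ≫ u.inv) ≫ u.hom) := by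
  change lift (lift g v) (st f Q) ≫ (eA (snd (G ⊗ V) (Over.mk f))).inv ≫ un f _ = _
  rw [lift_eA_un, ← Category.assoc, comp_sm, ← Category.assoc (pt f (lift g v)) (mk f _), pt_mk, pt_mk, lift_fst,
    lift_snd]

lemma ofAct_dif {Q : Over S'} (v w : (Over.map f).obj Q ⟶ V) :
    (ofAct f a ha u).dif (st f Q) v w = un f (dif ha (mk f v ≫ u.inv) (mk f w ≫ u.inv)) := by
  change lift (lift v w) (st f Q) ≫ (eA (snd (V ⊗ V) (Over.mk f))).inv ≫ un f _ = _
  rw [lift_eA_un, comp_dif, ← Category.assoc (pt f (lift v w)) (mk f _), ← Category.assoc (pt f (lift v w)) (mk f _),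
    pt_mk, pt_mk, lift_fst, lift_snd]

lemma isTors_ofAct : (ofAct f a ha u).IsTors where
  one A t v := by
    rw [← cancel_epi (eA t).hom, Fam.comp_act, eA_comp, MonObj.comp_one, ofAct_act, mk_one, one_sm, Category.assoc,
      u.inv_hom_id, Category.comp_id, un_mk]
  mul A t g h v := by
    rw [← cancel_epi (eA t).hom, Fam.comp_act, Fam.comp_act, Fam.comp_act, eA_comp, MonObj.comp_mul, ofAct_act,
      ofAct_act, ofAct_act, mk_mul, mul_sm, mk_un, Category.assoc, u.hom_inv_id, Category.comp_id]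
  act_dif A t v w := by
    rw [← cancel_epi (eA t).hom, Fam.comp_act, Fam.comp_dif, eA_comp, ofAct_act, ofAct_dif, mk_un, sm_dif,
      Category.assoc, u.inv_hom_id, Category.comp_id, un_mk]
  dif_act A t g w := by
    rw [← cancel_epi (eA t).hom, Fam.comp_dif, Fam.comp_act, eA_comp, ofAct_act, ofAct_dif, mk_un, Category.assoc,
      u.hom_inv_id, Category.comp_id, dif_eq ha rfl, un_mk]

end Of

end

section Compare

variable {S S₁ S' : Scheme.{u}} {f : S' ⟶ S} {fa : S₁ ⟶ S} {g : S' ⟶ S₁} (h : g ≫ fa = f)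

/-- transitivity of `Over.map` -/
noncomputable def kap (Q : Over S') : (Over.map f).obj Q ≅ (Over.map fa).obj ((Over.map g).obj Q) :=
  Over.isoMk (Iso.refl _) (by
    subst h
    simp)

lemma kap_left (Q : Over S') : (kap h Q).hom.left = 𝟙 _ := rfl

lemma un_bcCompIso {V : Over S} {Q : Over S'} (x : Q ⟶ Red.bc g (Red.bc fa V)) :
    un f (x ≫ (ActBC.bcCompIso g fa V h).hom) = (kap h Q).hom ≫ un fa (un g x) := by
  ext
  rw [un_left, Over.comp_left, Over.comp_left, kap_left, un_left, un_left, Category.assoc,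
    ActBC.bcCompIso_hom_left_fst, Category.assoc]
  exact (Category.id_comp _).symm

/-- projection of parameter spaces -/
noncomputable def pr : Over.mk f ⟶ Over.mk fa := Over.homMk g h

lemma kap_st (Q : Over S') : (kap h Q).hom ≫ st fa ((Over.map g).obj Q) = st f Q ≫ pr h := by
  ext
  rw [Over.comp_left, Over.comp_left, kap_left]
  exact Category.id_comp _

variable {G V : Over S} [GrpObj G] {V' : Over S'} (a : AlgGrp.Action (Red.bc f G) V')
  (ha : NonAbH1.IsPseudoTorsorSch a) (u : V' ≅ Red.bc f V) (F : Fam G V (Over.mk fa)) (hF : F.IsTors)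
  (hres : F.res (pr h) = ofAct f a ha u)

include hres in
lemma sm_bc_toAct {Q : Over S'} (x : Q ⟶ Red.bc g (Red.bc fa G)) (y : Q ⟶ Red.bc g (Red.bc fa V)) :
    sm ((toAct fa F hF).bc g) x y ≫ (ActBC.bcCompIso g fa V h).hom =
      sm a (x ≫ (ActBC.bcCompIso g fa G h).hom) (y ≫ (ActBC.bcCompIso g fa V h).hom ≫ u.inv) ≫ u.hom := by
  apply un_injective f
  rw [un_bcCompIso, un_sm, sm_toAct, un_mk, Fam.comp_act, kap_st, ← un_bcCompIso, ← un_bcCompIso, ← Fam.res_act, hres,
    ofAct_act, mk_un, mk_un, Category.assoc]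

end Compare

section Final

variable {B S S₁ S' : Scheme.{u}} {f : S' ⟶ S} {fa : S₁ ⟶ S} {g : S' ⟶ S₁} (h : g ≫ fa = f) {p : S ⟶ B}
  {p₁ : S₁ ⟶ B} {p' : S' ⟶ B} (h₁ : fa ≫ p = p₁) (h' : f ≫ p = p') (hg : g ≫ p₁ = p')
  {G : Over B} [GrpObj G] {V : Over S} {V' : Over S'}

omit [GrpObj G] in
lemma coh_aux {Q : Over S'} (x : Q ⟶ Red.bc g (Red.bc p₁ G)) (x' : Q ⟶ Red.bc g (Red.bc fa (Red.bc p G)))
    (e3 : x'.left ≫ pullback.fst (Red.bc fa (Red.bc p G)).hom g =
      (un g x).left ≫ (ActBC.bcCompIso fa p G h₁).inv.left) :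
    x' ≫ (ActBC.bcCompIso g fa (Red.bc p G) h).hom ≫ (ActBC.bcCompIso f p G h').hom =
      x ≫ (ActBC.bcCompIso g p₁ G hg).hom := by
  apply un_injective p'
  ext
  have e1 : (ActBC.bcCompIso fa p G h₁).inv.left ≫ pullback.fst (Red.bc p G).hom fa ≫ pullback.fst G.hom p =
      pullback.fst G.hom p₁ := by
    have e2 := ActBC.bcCompIso_hom_left_fst (X := G) fa p h₁
    rw [← e2, ← Category.assoc, ← Over.comp_left, Iso.inv_hom_id]
    exact Category.id_comp _
  have e4 : (ActBC.bcCompIso g fa (Red.bc p G) h).hom.left ≫ (ActBC.bcCompIso f p G h').hom.left ≫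
      pullback.fst G.hom p' = pullback.fst (Red.bc fa (Red.bc p G)).hom g ≫ pullback.fst (Red.bc p G).hom fa ≫
        pullback.fst G.hom p := by
    rw [ActBC.bcCompIso_hom_left_fst, ActBC.bcCompIso_hom_left_fst_assoc]
  rw [un_left, un_left, Over.comp_left, Over.comp_left, Over.comp_left, Category.assoc, Category.assoc, Category.assoc,
    e4, ActBC.bcCompIso_hom_left_fst, reassoc_of% e3, e1, un_left, Category.assoc]

omit [GrpObj G] in
lemma coh {Q : Over S'} (x : Q ⟶ Red.bc g (Red.bc p₁ G)) :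
    mk g (un g x ≫ (ActBC.bcCompIso fa p G h₁).inv) ≫ (ActBC.bcCompIso g fa (Red.bc p G) h).hom ≫
      (ActBC.bcCompIso f p G h').hom = x ≫ (ActBC.bcCompIso g p₁ G hg).hom := by
  refine coh_aux h h₁ h' hg x _ ?_
  rw [mk_left_fst]
  rfl

end Final

end K554.FamConv
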