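import Groth.Agent.NonAbH1.K554.FamConv
import Groth.Agent.NonAbH1.K554.Fpqc2
import Groth.Agent.Lim.K340.Degree
import Groth.Agent.S2581
import Groth.Agent.CalgA.LimFP2
import Groth.Agent.SGA1.K151.TorsFpqc

/-!
# Descent of finite torsors along cofiltered limits

`exists_torsor_stage`: a torsor (fpqc) under a finite group scheme over the limit of a cofiltered system of qcqs
schemes with affine transition maps comes from a stage.
-/

set_option autoImplicit false
universe u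

open CategoryTheory CategoryTheory.Limits MonoidalCategory CartesianMonoidalCategory MonObj GrpObj AlgebraicGeometry
open Groth.Agent.Books.BorelOrb K554.Fpqc K554.FibAct K554.BcPt K554.ExtTors K554.FamAct K554.FamConv
open Groth.Agent.Sga3.H806.StageHom Groth.Agent.Ega43.LimRed

namespace K554.FamLim

section Final

variable {B S S₁ S' : Scheme.{u}} {f : S' ⟶ S} {fa : S₁ ⟶ S} {g : S' ⟶ S₁} (h : g ≫ fa = f) {p : S ⟶ B}
  {p₁ : S₁ ⟶ B} {p' : S' ⟶ B} (h₁ : fa ≫ p = p₁) (h' : f ≫ p = p') (hg : g ≫ p₁ = p')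
  {G : Over B} [GrpObj G] {V : Over S} {V' : Over S'} (a : AlgGrp.Action (Red.bc p' G) V')
  (ha : NonAbH1.IsPseudoTorsorSch (a.restrict (ActBC.bcCompIso f p G h').hom)) (u : V' ≅ Red.bc f V)
  (F : Fam (Red.bc p G) V (Over.mk fa)) (hF : F.IsTors)
  (hres : F.res (pr h) = ofAct f (a.restrict (ActBC.bcCompIso f p G h').hom) ha u)

include hres in
theorem nonempty_equivIso : Nonempty (NonAbH1.EquivIso
    (((toAct fa F hF).restrict (ActBC.bcCompIso fa p G h₁).inv).bc g)
    (a.restrict (ActBC.bcCompIso g p₁ G hg).hom)) := by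
  refine ⟨K551.Tors.equivIsoOfPoints (ActBC.bcCompIso g fa V h ≪≫ u.symm) ?_⟩
  intro Q x y
  have h1 : sm (((toAct fa F hF).restrict (ActBC.bcCompIso fa p G h₁).inv).bc g) x y =
      sm ((toAct fa F hF).bc g) (mk g (un g x ≫ (ActBC.bcCompIso fa p G h₁).inv)) y := by
    apply un_injective g
    rw [un_sm, un_sm, sm_restrict, un_mk]
  rw [h1, Iso.trans_hom, Iso.symm_hom, ← Category.assoc, sm_bc_toAct h _ ha u F hF hres, Category.assoc, u.hom_inv_id,
    Category.comp_id, sm_restrict, sm_restrict, Category.assoc, coh h h₁ h' hg x]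

end Final

theorem descendsOne_surjective : DescendsOne @LocallyOfFinitePresentation.{u} @Surjective := by
  intro I _ _ D c hc _ _ _ i₀ X₀ f₀ hf₀ _ _ hP
  have hf : LocallyOfFinitePresentation f₀ := hf₀
  have hsurj : Surjective (pullback.snd f₀ (c.π.app i₀)) := hP
  have hY : IsPullback (c.π.app i₀) (𝟙 c.pt) (𝟙 (D.obj i₀)) (c.π.app i₀) := IsPullback.id_vert (c.π.app i₀)
  have e1 : LocallyOfFinitePresentation (f₀ ≫ 𝟙 _) := by rw [Category.comp_id]; exact hf
  have e2 : QuasiCompact (f₀ ≫ 𝟙 _) := by rw [Category.comp_id]; infer_instance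
  have e3 : QuasiSeparated (f₀ ≫ 𝟙 _) := by rw [Category.comp_id]; infer_instance
  obtain ⟨i, φ, Xi, Yi, fi, gi, pY, pX, h1, h2, h3⟩ := Groth.Agent.S2581.result D c hc i₀ f₀ (𝟙 _)
    (pullback.snd f₀ (c.π.app i₀)) (𝟙 c.pt) (c.π.app i₀) (pullback.fst f₀ (c.π.app i₀)) hY
    (IsPullback.of_hasPullback _ _)
  refine ⟨i, φ, ?_⟩
  have hgi : IsIso gi := h1.isIso_snd_of_isIso
  have h4 : IsPullback pX (fi ≫ gi) (f₀ ≫ 𝟙 _) (D.map φ) := h2.paste_vert h1
  rw [Category.comp_id] at h4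
  have h5 : Surjective (fi ≫ gi) := inferInstance
  have h6 : pullback.snd f₀ (D.map φ) = h4.isoPullback.inv ≫ fi ≫ gi := by
    rw [IsPullback.isoPullback_inv_snd]
  change Surjective (pullback.snd f₀ (D.map φ))
  rw [h6]
  infer_instance

theorem exists_torsor_stage {I : Type u} [SmallCategory I] [IsCofiltered I] (D : I ⥤ Scheme.{u}) (c : Cone D)
    (hc : IsLimit c) [∀ (i j : I) (f : i ⟶ j), IsAffineHom (D.map f)] [∀ i, CompactSpace (D.obj i)]
    [∀ i, QuasiSeparatedSpace (D.obj i)] {B : Scheme.{u}} (p : ∀ i, D.obj i ⟶ B)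
    (hp : ∀ {i j : I} (f : i ⟶ j), D.map f ≫ p j = p i) (p' : c.pt ⟶ B) (hp' : ∀ i, c.π.app i ≫ p i = p')
    (G : Over B) [GrpObj G] [IsFinite G.hom] [Flat G.hom] [LocallyOfFinitePresentation G.hom]
    (V : Over c.pt) [IsFinite V.hom] (a : AlgGrp.Action (Red.bc p' G) V)
    (hV : NonAbH1.IsTorsorFor Scheme.fpqcPrecoverage a) :
    ∃ (i : I) (Vi : Over (D.obj i)) (ai : AlgGrp.Action (Red.bc (p i) G) Vi),
      IsFinite Vi.hom ∧ NonAbH1.IsTorsorFor Scheme.fpqcPrecoverage ai ∧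
      Nonempty (NonAbH1.EquivIso (ai.bc (c.π.app i))
        (a.restrict (ActBC.bcCompIso (c.π.app i) (p i) G (hp' i)).hom)) := by
  have hG1 : Flat (Red.bc p' G).hom := inferInstanceAs (Flat (pullback.snd G.hom p'))
  have hG2 : LocallyOfFinitePresentation (Red.bc p' G).hom :=
    inferInstanceAs (LocallyOfFinitePresentation (pullback.snd G.hom p'))
  have hV1 : Flat V.hom := prop_of_isTorsorFor @Flat hV hG1
  have hV2 : LocallyOfFinitePresentation V.hom := prop_of_isTorsorFor @LocallyOfFinitePresentation hV hG2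
  have hV3 : Surjective V.hom := Fpqc2.surjective_of_isLocallyTrivialFor hV.2
  obtain ⟨i₀, ⟨M⟩⟩ := Groth.Agent.CalgA.LimFP.Mdl.exists_model hc V.hom
  have m1 := M.lfp
  have m2 := M.qc
  have m3 := M.qs
  let V₀ : Over (D.obj i₀) := Over.mk M.f
  have H : DescendsOne @LocallyOfFinitePresentation.{u} ((@IsFinite ⊓ @Flat) ⊓ @Surjective) :=
    K340.One.descendsOne_inf K340.Degree.descendsOne_finiteFlat descendsOne_surjective
  have hMsnd : pullback.snd M.f (c.π.app i₀) = M.h.isoPullback.inv ≫ V.hom := by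
    rw [IsPullback.isoPullback_inv_snd]
  obtain ⟨i, φ, ⟨⟨hi1, hi2⟩, hi3⟩⟩ := H D c hc i₀ M.f M.lfp (by
    rw [hMsnd]
    exact ⟨⟨(inferInstance : IsFinite _), (inferInstance : Flat _)⟩, (inferInstance : Surjective _)⟩)
  let V₁ : Over (D.obj i) := Red.bc (D.map φ) V₀
  have v1 : IsFinite V₁.hom := hi1
  have v2 : Flat V₁.hom := hi2
  have v3 : Surjective V₁.hom := hi3
  have v4 : LocallyOfFinitePresentation V₁.hom :=
    inferInstanceAs (LocallyOfFinitePresentation (pullback.snd M.f (D.map φ)))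
  have hGi1 : IsFinite (Red.bc (p i) G).hom := inferInstanceAs (IsFinite (pullback.snd G.hom (p i)))
  have hGi2 : LocallyOfFinitePresentation (Red.bc (p i) G).hom :=
    inferInstanceAs (LocallyOfFinitePresentation (pullback.snd G.hom (p i)))
  let u : V ≅ Red.bc (c.π.app i) V₁ :=
    (Over.isoMk M.h.isoPullback (IsPullback.isoPullback_hom_snd _) : V ≅ Red.bc (c.π.app i₀) V₀) ≪≫
      (ActBC.bcCompIso (c.π.app i) (D.map φ) V₀ (c.w φ)).symm
  have ha : NonAbH1.IsPseudoTorsorSch (a.restrict (ActBC.bcCompIso (c.π.app i) (p i) G (hp' i)).hom) :=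
    K553.Bc.isPseudoTorsorSch_restrict hV.1 _
  obtain ⟨j, b, F, hres, hF⟩ := Fam.exists_stage hc
    (ofAct (c.π.app i) (a.restrict (ActBC.bcCompIso (c.π.app i) (p i) G (hp' i)).hom) ha u)
    (isTors_ofAct _ _ ha u)
  have w1 : IsFinite (Red.bc (D.map b) V₁).hom := inferInstanceAs (IsFinite (pullback.snd V₁.hom (D.map b)))
  have w2 : Flat (Red.bc (D.map b) V₁).hom := inferInstanceAs (Flat (pullback.snd V₁.hom (D.map b)))
  have w3 : Surjective (Red.bc (D.map b) V₁).hom := inferInstanceAs (Surjective (pullback.snd V₁.hom (D.map b)))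
  refine ⟨j, Red.bc (D.map b) V₁, (toAct (D.map b) F hF).restrict (ActBC.bcCompIso (D.map b) (p i) G (hp b)).inv,
    w1, ⟨K553.Bc.isPseudoTorsorSch_restrict (isPseudoTorsorSch_toAct _ F hF) _,
      Fpqc2.isLocallyTrivialFor_of_flat _⟩, ?_⟩
  exact nonempty_equivIso (c.w b) (hp b) (hp' i) (hp' j) a ha u F hF hres

end K554.FamLim
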