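import Groth.Agent.NonAbH1.K554.BcPt

/-!
# The action on a fibre product of torsors

* `mkAction`: an action from its points laws.
* `fibAct`: for `P = G₁ ×_G G₂`, the action of `P` on `T₁ ×_T T₂`, and `isPseudoTorsorSch_fibAct`.
-/

set_option autoImplicit false
universe u

open CategoryTheory CategoryTheory.Limits MonoidalCategory CartesianMonoidalCategory MonObj GrpObj AlgebraicGeometry
open Groth.Agent.Books.BorelOrb K554.Fpqc

namespace K554.FibAct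

section

variable {S : Scheme.{u}} {G X : Over S} [GrpObj G]

/-- an action from its points laws -/
noncomputable def mkAction (act : G ⊗ X ⟶ X) (h1 : ∀ (T : Over S) (x : T ⟶ X), lift (1 : T ⟶ G) x ≫ act = x)
    (hm : ∀ (T : Over S) (g h : T ⟶ G) (x : T ⟶ X), lift (g * h) x ≫ act = lift g (lift h x ≫ act) ≫ act) :
    AlgGrp.Action G X where
  act := act
  one_act := by
    apply AlgGrp.Action.hom_ext_lift₂
    intro T u x
    have hu : u ≫ η[G] = 1 := by rw [Hom.one_def, toUnit_unique (toUnit T) u]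
    rw [lift_whiskerRight_assoc, hu, h1, leftUnitor_hom, lift_snd]
  mul_act := by
    apply AlgGrp.Action.hom_ext_lift₃
    intro T g g' x
    rw [lift_whiskerRight_assoc, ← Hom.mul_def, hm, lift_lift_associator_hom_assoc, lift_whiskerLeft_assoc]

lemma sm_mkAction (act : G ⊗ X ⟶ X) (h1 : ∀ (T : Over S) (x : T ⟶ X), lift (1 : T ⟶ G) x ≫ act = x)
    (hm : ∀ (T : Over S) (g h : T ⟶ G) (x : T ⟶ X), lift (g * h) x ≫ act = lift g (lift h x ≫ act) ≫ act)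
    {T : Over S} (g : T ⟶ G) (x : T ⟶ X) : sm (mkAction act h1 hm) g x = lift g x ≫ act := rfl

end

section

variable {S : Scheme.{u}} {G G₁ G₂ P : Over S} [GrpObj G] [GrpObj G₁] [GrpObj G₂] [GrpObj P]
    {φ₁ : G₁ ⟶ G} {φ₂ : G₂ ⟶ G} [IsMonHom φ₁] [IsMonHom φ₂]
    {π₁ : P ⟶ G₁} {π₂ : P ⟶ G₂} [IsMonHom π₁] [IsMonHom π₂]
    {T T₁ T₂ : Over S}
    {a : AlgGrp.Action G T} {a₁ : AlgGrp.Action G₁ T₁} {a₂ : AlgGrp.Action G₂ T₂}
    {f₁ : T₁ ⟶ T} {f₂ : T₂ ⟶ T}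

lemma fibAct_cond (hw : π₁ ≫ φ₁ = π₂ ≫ φ₂)
    (hf₁ : AlgGrp.Action.IsEquivariant a₁ (a.restrict φ₁) f₁)
    (hf₂ : AlgGrp.Action.IsEquivariant a₂ (a.restrict φ₂) f₂) {Y : Over S} (p : Y ⟶ P) (y : Y ⟶ pullback f₁ f₂) :
    sm a₁ (p ≫ π₁) (y ≫ pullback.fst f₁ f₂) ≫ f₁ = sm a₂ (p ≫ π₂) (y ≫ pullback.snd f₁ f₂) ≫ f₂ := by
  rw [isEquivariant_iff] at hf₁ hf₂
  rw [hf₁, hf₂, sm_restrict, sm_restrict, Category.assoc, Category.assoc, Category.assoc, Category.assoc, hw,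
    pullback.condition]

/-- the action of `P = G₁ ×_G G₂` on `T₁ ×_T T₂` -/
noncomputable def fibAct (hw : π₁ ≫ φ₁ = π₂ ≫ φ₂)
    (hf₁ : AlgGrp.Action.IsEquivariant a₁ (a.restrict φ₁) f₁)
    (hf₂ : AlgGrp.Action.IsEquivariant a₂ (a.restrict φ₂) f₂) : AlgGrp.Action P (pullback f₁ f₂) :=
  mkAction (pullback.lift _ _ (fibAct_cond hw hf₁ hf₂ (fst P (pullback f₁ f₂)) (snd P (pullback f₁ f₂))))
    (by
      intro Y y
      apply pullback.hom_ext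
      · rw [Category.assoc, pullback.lift_fst, comp_sm, lift_fst_assoc, lift_snd_assoc, MonObj.one_comp, one_sm]
      · rw [Category.assoc, pullback.lift_snd, comp_sm, lift_fst_assoc, lift_snd_assoc, MonObj.one_comp, one_sm])
    (by
      intro Y g h y
      apply pullback.hom_ext
      · simp only [Category.assoc, pullback.lift_fst, comp_sm, lift_fst_assoc, lift_snd_assoc, MonObj.mul_comp, mul_sm]
      · simp only [Category.assoc, pullback.lift_snd, comp_sm, lift_fst_assoc, lift_snd_assoc, MonObj.mul_comp, mul_sm])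

lemma sm_fibAct_fst (hw : π₁ ≫ φ₁ = π₂ ≫ φ₂)
    (hf₁ : AlgGrp.Action.IsEquivariant a₁ (a.restrict φ₁) f₁)
    (hf₂ : AlgGrp.Action.IsEquivariant a₂ (a.restrict φ₂) f₂) {Y : Over S} (p : Y ⟶ P) (y : Y ⟶ pullback f₁ f₂) :
    sm (fibAct hw hf₁ hf₂) p y ≫ pullback.fst f₁ f₂ = sm a₁ (p ≫ π₁) (y ≫ pullback.fst f₁ f₂) := by
  rw [fibAct, sm_mkAction, Category.assoc, pullback.lift_fst, comp_sm, lift_fst_assoc, lift_snd_assoc]

lemma sm_fibAct_snd (hw : π₁ ≫ φ₁ = π₂ ≫ φ₂)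
    (hf₁ : AlgGrp.Action.IsEquivariant a₁ (a.restrict φ₁) f₁)
    (hf₂ : AlgGrp.Action.IsEquivariant a₂ (a.restrict φ₂) f₂) {Y : Over S} (p : Y ⟶ P) (y : Y ⟶ pullback f₁ f₂) :
    sm (fibAct hw hf₁ hf₂) p y ≫ pullback.snd f₁ f₂ = sm a₂ (p ≫ π₂) (y ≫ pullback.snd f₁ f₂) := by
  rw [fibAct, sm_mkAction, Category.assoc, pullback.lift_snd, comp_sm, lift_fst_assoc, lift_snd_assoc]

theorem isPseudoTorsorSch_fibAct (hP : IsPullback π₁ π₂ φ₁ φ₂)
    (hf₁ : AlgGrp.Action.IsEquivariant a₁ (a.restrict φ₁) f₁)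
    (hf₂ : AlgGrp.Action.IsEquivariant a₂ (a.restrict φ₂) f₂)
    (ha : NonAbH1.IsPseudoTorsorSch a) (ha₁ : NonAbH1.IsPseudoTorsorSch a₁) (ha₂ : NonAbH1.IsPseudoTorsorSch a₂) :
    NonAbH1.IsPseudoTorsorSch (fibAct hP.w hf₁ hf₂) := by
  rw [isPseudoTorsorSch_iff]
  intro Y x y
  have e₁ := hf₁
  have e₂ := hf₂
  rw [isEquivariant_iff] at e₁ e₂
  let g₁ := dif ha₁ (x ≫ pullback.fst f₁ f₂) (y ≫ pullback.fst f₁ f₂)
  let g₂ := dif ha₂ (x ≫ pullback.snd f₁ f₂) (y ≫ pullback.snd f₁ f₂)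
  have h1 : g₁ ≫ φ₁ = g₂ ≫ φ₂ := by
    refine sm_injective ha (y ≫ pullback.fst f₁ f₂ ≫ f₁) ?_
    have h2 := e₁ Y g₁ (y ≫ pullback.fst f₁ f₂)
    have h3 := e₂ Y g₂ (y ≫ pullback.snd f₁ f₂)
    rw [sm_dif, sm_restrict] at h2 h3
    rw [← Category.assoc y, ← h2]
    conv_rhs => rw [Category.assoc, pullback.condition, ← Category.assoc y, ← h3]
    rw [Category.assoc, Category.assoc, pullback.condition]
  refine ⟨hP.lift g₁ g₂ h1, ?_, ?_⟩
  · apply pullback.hom_ext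
    · rw [sm_fibAct_fst, IsPullback.lift_fst, sm_dif]
    · rw [sm_fibAct_snd, IsPullback.lift_snd, sm_dif]
  · intro p hp
    apply hP.hom_ext
    · rw [IsPullback.lift_fst]
      refine (dif_eq ha₁ ?_).symm
      rw [← sm_fibAct_fst hP.w hf₁ hf₂]
      exact congrArg (· ≫ pullback.fst f₁ f₂) hp
    · rw [IsPullback.lift_snd]
      refine (dif_eq ha₂ ?_).symm
      rw [← sm_fibAct_snd hP.w hf₁ hf₂]
      exact congrArg (· ≫ pullback.snd f₁ f₂) hp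

end

end K554.FibAct
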