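import Groth.Agent.NonAbH1.K554.BcPt
import Groth.Agent.Etbase.FpqcDescent
import Mathlib.AlgebraicGeometry.Morphisms.QuasiFinite

/-!
# Fibre products of pointed finite torsors over a connected scheme

* `flat_descends`: flatness descends along `Surjective ⊓ Flat ⊓ QuasiCompact`.
* `isFinite_hom`, `flat_hom`, `lfp_hom`: torsors under a finite group scheme over a field.
* `surjective_fibProd`: `T₁ ×_T T₂ ⟶ X` is surjective for morphisms of pointed torsors over a connected `X`.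
-/

set_option autoImplicit false
universe u

open CategoryTheory CategoryTheory.Limits MonoidalCategory CartesianMonoidalCategory MonObj GrpObj AlgebraicGeometry
open Groth.Agent.Books.BorelOrb K554.Fpqc

namespace K554.FibProd

/-- Flatness codescends along faithfully flat ring maps. -/
theorem flat_codescends : RingHom.CodescendsAlong.{u} RingHom.Flat RingHom.FaithfullyFlat := by
  refine RingHom.CodescendsAlong.mk _ RingHom.Flat.respectsIso fun R S T _ _ _ _ _ h h' ↦ ?_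
  rw [RingHom.flat_algebraMap_iff] at h' ⊢
  rw [RingHom.faithfullyFlat_algebraMap_iff] at h
  exact Module.Flat.of_flat_tensorProduct R T S

theorem flat_descends : MorphismProperty.DescendsAlong @Flat
    (@Surjective ⊓ @Flat ⊓ @QuasiCompact : MorphismProperty Scheme.{u}) :=
  HasRingHomProperty.descendsAlong_flat flat_codescends

/-- a scheme finite over a field is discrete -/
theorem discreteTopology_of_isFinite {K : Type u} [Field K] {Z : Scheme.{u}}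
    (g : Z ⟶ Spec (CommRingCat.of K)) [IsFinite g] : DiscreteTopology Z := by
  have : IsLocallyArtinian Z := .of_locallyQuasiFinite g
  infer_instance

section Tors

variable {k : Type u} [Field k] {X : Scheme.{u}} (f : X ⟶ Spec (CommRingCat.of k))
  {G : Over (Spec (CommRingCat.of k))} [GrpObj G] [IsFinite G.hom] {T : Over X}
  {a : AlgGrp.Action (Red.bc f G) T} (hT : NonAbH1.IsTorsorFor Scheme.fpqcPrecoverage a)

include hT

theorem isFinite_hom : IsFinite T.hom :=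
  prop_of_isTorsorFor @IsFinite hT (inferInstanceAs (IsFinite (pullback.snd G.hom f)))

omit [IsFinite G.hom] in
theorem flat_hom : Flat T.hom := by
  have h1 : Flat (pullback.snd G.hom f) := inferInstance
  have := flat_descends.{u}
  exact prop_of_isTorsorFor @Flat hT h1

theorem lfp_hom : LocallyOfFinitePresentation T.hom := by
  have h0 : LocallyOfFinitePresentation G.hom :=
    LocallyOfFinitePresentation.iff_locallyOfFiniteType.2 inferInstance
  have h1 : LocallyOfFinitePresentation (pullback.snd G.hom f) := inferInstance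
  exact prop_of_isTorsorFor @LocallyOfFinitePresentation hT h1

end Tors

lemma isTorsorFor_mono {S : Scheme.{u}} {K K' : Precoverage Scheme.{u}} (h : K ≤ K') {G X : Over S} [GrpObj G]
    {a : AlgGrp.Action G X} (ha : NonAbH1.IsTorsorFor K a) : NonAbH1.IsTorsorFor K' a := by
  obtain ⟨h1, R, hR, h2⟩ := ha
  exact ⟨h1, R, h S hR, h2⟩

lemma fpqc_of_fppf {S : Scheme.{u}} {G X : Over S} [GrpObj G]
    {a : AlgGrp.Action G X} (ha : NonAbH1.IsTorsorFor Scheme.fppfPrecoverage a) :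
    NonAbH1.IsTorsorFor Scheme.fpqcPrecoverage a :=
  isTorsorFor_mono Scheme.fppfPrecoverage_le_fpqcPrecoverage ha

section Main

variable {k : Type u} [Field k] {X : Scheme.{u}} (f : X ⟶ Spec (CommRingCat.of k))
    {G G₁ G₂ : Over (Spec (CommRingCat.of k))} [GrpObj G] [GrpObj G₁] [GrpObj G₂]
    (φ₁ : G₁ ⟶ G) (φ₂ : G₂ ⟶ G) [IsMonHom φ₁] [IsMonHom φ₂]
    {T T₁ T₂ : Over X}
    {a : AlgGrp.Action (Red.bc f G) T}
    {a₁ : AlgGrp.Action (Red.bc f G₁) T₁}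
    {a₂ : AlgGrp.Action (Red.bc f G₂) T₂}
    (hT : NonAbH1.IsPseudoTorsorSch a)
    {f₁ : T₁ ⟶ T} {f₂ : T₂ ⟶ T}
    (hf₁ : AlgGrp.Action.IsEquivariant a₁ (a.restrict ((Over.pullback f).map φ₁)) f₁)
    (hf₂ : AlgGrp.Action.IsEquivariant a₂ (a.restrict ((Over.pullback f).map φ₂)) f₂)

variable (f₁ f₂) in
/-- the difference of `f₁ t₁` and `f₂ t₂` -/
noncomputable def D : T₁ ⊗ T₂ ⟶ Red.bc f G := dif hT (fst T₁ T₂ ≫ f₁) (snd T₁ T₂ ≫ f₂)

omit [GrpObj G₁] [GrpObj G₂] [IsMonHom φ₁] [IsMonHom φ₂] in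
/-- `(g₁, g₂) ↦ φ₁(g₁) φ₂(g₂)⁻¹` -/
noncomputable def m : G₁ ⊗ G₂ ⟶ G := (fst G₁ G₂ ≫ φ₁) * (snd G₁ G₂ ≫ φ₂)⁻¹

include hT hf₁ hf₂ in
/-- a point `(t₁, t₂)` whose difference is `φ₁(g₁) φ₂(g₂)⁻¹` gives a point of `T₁ ×_T T₂`. -/
lemma exists_point {Y : Over X} (v : Y ⟶ T₁ ⊗ T₂) (g : (Over.map f).obj Y ⟶ G₁ ⊗ G₂)
    (h : BcPt.un f (v ≫ D f hT f₁ f₂) = g ≫ m φ₁ φ₂) :
    Nonempty (Y ⟶ pullback f₁ f₂) := by
  rw [isEquivariant_iff] at hf₁ hf₂
  let g₁ : Y ⟶ Red.bc f G₁ := BcPt.mk f (g ≫ fst _ _)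
  let g₂ : Y ⟶ Red.bc f G₂ := BcPt.mk f (g ≫ snd _ _)
  let δ : Y ⟶ Red.bc f G := v ≫ D f hT f₁ f₂
  have hδ : δ = (g₁ ≫ (Over.pullback f).map φ₁) * (g₂ ≫ (Over.pullback f).map φ₂)⁻¹ := by
    apply BcPt.un_injective f
    rw [BcPt.un_mul, BcPt.un_inv, BcPt.un_comp_map, BcPt.un_comp_map, BcPt.un_mk, BcPt.un_mk, h, m,
      comp_mul, comp_inv, Category.assoc, Category.assoc]
  have hδ2 : sm a δ ((v ≫ snd _ _) ≫ f₂) = (v ≫ fst _ _) ≫ f₁ := by
    change sm a (v ≫ dif hT _ _) _ = _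
    rw [comp_dif, ← Category.assoc, ← Category.assoc]
    exact sm_dif hT _ _
  refine ⟨pullback.lift (sm a₁ g₁⁻¹ (v ≫ fst _ _)) (sm a₂ g₂⁻¹ (v ≫ snd _ _)) ?_⟩
  rw [hf₁, hf₂, sm_restrict, sm_restrict, ← hδ2, ← mul_sm, hδ, GrpObj.inv_comp, GrpObj.inv_comp,
    inv_mul_cancel_left]

include hT hf₁ hf₂ in
/-- `T₁ ×_T T₂ ⟶ X` is surjective, if the set of the points `(t₁, t₂)` whose difference is in the image of `m`
has image `X`. -/
theorem surjective_fibProd [ConnectedSpace X] [IsFinite G.hom] [IsFinite (T₁ ⊗ T₂).hom] [Flat (T₁ ⊗ T₂).hom]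
    [LocallyOfFinitePresentation (T₁ ⊗ T₂).hom]
    {Ω : Scheme.{u}} [Nonempty Ω] (x : Ω ⟶ X)
    (t : Ω ⟶ T.left) (t₁ : Ω ⟶ T₁.left) (t₂ : Ω ⟶ T₂.left)
    (_ht : t ≫ T.hom = x) (ht₁ : t₁ ≫ T₁.hom = x) (ht₂ : t₂ ≫ T₂.hom = x)
    (hft₁ : t₁ ≫ f₁.left = t) (hft₂ : t₂ ≫ f₂.left = t) : Surjective (pullback f₁ f₂).hom := by
  let δ := D f hT f₁ f₂
  let D₀ : (T₁ ⊗ T₂).left ⟶ G.left := (BcPt.un f δ).left
  let Z₀ : Set G.left := Set.range (m φ₁ φ₂).left
  have hdisc : DiscreteTopology G.left := discreteTopology_of_isFinite G.hom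
  have hZ : IsClopen Z₀ := isClopen_discrete Z₀
  let W : Set (T₁ ⊗ T₂).left := D₀ ⁻¹' Z₀
  have hW : IsClopen W := hZ.preimage D₀.continuous
  let p := (T₁ ⊗ T₂).hom
  have hp1 : IsOpenMap p := Scheme.Hom.isOpenMap p
  have hp2 : IsClosedMap p := Scheme.Hom.isClosedMap p
  have hpW : IsClopen (p '' W) := ⟨hp2 _ hW.1, hp1 _ hW.2⟩
  have hne : (p '' W).Nonempty := by
    let pt : Over X := Over.mk x
    let t₁' : pt ⟶ T₁ := Over.homMk t₁ ht₁
    let t₂' : pt ⟶ T₂ := Over.homMk t₂ ht₂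
    have h1 : t₁' ≫ f₁ = t₂' ≫ f₂ := by
      ext
      exact hft₁.trans hft₂.symm
    have h2 : lift t₁' t₂' ≫ δ = 1 := by
      change lift t₁' t₂' ≫ dif hT _ _ = 1
      rw [comp_dif, lift_fst_assoc, lift_snd_assoc, h1, dif_self]
    have h3 : (Over.map f).map (lift t₁' t₂') ≫ BcPt.un f δ = (1 : (Over.map f).obj pt ⟶ G₁ ⊗ G₂) ≫ m φ₁ φ₂ := by
      rw [← BcPt.un_comp, h2, BcPt.un_one, m, comp_mul, comp_inv, ← Category.assoc, ← Category.assoc]
      simp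
    obtain ⟨ω⟩ := (inferInstance : Nonempty Ω)
    refine ⟨_, (lift t₁' t₂').left ω, ?_, rfl⟩
    have h4 := congrArg (fun z => z.left ω) h3
    exact ⟨_, h4.symm⟩
  have huniv : p '' W = Set.univ := hpW.eq_univ hne
  refine ⟨fun q => ?_⟩
  obtain ⟨w, hw, hwq⟩ : q ∈ p '' W := by rw [huniv]; trivial
  obtain ⟨z, hz⟩ := hw
  obtain ⟨v, hv1, hv2⟩ := Scheme.Pullback.exists_preimage_pullback w z hz.symm
  let Y : Over X := Over.mk (pullback.fst D₀ (m φ₁ φ₂).left ≫ (T₁ ⊗ T₂).hom)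
  let v' : Y ⟶ T₁ ⊗ T₂ := Over.homMk (pullback.fst D₀ (m φ₁ φ₂).left) rfl
  let g' : (Over.map f).obj Y ⟶ G₁ ⊗ G₂ := Over.homMk (pullback.snd D₀ (m φ₁ φ₂).left) (by
    have h5 : pullback.snd D₀ (m φ₁ φ₂).left ≫ (G₁ ⊗ G₂).hom =
        (pullback.snd D₀ (m φ₁ φ₂).left ≫ (m φ₁ φ₂).left) ≫ G.hom := by
      rw [Category.assoc, Over.w]
    have h6 : D₀ ≫ G.hom = (T₁ ⊗ T₂).hom ≫ f := Over.w (BcPt.un f δ)
    rw [h5, ← pullback.condition, Category.assoc, h6]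
    simp [Y])
  obtain ⟨s⟩ := exists_point f φ₁ φ₂ hT hf₁ hf₂ v' g' (by
    rw [BcPt.un_comp]
    ext
    exact pullback.condition)
  refine ⟨s.left v, ?_⟩
  rw [← Scheme.Hom.comp_apply, Over.w, ← hwq, ← hv1]
  rfl

end Main

section Inst

variable {X : Scheme.{u}} (T₁ T₂ : Over X)

lemma tensor_hom (P : MorphismProperty Scheme.{u}) [P.IsStableUnderBaseChange] [P.IsStableUnderComposition]
    (h₁ : P T₁.hom) (h₂ : P T₂.hom) : P (T₁ ⊗ T₂).hom := by
  change P (pullback.fst T₁.hom T₂.hom ≫ T₁.hom)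
  exact P.comp_mem _ _ (P.pullback_fst _ _ h₂) h₁

end Inst

end K554.FibProd
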