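import Groth.Agent.NonAbH1.K554.Fpqc2
import Groth.Agent.NonAbH1.K554.FibAct
import Groth.Agent.Sga3.H775.ActGrpd
import Groth.Agent.S1877
import Groth.Agent.S1878

/-!
# Quotients by free actions of finite flat group schemes
-/

set_option autoImplicit false
universe u

open CategoryTheory CategoryTheory.Limits MonoidalCategory CartesianMonoidalCategory MonObj GrpObj AlgebraicGeometry
open Groth.Agent.Books.BorelOrb K554.Fpqc K554.Fpqc2

namespace K554.FreeQuot

open Groth.Agent.Sga3.H775.ActGrpd

lemma exists_arrow {U R M T : Scheme.{u}} {t s : R ⟶ U} {q : U ⟶ M} (φ : R ≅ pullback q q)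
    (h1 : φ.hom ≫ pullback.fst q q = t) (h2 : φ.hom ≫ pullback.snd q q = s) (y y' : T ⟶ U) (h : y ≫ q = y' ≫ q) :
    ∃ r : T ⟶ R, r ≫ t = y ∧ r ≫ s = y' := by
  refine ⟨pullback.lift y y' h ≫ φ.inv, ?_, ?_⟩
  · rw [← h1, Category.assoc, Iso.inv_hom_id_assoc, pullback.lift_fst]
  · rw [← h2, Category.assoc, Iso.inv_hom_id_assoc, pullback.lift_snd]

/-- The quotient of an affine `Y` by a free action of a finite flat group scheme locally of finite presentation. -/
theorem exists_quotient {S : Scheme.{u}} {G Y : Over S} [GrpObj G] [IsFinite G.hom] [Flat G.hom]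
    [LocallyOfFinitePresentation G.hom] [IsAffine Y.left] (a : AlgGrp.Action G Y)
    [Mono (lift a.act (snd G Y))] :
    ∃ (M : Over S) (q : Y ⟶ M), IsAffine M.left ∧ IsFinite q.left ∧ Flat q.left ∧
      LocallyOfFinitePresentation q.left ∧ Surjective q.left ∧
      ∀ (T : Over S) (y y' : T ⟶ Y), y ≫ q = y' ≫ q ↔ ∃ g : T ⟶ G, sm a g y' = y := by
  let D := actGrpd a
  have hs1 : IsFinite D.s := inferInstanceAs (IsFinite (pullback.snd G.hom Y.hom))
  have hs2 : Flat D.s := inferInstanceAs (Flat (pullback.snd G.hom Y.hom))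
  have hs3 : LocallyOfFinitePresentation D.s :=
    inferInstanceAs (LocallyOfFinitePresentation (pullback.snd G.hom Y.hom))
  have hU : IsAffine D.U := inferInstanceAs (IsAffine Y.left)
  have hR : IsAffine D.R := isAffine_of_isAffineHom D.s
  have hi : IsIso D.i := ⟨D.i, by
    have h1 : ivr a ≫ ivr a = 𝟙 _ := by
      apply CartesianMonoidalCategory.hom_ext
      · rw [comp_ivr_fst]
        have := comp_ivr_fst a (𝟙 (G ⊗ Y))
        rw [Category.id_comp] at this
        rw [this, _root_.inv_inv]
      · rw [comp_ivr_snd]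
        have := comp_ivr_act a (𝟙 (G ⊗ Y))
        rw [Category.id_comp] at this
        rw [this]
    exact ⟨congrArg CommaMorphism.left h1, congrArg CommaMorphism.left h1⟩⟩
  have ht : D.t = D.i ≫ D.s := D.i_s.symm
  have ht1 : IsFinite D.t := by rw [ht]; infer_instance
  have ht2 : Flat D.t := by rw [ht]; infer_instance
  have ht3 : LocallyOfFinitePresentation D.t := by rw [ht]; infer_instance
  have hj : Mono D.j := by
    have h1 : Mono (lift a.act (snd G Y)).left :=
      inferInstanceAs (Mono ((Over.forget S).map (lift a.act (snd G Y))))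
    have h2 : D.j = (lift a.act (snd G Y)).left := by
      apply pullback.hom_ext
      · exact (pullback.lift_fst _ _ _).trans
          (congrArg CommaMorphism.left (lift_fst a.act (snd G Y))).symm
      · exact (pullback.lift_snd _ _ _).trans
          (congrArg CommaMorphism.left (lift_snd a.act (snd G Y))).symm
    rw [h2]
    exact h1
  obtain ⟨⟨q1, q2, q3⟩, φ, hφ1, hφ2⟩ := Groth.Agent.S1877.result S D
  obtain ⟨⟨q4, -⟩, -⟩ := Groth.Agent.S1878.result S D
  have q4' : Surjective D.toQuot := ⟨q4⟩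
  let M0 : Scheme.{u} := Spec (CommRingCat.of D.invariants)
  let Q : Over M0 := Over.mk D.toQuot
  have q1' : IsFinite Q.hom := q1
  have q2' : Flat Q.hom := q2
  have q4'' : Surjective Q.hom := q4'
  have hQ : NonAbH1.IsLocallyTrivialFor Scheme.fpqcPrecoverage Q :=
    isLocallyTrivialFor_of_flat Q
  have hcond : pullback.fst Q.hom Q.hom ≫ Y.hom = pullback.snd Q.hom Q.hom ≫ Y.hom := by
    rw [← cancel_epi φ.hom]
    change φ.hom ≫ pullback.fst D.toQuot D.toQuot ≫ Y.hom = φ.hom ≫ pullback.snd D.toQuot D.toQuot ≫ Y.hom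
    rw [reassoc_of% hφ1, reassoc_of% hφ2]
    exact D.t_over.trans D.s_over.symm
  obtain ⟨m, hm⟩ := exists_desc Scheme.fpqcPrecoverage hQ Y.hom hcond
  refine ⟨Over.mk m, Over.homMk D.toQuot hm, inferInstanceAs (IsAffine M0), q1, q2, q3, q4', ?_⟩
  intro T y y'
  constructor
  · intro h
    have h1 : y.left ≫ D.toQuot = y'.left ≫ D.toQuot := congrArg CommaMorphism.left h
    obtain ⟨r, hr1, hr2⟩ := exists_arrow φ hφ1 hφ2 y.left y'.left h1
    let r' : T ⟶ G ⊗ Y := Over.homMk r (by
      have h3 := D.s_over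
      change r ≫ D.pR = _
      rw [← h3, reassoc_of% hr2]
      exact Over.w y')
    refine ⟨r' ≫ fst G Y, ?_⟩
    have h4 : r' ≫ snd G Y = y' := Over.OverMorphism.ext hr2
    have h5 : r' ≫ a.act = y := Over.OverMorphism.ext hr1
    rw [← h4, sm, ← comp_lift, lift_fst_snd, Category.comp_id, h5]
  · rintro ⟨g, rfl⟩
    have h6 : D.t ≫ D.toQuot = D.s ≫ D.toQuot := by
      rw [← hφ1, ← hφ2, Category.assoc, Category.assoc, pullback.condition]
    apply Over.OverMorphism.ext
    change (lift g y' ≫ a.act).left ≫ D.toQuot = y'.left ≫ D.toQuot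
    have h7 : (lift g y').left ≫ D.s = y'.left := by
      change (lift g y' ≫ snd G Y).left = _
      rw [lift_snd]
    rw [← h7, Over.comp_left, Category.assoc]
    exact (congrArg (fun z => (lift g y').left ≫ z) h6).trans (Category.assoc _ _ _).symm

end K554.FreeQuot
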