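import Groth.Agent.NonAbH1.K554.GrH0
import Groth.Agent.Sga3C.Affinization

/-!
# The fibre of the Stein factorization of a trivial torsor

Helpers for `S18766`.
-/

set_option autoImplicit false
universe u

open CategoryTheory CategoryTheory.Limits MonoidalCategory CartesianMonoidalCategory AlgebraicGeometry Opposite
open TensorProduct TopologicalSpace
open Groth.Agent.Ega3B Groth.Agent.Ega3B.EqzSections Groth.Agent.Ega3A.FiberRank
open Groth.Agent.Sga3C.Affinization Groth.Agent.Ega3B.EtAffine Groth.Agent.Ega3B.EtExchange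
open Groth.Agent.Ega3B.EtTheta

namespace K554.GrFib

theorem isIso_left_appTop {S : Scheme.{u}} {X Y : Over S} (f : X ⟶ Y) [IsIso f] : IsIso f.left.appTop := by
  have h1 : IsIso f.left := inferInstanceAs (IsIso ((Over.forget S).map f))
  exact inferInstanceAs (IsIso (f.left.app ⊤))

section Field

variable {κ : Type u} [Field κ] {P Z G X : Over (Spec (CommRingCat.of κ))} [IsAffine G.left]
  [CompactSpace X.left] [QuasiSeparatedSpace X.left]

theorem isAffinization_fst (hX : IsAffinization (toUnit X)) : IsAffinization (fst G X) := by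
  have : CompactSpace G.left := inferInstance
  have : QuasiSeparatedSpace G.left := inferInstance
  have h1 := (IsAffinization.id G).tensor κ hX
  have h2 : fst G X = (𝟙 G ⊗ₘ toUnit X) ≫ (ρ_ G).hom := by
    rw [rightUnitor_hom, tensorHom_fst, Category.comp_id]
  have h3 := h1.isIso
  refine ⟨inferInstance, ?_⟩
  rw [h2, Over.comp_left, Scheme.Hom.comp_appTop]
  have h4 : IsIso (ρ_ G).hom.left.appTop := isIso_left_appTop _
  infer_instance

theorem isAffinization_of_isIso (hX : IsAffinization (toUnit X)) (c : P ⟶ G) (p : P ⟶ X) [IsIso (lift c p)] :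
    IsAffinization c := by
  have h1 := isAffinization_fst (G := G) hX
  have h2 : c = lift c p ≫ fst G X := by simp
  have h3 := h1.isIso
  refine ⟨inferInstance, ?_⟩
  rw [h2, Over.comp_left, Scheme.Hom.comp_appTop]
  have h4 : IsIso (lift c p).left.appTop := isIso_left_appTop _
  infer_instance

theorem isIso_lift_of_isAffinization (hX : IsAffinization (toUnit X)) (c : P ⟶ G) (p : P ⟶ X) [IsIso (lift c p)]
    (α : P ⟶ Z) (hα : IsAffinization α) : IsIso (lift α p) := by
  have hc : IsAffinization c := isAffinization_of_isIso hX c p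
  have := hα.isAffine
  obtain ⟨e, he⟩ := hc.exists_fac α
  obtain ⟨e', he'⟩ := hα.exists_fac c
  have h1 : e ≫ e' = 𝟙 G := hc.hom_ext (by rw [← Category.assoc, he, he', Category.comp_id])
  have h2 : e' ≫ e = 𝟙 Z := hα.hom_ext (by rw [← Category.assoc, he', he, Category.comp_id])
  have h3 : IsIso e := ⟨e', h1, h2⟩
  have h4 : lift α p = lift c p ≫ (e ▷ X) := by
    rw [lift_whiskerRight, he]
  rw [h4]
  infer_instance

end Field

section Aff

variable {A : Type u} [CommRing A]

/-- Formation of the functions commutes with base change if the dimension on the fibres at closed points is constant. -/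
theorem isPushout_of_finrank [IsNoetherianRing A] [IsReduced A] [IsJacobsonRing A] {X : Scheme.{u}}
    (π : X ⟶ Spec (CommRingCat.of A)) [IsProper π] [Flat π] (n : ℕ)
    (h : ∀ m : PrimeSpectrum A, m.asIdeal.IsMaximal → ∃ (K : Type u) (_ : Field K) (_ : Algebra A K) (Y : Scheme.{u})
      (g : Y ⟶ X) (q : Y ⟶ Spec (CommRingCat.of K)),
      IsPullback g q π (Spec.map (CommRingCat.ofHom (algebraMap A K))) ∧
        m.asIdeal = RingHom.ker (algebraMap A K) ∧ Module.finrank K (Sec q ⊤) = n) :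
    Module.Flat A (Sec π ⊤) ∧ ∀ (B : Type u) [CommRing B] [Algebra A B] (Y : Scheme.{u})
      (g : Y ⟶ X) (q : Y ⟶ Spec (CommRingCat.of B)),
      IsPullback g q π (Spec.map (CommRingCat.ofHom (algebraMap A B))) →
      IsPushout (CommRingCat.ofHom (algebraMap A B))
        (CommRingCat.ofHom (algebraMap A (Sec π ⊤)))
        (CommRingCat.ofHom (R := B) (S := Sec q ⊤) (secMap q ⊤))
        (CommRingCat.ofHom (R := Sec π ⊤) (S := Sec q ⊤) g.appTop.hom) := by
  let : X.Over (Spec (CommRingCat.of A)) := ⟨π⟩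
  have hp : IsProper (X ↘ Spec (CommRingCat.of A)) := inferInstanceAs (IsProper π)
  have hfl : Flat (X ↘ Spec (CommRingCat.of A)) := inferInstanceAs (Flat π)
  obtain ⟨Q, hQ, θ, hθ⟩ := exists_theta' X A
  have h1 : ∀ x : PrimeSpectrum A, x.asIdeal.IsMaximal → fiberRank Q x = n := by
    intro x hx
    obtain ⟨K, _, _, Y, g, q, H, hk, hn⟩ := h x hx
    rw [← finrank_tensor_eq_fiberRank Q K x hk, ← GrH0.finrank_eq θ hθ H, hn]
  obtain ⟨hproj, -⟩ := GrH0.projective_of_maximal n h1
  refine ⟨?_, fun B _ _ Y g q H => GrH0.isPushout_of_projective θ hθ H⟩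
  have e1 : Sec π (⊤ : X.Opens) ≃ₗ[A] Module.Dual A Q :=
    (LinearEquiv.ofBijective (gamma π (cov X)) (gamma_bijective _ (cov X) (iSup_affineOpens_eq_top X))).trans
      (thetaLin _ _ θ hθ A)
  exact Module.Flat.of_linearEquiv e1

/-- comparison of the base changes of a morphism inducing an isomorphism on functions -/
theorem isIso_appTop_of_isPushout {B : Type u} [CommRing B] [Algebra A B] {X X' Y Y' : Scheme.{u}}
    {π : X ⟶ Spec (CommRingCat.of A)} {π' : X' ⟶ Spec (CommRingCat.of A)} (φ : X ⟶ X') (hφ : φ ≫ π' = π)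
    [IsIso φ.appTop] [IsAffine X'] {g : Y ⟶ X} {q : Y ⟶ Spec (CommRingCat.of B)} {g' : Y' ⟶ X'}
    {q' : Y' ⟶ Spec (CommRingCat.of B)}
    (H' : IsPullback g' q' π' (Spec.map (CommRingCat.ofHom (algebraMap A B))))
    (hpo : IsPushout (CommRingCat.ofHom (algebraMap A B))
        (CommRingCat.ofHom (algebraMap A (Sec π ⊤)))
        (CommRingCat.ofHom (R := B) (S := Sec q ⊤) (secMap q ⊤))
        (CommRingCat.ofHom (R := Sec π ⊤) (S := Sec q ⊤) g.appTop.hom))
    (ψ : Y ⟶ Y') (hψ : ψ ≫ q' = q) (hψ' : ψ ≫ g' = g ≫ φ) : IsIso ψ.appTop := by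
  have h1 := isPushout_sec H' ⊤ (isAffineOpen_top X')
  have e1 : φ.appTop.hom.comp (algebraMap A (Sec π' ⊤)) = algebraMap A (Sec π ⊤) := by
    have h2 := GrH0.secMap_top π
    have h3 := GrH0.secMap_top π'
    have h4 : CommRingCat.ofHom (R := A) (S := Γ(X', ⊤)) (secMap π' ⊤) ≫ φ.appTop =
        CommRingCat.ofHom (R := A) (S := Γ(X, ⊤)) (secMap π ⊤) := by
      rw [h2, h3, Category.assoc, ← Scheme.Hom.comp_appTop, hφ]
    exact congrArg (fun m => m.hom) h4
  have e2 : ψ.appTop.hom.comp (algebraMap B (Sec q' ⊤)) = algebraMap B (Sec q ⊤) := by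
    have h2 := GrH0.secMap_top q
    have h3 := GrH0.secMap_top q'
    have h4 : CommRingCat.ofHom (R := B) (S := Γ(Y', ⊤)) (secMap q' ⊤) ≫ ψ.appTop =
        CommRingCat.ofHom (R := B) (S := Γ(Y, ⊤)) (secMap q ⊤) := by
      rw [h2, h3, Category.assoc, ← Scheme.Hom.comp_appTop, hψ]
    exact congrArg (fun m => m.hom) h4
  have e3 : g'.appTop ≫ ψ.appTop = φ.appTop ≫ g.appTop := by
    rw [← Scheme.Hom.comp_appTop, hψ', Scheme.Hom.comp_appTop]
  have h5 : IsPushout (CommRingCat.ofHom (algebraMap A B))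
        (CommRingCat.ofHom (algebraMap A (Sec π' ⊤)))
        (CommRingCat.ofHom (R := B) (S := Sec q ⊤) (secMap q ⊤))
        (CommRingCat.ofHom (R := Sec π' ⊤) (S := Sec q ⊤) (g'.appTop ≫ ψ.appTop).hom) := by
    refine IsPushout.of_iso hpo (Iso.refl _) (Iso.refl _) (asIso φ.appTop).symm (Iso.refl _) ?_ ?_ ?_ ?_
    · rw [Iso.refl_hom, Iso.refl_hom, Category.comp_id, Category.id_comp]
    · rw [Iso.refl_hom, Category.id_comp, Iso.symm_hom, asIso_inv]
      have h6 : CommRingCat.ofHom (R := A) (S := Γ(X', ⊤)) (algebraMap A (Sec π' ⊤)) ≫ φ.appTop =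
        CommRingCat.ofHom (R := A) (S := Γ(X, ⊤)) (algebraMap A (Sec π ⊤)) := by
        ext a
        exact congrArg (fun m => m a) e1
      exact (IsIso.comp_inv_eq φ.appTop).2 h6.symm
    · rw [Iso.refl_hom, Iso.refl_hom, Category.comp_id, Category.id_comp]
    · rw [Iso.refl_hom, Category.comp_id, Iso.symm_hom, asIso_inv]
      have h6 : (CommRingCat.ofHom (R := Sec π ⊤) (S := Sec q ⊤) g.appTop.hom : Γ(X, ⊤) ⟶ Γ(Y, ⊤)) =
        inv φ.appTop ≫ g'.appTop ≫ ψ.appTop := by
        rw [e3, IsIso.inv_hom_id_assoc]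
        rfl
      exact h6
  have h7 : (h1.isoIsPushout _ _ h5).hom = ψ.appTop := by
    apply h1.hom_ext
    · rw [IsPushout.inl_isoIsPushout_hom]
      ext b
      exact (congrArg (fun m => m b) e2).symm
    · rw [IsPushout.inr_isoIsPushout_hom]
      rfl
  have h8 : IsIso (h1.isoIsPushout _ _ h5).hom := inferInstance
  rw [h7] at h8
  exact h8

end Aff

end K554.GrFib
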