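import Groth.Agent.NonAbH1.K554.GrFib
import Groth.Agent.Ega3B.EtPoint
import Groth.Agent.Pi1A.SteinEtale
import Mathlib.AlgebraicGeometry.Morphisms.Finite

/-!
# Fibres of the Stein factorization over a reduced Jacobson Noetherian base
-/

set_option autoImplicit false
universe u

open CategoryTheory CategoryTheory.Limits AlgebraicGeometry Opposite TopologicalSpace
open Groth.Agent.Ega3B Groth.Agent.Ega3B.EqzSections Groth.Agent.Ega3B.EtPoint

namespace K554.GrGlob

theorem ker_evaluation {Y : Scheme.{u}} {W : Y.Opens} (hW : IsAffineOpen W) (y : W) :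
    RingHom.ker (Y.evaluation W y.1 y.2).hom = (hW.primeIdealOf y).asIdeal := by
  obtain ⟨σ, hσ⟩ := FibreRank.exists_sigma hW y
  ext a
  rw [RingHom.mem_ker, ← Ideal.algebraMap_residueField_eq_zero, ← hσ a, map_eq_zero_iff _ σ.injective]

/-- dimension of the functions of a scheme over a field -/
noncomputable def secDim (K : Type u) [Field K] {X : Scheme.{u}} (q : X ⟶ Spec (CommRingCat.of K)) : ℕ :=
  Module.finrank K (Sec q ⊤)

variable {T T' Y : Scheme.{u}} (π : T ⟶ T') (h' : T' ⟶ Y) [IsAffineHom h']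
  (hπ : ∀ U, IsIso (π.app U)) [IsProper (π ≫ h')] [Flat (π ≫ h')] [IsLocallyNoetherian Y] [AlgebraicGeometry.IsReduced Y]
  [JacobsonSpace Y]
  (n : ℕ) (hn : ∀ z : Y, IsClosed ({z} : Set Y) →
    secDim (Y.residueField z) ((π ≫ h').fiberToSpecResidueField z) = n)

include hπ hn in
theorem affine {W : Y.Opens} (hW : IsAffineOpen W) :
    Flat ((h' ∣_ W) ≫ hW.isoSpec.hom) ∧ ∀ y : W, IsIso (CohIII.fiberMapOver π (π ≫ h') h' rfl y.1).appTop := by
  have hN : IsNoetherianRing Γ(Y, W) := IsLocallyNoetherian.component_noetherian ⟨W, hW⟩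
  have hJ1 : JacobsonSpace (PrimeSpectrum Γ(Y, W)) :=
    JacobsonSpace.of_isOpenEmbedding hW.fromSpec.isOpenEmbedding
  have hJ : IsJacobsonRing Γ(Y, W) := PrimeSpectrum.isJacobsonRing_iff_jacobsonSpace.2 hJ1
  have hT' : IsAffine (h' ⁻¹ᵁ W).toScheme := hW.preimage h'
  let πW : ((π ≫ h') ⁻¹ᵁ W).toScheme ⟶ (h' ⁻¹ᵁ W).toScheme := π ∣_ (h' ⁻¹ᵁ W)
  let gW : ((π ≫ h') ⁻¹ᵁ W).toScheme ⟶ Spec (CommRingCat.of Γ(Y, W)) := ((π ≫ h') ∣_ W) ≫ hW.isoSpec.hom
  let hW' : (h' ⁻¹ᵁ W).toScheme ⟶ Spec (CommRingCat.of Γ(Y, W)) := (h' ∣_ W) ≫ hW.isoSpec.hom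
  have hpr : IsProper gW := inferInstance
  have hfl : Flat gW := inferInstance
  have hcomp : πW ≫ hW' = gW := by
    change π ∣_ (h' ⁻¹ᵁ W) ≫ (h' ∣_ W) ≫ hW.isoSpec.hom = ((π ≫ h') ∣_ W) ≫ hW.isoSpec.hom
    rw [← Category.assoc, ← morphismRestrict_comp]
    rfl
  have hiso : IsIso πW.appTop := Groth.Agent.Pi1A.SteinEtale.isIso_app_morphismRestrict π (h' ⁻¹ᵁ W) hπ ⊤
  obtain ⟨h1, h2⟩ := GrFib.isPushout_of_finrank gW n (by
    intro m hm
    have hy : hW.fromSpec m ∈ W := by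
      have : hW.fromSpec m ∈ Set.range hW.fromSpec := ⟨m, rfl⟩
      rw [hW.range_fromSpec] at this
      exact this
    obtain ⟨g, hg, H⟩ := exists_square_residueField (π ≫ h') hW ⟨hW.fromSpec m, hy⟩
    refine ⟨Y.residueField (hW.fromSpec m), inferInstance, (Y.evaluation W _ hy).hom.toAlgebra, _, g, _, H, ?_, ?_⟩
    · refine Eq.trans ?_ (ker_evaluation hW ⟨_, hy⟩).symm
      congr 1
      apply hW.fromSpec.isOpenEmbedding.injective
      exact (hW.fromSpec_primeIdealOf ⟨_, hy⟩).symm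
    · refine hn _ ?_
      have h3 := hW.fromSpec.isOpenEmbedding.preimage_closedPoints
      have h4 : m ∈ closedPoints (PrimeSpectrum Γ(Y, W)) := by
        rw [mem_closedPoints_iff, PrimeSpectrum.isClosed_singleton_iff_isMaximal]
        exact hm
      have h5 : m ∈ hW.fromSpec ⁻¹' closedPoints Y := by
        rw [h3]; exact h4
      exact h5)
  refine ⟨?_, fun y => ?_⟩
  · have e : hW'.appTop ≫ πW.appTop = gW.appTop := by rw [← Scheme.Hom.comp_appTop, hcomp]
    have e1 : hW'.appTop = (Scheme.ΓSpecIso (CommRingCat.of Γ(Y, W))).hom ≫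
        CommRingCat.ofHom (R := Γ(Y, W)) (S := Γ(((π ≫ h') ⁻¹ᵁ W).toScheme, ⊤)) (secMap gW ⊤) ≫ inv πW.appTop := by
      rw [GrH0.secMap_top, Category.assoc, Iso.hom_inv_id_assoc, ← e, Category.assoc, IsIso.hom_inv_id,
        Category.comp_id]
    rw [HasRingHomProperty.iff_of_isAffine (P := @Flat)]
    change hW'.appTop.hom.Flat
    rw [e1, CommRingCat.hom_comp, CommRingCat.hom_comp]
    have hf : (secMap gW ⊤).Flat := h1
    exact RingHom.Flat.comp (RingHom.Flat.of_bijective (ConcreteCategory.bijective_of_isIso _))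
      (RingHom.Flat.comp hf (RingHom.Flat.of_bijective (ConcreteCategory.bijective_of_isIso _)))
  · obtain ⟨g, hg, H⟩ := exists_square_residueField (π ≫ h') hW y
    obtain ⟨g', hg', H'⟩ := exists_square_residueField h' hW y
    let : Algebra Γ(Y, W) (Y.residueField y.1) := (Y.evaluation W _ y.2).hom.toAlgebra
    have h3 := h2 (Y.residueField y.1) _ g _ H
    have hw1 : CohIII.fiberMapOver π (π ≫ h') h' rfl y.1 ≫ h'.fiberι y.1 = (π ≫ h').fiberι y.1 ≫ π := by
      exact pullback.lift_fst _ _ _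
    have hw2 : CohIII.fiberMapOver π (π ≫ h') h' rfl y.1 ≫ h'.fiberToSpecResidueField y.1 =
        (π ≫ h').fiberToSpecResidueField y.1 := by
      refine (pullback.lift_snd _ _ _).trans (Category.comp_id _)
    refine GrFib.isIso_appTop_of_isPushout (B := Y.residueField y.1) πW hcomp H' h3
      (CohIII.fiberMapOver π (π ≫ h') h' rfl y.1) hw2 ?_
    rw [← cancel_mono (h' ⁻¹ᵁ W).ι, Category.assoc, hg', hw1, ← hg, Category.assoc, Category.assoc]
    congr 1
    exact (morphismRestrict_ι π (h' ⁻¹ᵁ W)).symm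

include hπ hn in
theorem flat : Flat h' := by
  rw [IsZariskiLocalAtTarget.iff_of_iSup_eq_top (P := @Flat) (fun V : Y.affineOpens => V.1) (iSup_affineOpens_eq_top Y)]
  intro W
  have h1 := (affine π h' hπ n hn W.2).1
  have h2 : h' ∣_ W.1 = ((h' ∣_ W.1) ≫ W.2.isoSpec.hom) ≫ W.2.isoSpec.inv := by
    rw [Category.assoc, Iso.hom_inv_id, Category.comp_id]
  rw [h2]
  infer_instance

include hπ hn in
theorem isIso_fibre (z : Y) : IsIso (CohIII.fiberMapOver π (π ≫ h') h' rfl z).appTop := by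
  obtain ⟨_, ⟨W, hW, rfl⟩, hz, -⟩ := Y.isBasis_affineOpens.exists_subset_of_mem_open (Set.mem_univ z) isOpen_univ
  exact (affine π h' hπ n hn hW).2 ⟨z, hz⟩

end K554.GrGlob
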