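import Groth.Agent.Ega3B.EtAffine
import Groth.Agent.Ega3A.FiberRank
import Mathlib.LinearAlgebra.Contraction
import Mathlib.RingTheory.Spectrum.Prime.Jacobson

/-!
# Base change for global functions of a proper flat scheme over a reduced Jacobson Noetherian ring

`isPushout_of_finrank`: if the dimension of the functions on the fibres at the maximal ideals is constant, then
formation of the ring of functions commutes with every base change.
-/

set_option autoImplicit false
universe u

open CategoryTheory CategoryTheory.Limits AlgebraicGeometry Opposite TensorProduct TopologicalSpace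

namespace K554.GrH0

open Groth.Agent.Ega3B Groth.Agent.Ega3B.EqzSections Groth.Agent.Ega3B.EtTheta Groth.Agent.Ega3B.EtExchange
open Groth.Agent.Ega3B.EtAffine Groth.Agent.Ega3A.FiberRank

section Eq

variable {A B : Type u} [CommRing A] [CommRing B] [Algebra A B] {X Y : Scheme.{u}}
  {π : X ⟶ Spec (CommRingCat.of A)} {g : Y ⟶ X} {q : Y ⟶ Spec (CommRingCat.of B)}
  (H : IsPullback g q π (Spec.map (CommRingCat.ofHom (algebraMap A B))))
  {ι : Type u} (U : ι → X.Opens) (hU : ∀ i, IsAffineOpen (U i))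
  (hUU : ∀ i j, IsAffineOpen (U i ⊓ U j)) (hcov : ⨆ i, U i = ⊤)

/-- Functions on the base change as compatible families. -/
noncomputable def eqB : EM (rr π U) (ss π U) B ≃+ Sec q (⊤ : Y.Opens) where
  toFun x := (exists_section H U hU hUU hcov x).choose
  invFun t := ⟨fun i => (bcEquiv H (U i) (hU i)).symm (res q le_top t), by
    rw [mem_EM]
    intro i j
    apply (bcEquiv H (U i ⊓ U j) (hUU i j)).injective
    have h1 := res_bcEquiv H (hU i) (hUU i j) inf_le_left ((bcEquiv H (U i) (hU i)).symm (res q le_top t))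
    have h2 := res_bcEquiv H (hU j) (hUU i j) inf_le_right ((bcEquiv H (U j) (hU j)).symm (res q le_top t))
    rw [RingEquiv.apply_symm_apply] at h1 h2
    refine h1.symm.trans (Eq.trans ?_ h2)
    rw [res_apply, res_apply, res_apply, res_apply, ← CommRingCat.comp_apply, ← CommRingCat.comp_apply,
      ← Y.presheaf.map_comp, ← Y.presheaf.map_comp]
    rfl⟩
  left_inv x := by
    apply Subtype.ext
    funext i
    apply (bcEquiv H (U i) (hU i)).injective
    rw [RingEquiv.apply_symm_apply]
    exact (exists_section H U hU hUU hcov x).choose_spec i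
  right_inv t := by
    apply section_ext (g := g) U hcov
    intro i
    rw [(exists_section H U hU hUU hcov _).choose_spec i, RingEquiv.apply_symm_apply]
  map_add' x y := by
    apply section_ext (g := g) U hcov
    intro i
    rw [map_add, (exists_section H U hU hUU hcov _).choose_spec i, (exists_section H U hU hUU hcov _).choose_spec i,
      (exists_section H U hU hUU hcov _).choose_spec i, ← map_add]
    rfl

theorem res_eqB (x : EM (rr π U) (ss π U) B) (i : ι) :
    res q le_top (eqB H U hU hUU hcov x) = bcEquiv H (U i) (hU i) (x.1 i) :=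
  (exists_section H U hU hUU hcov x).choose_spec i

theorem eqB_emap (b : B) (x : EM (rr π U) (ss π U) B) :
    eqB H U hU hUU hcov (emap _ _ (LinearMap.mulLeft A b) x) = b • eqB H U hU hUU hcov x := by
  apply section_ext (g := g) U hcov
  intro i
  rw [res_eqB, map_smul, res_eqB, emap_apply]
  generalize x.1 i = z
  induction z using TensorProduct.induction_on with
  | zero => simp
  | add z w hz hw => rw [map_add, map_add, hz, hw, map_add, smul_add]
  | tmul c s =>
    have h1 : (b * c) ⊗ₜ[A] s = (b ⊗ₜ[A] 1) * (c ⊗ₜ[A] s) := by simp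
    rw [LinearMap.rTensor_tmul, LinearMap.mulLeft_apply, h1, map_mul, bcEquiv_tmul_one, Algebra.smul_def]

theorem eqB_gamma (b : B) (s : Sec π (⊤ : X.Opens)) :
    eqB H U hU hUU hcov (emap _ _ (LinearMap.toSpanSingleton A B b) (gamma π U s)) =
      algebraMap B (Sec q ⊤) b * (show Sec q ⊤ from g.appTop.hom s) := by
  apply section_ext (g := g) U hcov
  intro i
  rw [res_eqB, emap_apply, gamma_apply, LinearMap.rTensor_tmul, LinearMap.toSpanSingleton_apply, one_smul, map_mul,
    AlgHom.commutes]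
  have h1 : b ⊗ₜ[A] res π le_top s = (b ⊗ₜ[A] 1) * ((1 : B) ⊗ₜ[A] (res π (le_top : U i ≤ ⊤) s)) := by simp
  rw [h1, map_mul, bcEquiv_tmul_one, bcEquiv_one_tmul]
  congr 1
  have h3 := Scheme.Hom.naturality g (homOfLE (le_top : U i ≤ ⊤)).op
  exact congrArg (fun φ => φ.hom s) h3

end Eq

section Jac

variable {A : Type u} [CommRing A] {Q : Type u} [AddCommGroup Q] [Module A Q] [Module.Finite A Q]

/-- Over a reduced Jacobson Noetherian ring a finite module of constant rank at the maximal ideals is projective. -/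
theorem projective_of_maximal [IsNoetherianRing A] [IsReduced A] [IsJacobsonRing A] (n : ℕ)
    (h : ∀ x : PrimeSpectrum A, x.asIdeal.IsMaximal → fiberRank Q x = n) :
    Module.Projective A Q ∧ ∀ x : PrimeSpectrum A, fiberRank Q x = n := by
  have h1 : ∀ x : PrimeSpectrum A, fiberRank Q x ≤ n := by
    by_contra hne
    push Not at hne
    obtain ⟨x, hx⟩ := hne
    have hcl : IsClosed {x : PrimeSpectrum A | fiberRank Q x ≤ n}ᶜ := (isOpen_fiberRank_le n).isClosed_compl
    obtain ⟨y, hy1, hy2⟩ := nonempty_inter_closedPoints (Z := {x : PrimeSpectrum A | fiberRank Q x ≤ n}ᶜ)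
      ⟨x, by simpa using hx⟩ hcl.isLocallyClosed
    rw [mem_closedPoints_iff, PrimeSpectrum.isClosed_singleton_iff_isMaximal] at hy2
    exact hy1 (h y hy2).le
  have h2 : ∀ x : PrimeSpectrum A, n ≤ fiberRank Q x := by
    by_contra hne
    push Not at hne
    obtain ⟨x, hx⟩ := hne
    obtain ⟨m, rfl⟩ : ∃ m, n = m + 1 := ⟨n - 1, by omega⟩
    obtain ⟨y, hy1, hy2⟩ := nonempty_inter_closedPoints (Z := {x : PrimeSpectrum A | fiberRank Q x ≤ m})
      ⟨x, Nat.lt_succ_iff.1 hx⟩ (isOpen_fiberRank_le m).isLocallyClosed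
    rw [mem_closedPoints_iff, PrimeSpectrum.isClosed_singleton_iff_isMaximal] at hy2
    have h3 := h y hy2
    have h4 : fiberRank Q y ≤ m := hy1
    omega
  have h3 : ∀ x : PrimeSpectrum A, fiberRank Q x = n := fun x => le_antisymm (h1 x) (h2 x)
  have h4 : IsLocallyConstant (fiberRank (R := A) Q) := by
    have h5 : fiberRank (R := A) Q = fun _ => n := funext h3
    rw [h5]
    exact IsLocallyConstant.const n
  have h6 : Module.FinitePresentation A Q := Module.finitePresentation_of_finite A Q
  exact ⟨projective_of_isReduced h4, h3⟩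

end Jac

theorem secMap_top {A : Type u} [CommRing A] {X : Scheme.{u}} (π : X ⟶ Spec (CommRingCat.of A)) :
    (CommRingCat.ofHom (R := A) (S := Γ(X, ⊤)) (secMap π ⊤)) = (Scheme.ΓSpecIso (CommRingCat.of A)).inv ≫ π.appTop := by
  have h1 : π.appLE ⊤ ⊤ (le_preimage_top _ _) = π.appTop := (Scheme.Hom.app_eq_appLE _).symm
  rw [← h1]
  rfl

section Main

variable {X : Scheme.{u}} {A : Type u} [CommRing A] [X.Over (Spec (CommRingCat.of A))]

variable {Q : Type u} [AddCommGroup Q] [Module A Q] [Module.Finite A Q]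
  (θ : ∀ (M : Type u) [AddCommGroup M] [Module A M],
      EM (rr (X ↘ Spec (CommRingCat.of A)) (cov X)) (ss (X ↘ Spec (CommRingCat.of A)) (cov X)) M ≃+
        (Q →ₗ[A] M))
  (hθ : ∀ (M N : Type u) [AddCommGroup M] [Module A M] [AddCommGroup N] [Module A N]
        (g : M →ₗ[A] N) (x : EM (rr (X ↘ Spec (CommRingCat.of A)) (cov X))
          (ss (X ↘ Spec (CommRingCat.of A)) (cov X)) M),
        θ N (emap _ _ g x) = g ∘ₗ θ M x)
  [IsProper (X ↘ Spec (CommRingCat.of A))]

include θ hθ in
omit [Module.Finite A Q] in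
theorem finrank_eq {K : Type u} [Field K] [Algebra A K] [Module.Finite A Q] {Y : Scheme.{u}} {g : Y ⟶ X}
    {q : Y ⟶ Spec (CommRingCat.of K)}
    (H : IsPullback g q (X ↘ Spec (CommRingCat.of A)) (Spec.map (CommRingCat.ofHom (algebraMap A K)))) :
    Module.finrank K (Sec q (⊤ : Y.Opens)) = Module.finrank K (K ⊗[A] Q) := by
  let E := eqB H (cov X) (fun i => i.2)
      (fun i j => isAffineOpen_inf (X ↘ Spec (CommRingCat.of A)) i.2 j.2)
      (iSup_affineOpens_eq_top X)
  let e : Sec q (⊤ : Y.Opens) ≃ₗ[K] (Q →ₗ[A] K) :=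
    { E.symm.trans (θ K) with
      map_smul' := fun c t => by
        have h1 : E.symm (c • t) = emap _ _ (LinearMap.mulLeft A c) (E.symm t) := by
          apply E.injective
          rw [AddEquiv.apply_symm_apply]
          refine Eq.trans ?_ (eqB_emap H (cov X) _ _ _ c (E.symm t)).symm
          change c • t = c • E (E.symm t)
          rw [AddEquiv.apply_symm_apply]
        change θ K (E.symm (c • t)) = c • θ K (E.symm t)
        rw [h1, hθ]
        rfl }
  rw [e.finrank_eq, (LinearMap.liftBaseChangeEquiv K).finrank_eq]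
  exact Subspace.dual_finrank_eq

include θ hθ in
theorem isPushout_of_projective [Module.Projective A Q] {B : Type u} [CommRing B] [Algebra A B] {Y : Scheme.{u}}
    {g : Y ⟶ X} {q : Y ⟶ Spec (CommRingCat.of B)}
    (H : IsPullback g q (X ↘ Spec (CommRingCat.of A)) (Spec.map (CommRingCat.ofHom (algebraMap A B)))) :
    IsPushout (CommRingCat.ofHom (algebraMap A B))
      (CommRingCat.ofHom (algebraMap A (Sec (X ↘ Spec (CommRingCat.of A)) ⊤)))
      (CommRingCat.ofHom (R := B) (S := Sec q ⊤) (secMap q ⊤))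
      (CommRingCat.ofHom (R := Sec (X ↘ Spec (CommRingCat.of A)) ⊤) (S := Sec q ⊤) g.appTop.hom) := by
  let π := X ↘ Spec (CommRingCat.of A)
  let E := eqB H (cov X) (fun i => i.2)
      (fun i j => isAffineOpen_inf (X ↘ Spec (CommRingCat.of A)) i.2 j.2)
      (iSup_affineOpens_eq_top X)
  let e1 : Sec π (⊤ : X.Opens) ≃ₗ[A] Module.Dual A Q :=
    (LinearEquiv.ofBijective (gamma π (cov X)) (gamma_bijective _ (cov X) (iSup_affineOpens_eq_top X))).trans
      (thetaLin _ _ θ hθ A)
  let e2 : B ⊗[A] Sec π (⊤ : X.Opens) ≃ₗ[A] (Q →ₗ[A] B) :=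
    ((TensorProduct.congr (LinearEquiv.refl A B) e1).trans (TensorProduct.comm A B _)).trans
      (LinearEquiv.ofBijective (dualTensorHom A Q B) dualTensorHom_bijective)
  let e3 : (Q →ₗ[A] B) ≃+ Sec q (⊤ : Y.Opens) := (θ B).symm.trans E
  let gA : Sec π (⊤ : X.Opens) →+* Sec q (⊤ : Y.Opens) := g.appTop.hom
  have hw : (CommRingCat.ofHom (R := A) (S := Γ(X, ⊤)) (secMap π ⊤)) ≫ g.appTop =
      CommRingCat.ofHom (algebraMap A B) ≫ (CommRingCat.ofHom (R := B) (S := Γ(Y, ⊤)) (secMap q ⊤)) := by
    rw [secMap_top, secMap_top]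
    calc ((Scheme.ΓSpecIso (CommRingCat.of A)).inv ≫ π.appTop) ≫ g.appTop
        = (Scheme.ΓSpecIso (CommRingCat.of A)).inv ≫ (g ≫ π).appTop := by
          rw [Category.assoc, ← Scheme.Hom.comp_appTop]
      _ = (Scheme.ΓSpecIso (CommRingCat.of A)).inv ≫
            (q ≫ Spec.map (CommRingCat.ofHom (algebraMap A B))).appTop := by rw [H.w]
      _ = ((Scheme.ΓSpecIso (CommRingCat.of A)).inv ≫
            (Spec.map (CommRingCat.ofHom (algebraMap A B))).appTop) ≫ q.appTop := by
          rw [Scheme.Hom.comp_appTop, Category.assoc]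
      _ = _ := by rw [← Scheme.ΓSpecIso_inv_naturality, Category.assoc]
  let P0 := CommRingCat.isPushout_tensorProduct A B (Sec π (⊤ : X.Opens))
  let ψ : CommRingCat.of (B ⊗[A] Sec π (⊤ : X.Opens)) ⟶ CommRingCat.of (Sec q (⊤ : Y.Opens)) :=
    P0.desc (CommRingCat.ofHom (R := B) (S := Sec q ⊤) (secMap q ⊤)) (CommRingCat.ofHom gA) hw.symm
  have hψ1 : ∀ b, ψ.hom (b ⊗ₜ[A] 1) = algebraMap B (Sec q ⊤) b := fun b =>
    congrArg (fun m => m.hom b) (P0.inl_desc _ _ hw.symm)
  have hψ2 : ∀ s, ψ.hom (1 ⊗ₜ[A] s) = gA s := fun s => congrArg (fun m => m.hom s) (P0.inr_desc _ _ hw.symm)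
  have hψ : ∀ z, ψ.hom z = e3 (e2 z) := by
    intro z
    induction z using TensorProduct.induction_on with
    | zero => simp only [map_zero]
    | add z w hz hw => rw [map_add, hz, hw, map_add, map_add]
    | tmul b s =>
      have h1 : b ⊗ₜ[A] s = (b ⊗ₜ[A] 1) * ((1 : B) ⊗ₜ[A] s) := by simp
      have h2 : (θ B).symm (e2 (b ⊗ₜ[A] s)) = emap _ _ (LinearMap.toSpanSingleton A B b) (gamma π (cov X) s) := by
        rw [AddEquiv.symm_apply_eq, hθ]
        rfl
      have h3 : e3 (e2 (b ⊗ₜ[A] s)) = E ((θ B).symm (e2 (b ⊗ₜ[A] s))) := rfl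
      rw [h3, h2, h1, map_mul, hψ1, hψ2]
      exact (eqB_gamma H (cov X) _ _ _ b s).symm
  have hbij : Function.Bijective ψ.hom := by
    have h1 : (ψ.hom : _ → _) = e3 ∘ e2 := funext hψ
    rw [h1]
    exact e3.bijective.comp e2.bijective
  have hiso : IsIso ψ := (ConcreteCategory.isIso_iff_bijective ψ).2 hbij
  refine IsPushout.of_iso P0 (Iso.refl _) (Iso.refl _) (Iso.refl _) (asIso ψ) ?_ ?_ ?_ ?_
  · exact (Category.comp_id _).trans (Category.id_comp _).symm
  · exact (Category.comp_id _).trans (Category.id_comp _).symm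
  · exact (P0.inl_desc _ _ hw.symm).trans (Category.id_comp _).symm
  · exact (P0.inr_desc _ _ hw.symm).trans (Category.id_comp _).symm

end Main

end K554.GrH0
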