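import Mathlib.CategoryTheory.Monoidal.Cartesian.Grp
import Mathlib.CategoryTheory.Limits.Preserves.Basic
import Mathlib.CategoryTheory.Limits.HasLimits

/-!
# Limits of group objects, one diagram at a time

`preservesLimit_forget`: if the underlying diagram of `F : J ⥤ Grp C` has a limit in `C`, then `Grp.forget C` maps a
limit cone of `F` to a limit cone.
-/

set_option autoImplicit false
universe w w' v u

open CategoryTheory CategoryTheory.Limits MonoidalCategory CartesianMonoidalCategory MonObj GrpObj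

namespace K554.GrpLimit

variable {C : Type u} [Category.{v} C] [CartesianMonoidalCategory C] {J : Type w} [Category.{w'} J]

section

variable (F : J ⥤ Grp C) {L : C} (p : ∀ j, L ⟶ (F.obj j).X)

lemma comp_one {i j : J} (f : i ⟶ j) : η[(F.obj i).X] ≫ (F.map f).hom.hom = η[(F.obj j).X] := IsMonHom.one_hom _

variable (hp : ∀ {i j : J} (f : i ⟶ j), p i ≫ (F.map f).hom.hom = p j)

include hp in
lemma comp_mul {i j : J} (f : i ⟶ j) : ((p i ⊗ₘ p i) ≫ μ[(F.obj i).X]) ≫ (F.map f).hom.hom =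
    (p j ⊗ₘ p j) ≫ μ[(F.obj j).X] := by
  rw [Category.assoc, IsMonHom.mul_hom, ← Category.assoc, tensorHom_comp_tensorHom, hp]

include hp in
lemma comp_inv' {i j : J} (f : i ⟶ j) : (p i)⁻¹ ≫ (F.map f).hom.hom = (p j)⁻¹ := by
  rw [GrpObj.inv_comp, hp]

variable (lf : ∀ {Y : C} (s : ∀ j, Y ⟶ (F.obj j).X)
    (_ : ∀ {i j : J} (f : i ⟶ j), s i ≫ (F.map f).hom.hom = s j), Y ⟶ L)
  (hlf : ∀ {Y : C} (s : ∀ j, Y ⟶ (F.obj j).X) (hs : ∀ {i j : J} (f : i ⟶ j), s i ≫ (F.map f).hom.hom = s j)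
    (j : J), lf s hs ≫ p j = s j)
  (hex : ∀ {Y : C} (s t : Y ⟶ L), (∀ j, s ≫ p j = t ≫ p j) → s = t)

/-- the group structure on the limit -/
@[implicit_reducible]
def grpObj : GrpObj L where
  one := lf (fun j => η[(F.obj j).X]) (comp_one F)
  mul := lf (fun j => (p j ⊗ₘ p j) ≫ μ[(F.obj j).X]) (comp_mul F p hp)
  inv := lf (fun j => (p j)⁻¹) (comp_inv' F p hp)
  one_mul := by
    apply hex
    intro j
    rw [Category.assoc, hlf, ← Category.assoc, tensorHom_def, ← Category.assoc, ← comp_whiskerRight, hlf,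
      ← whisker_exchange, Category.assoc, MonObj.one_mul, leftUnitor_naturality]
  mul_one := by
    apply hex
    intro j
    rw [Category.assoc, hlf, ← Category.assoc, tensorHom_def', ← Category.assoc, ← MonoidalCategory.whiskerLeft_comp,
      hlf, whisker_exchange, Category.assoc, MonObj.mul_one, rightUnitor_naturality]
  mul_assoc := by
    apply hex
    intro j
    have h1 : ∀ {A : C} (f : A ⟶ L ⊗ L), f ≫ lf (fun j => (p j ⊗ₘ p j) ≫ μ[(F.obj j).X]) (comp_mul F p hp) ≫ p j =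
        f ≫ (p j ⊗ₘ p j) ≫ μ[(F.obj j).X] := fun f => by rw [hlf]
    simp only [Category.assoc, h1]
    rw [← Category.assoc (_ ▷ _) (p j ⊗ₘ p j), ← Category.assoc (_ ◁ _) (p j ⊗ₘ p j)]
    rw [← tensorHom_id, ← id_tensorHom, tensorHom_comp_tensorHom, tensorHom_comp_tensorHom, hlf, Category.id_comp]
    have l1 : (((p j ⊗ₘ p j) ≫ μ[(F.obj j).X]) ⊗ₘ p j) = ((p j ⊗ₘ p j) ⊗ₘ p j) ≫ (μ[(F.obj j).X] ▷ _) := by
      rw [← tensorHom_id, tensorHom_comp_tensorHom, Category.comp_id]
    have l2 : (p j ⊗ₘ ((p j ⊗ₘ p j) ≫ μ[(F.obj j).X])) = (p j ⊗ₘ (p j ⊗ₘ p j)) ≫ (_ ◁ μ[(F.obj j).X]) := by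
      rw [← id_tensorHom, tensorHom_comp_tensorHom, Category.comp_id]
    rw [l1, l2, Category.assoc, MonObj.mul_assoc, Category.assoc, ← associator_naturality_assoc]
  left_inv := by
    apply hex
    intro j
    rw [Category.assoc, hlf, ← Category.assoc, lift_map, hlf, Category.id_comp, Category.assoc, hlf,
      ← toUnit_unique (p j ≫ toUnit _) (toUnit L), Category.assoc, ← GrpObj.left_inv, ← Category.assoc, comp_lift,
      Category.comp_id]
    rfl
  right_inv := by
    apply hex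
    intro j
    rw [Category.assoc, hlf, ← Category.assoc, lift_map, hlf, Category.id_comp, Category.assoc, hlf,
      ← toUnit_unique (p j ≫ toUnit _) (toUnit L), Category.assoc, ← GrpObj.right_inv, ← Category.assoc, comp_lift,
      Category.comp_id]
    rfl

lemma isMonHom (j : J) : letI := grpObj F p hp lf hlf hex; IsMonHom (p j) :=
  letI := grpObj F p hp lf hlf hex
  { one_hom := hlf (fun j => η[(F.obj j).X]) (comp_one F) j
    mul_hom := hlf (fun j => (p j ⊗ₘ p j) ≫ μ[(F.obj j).X]) (comp_mul F p hp) j }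

end

/-- If the underlying diagram of `F : J ⥤ Grp C` has a limit in `C`, then `Grp.forget C` preserves the limit of `F`. -/
theorem preservesLimit_forget (F : J ⥤ Grp C) (c : Cone (F ⋙ Grp.forget C)) (hc : IsLimit c) :
    PreservesLimit F (Grp.forget C) := by
  let p : ∀ j, c.pt ⟶ (F.obj j).X := fun j => c.π.app j
  have hp : ∀ {i j : J} (f : i ⟶ j), p i ≫ (F.map f).hom.hom = p j := fun f => c.w f
  let lf : ∀ {Y : C} (s : ∀ j, Y ⟶ (F.obj j).X) (_ : ∀ {i j : J} (f : i ⟶ j), s i ≫ (F.map f).hom.hom = s j), Y ⟶ c.pt :=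
    fun {Y} s hs => hc.lift ⟨Y, ⟨s, fun i j f => by
      change 𝟙 _ ≫ s j = s i ≫ (F.map f).hom.hom
      rw [Category.id_comp, hs]⟩⟩
  have hlf : ∀ {Y : C} (s : ∀ j, Y ⟶ (F.obj j).X) (hs : ∀ {i j : J} (f : i ⟶ j), s i ≫ (F.map f).hom.hom = s j)
    (j : J), lf s hs ≫ p j = s j := fun s hs j => hc.fac _ j
  have hex : ∀ {Y : C} (s t : Y ⟶ c.pt), (∀ j, s ≫ p j = t ≫ p j) → s = t := fun s t h => hc.hom_ext h
  let inst : GrpObj c.pt := grpObj F p hp lf hlf hex
  have hmon : ∀ j, IsMonHom (p j) := isMonHom F p hp lf hlf hex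
  let K : Cone F :=
    { pt := ⟨c.pt⟩
      π :=
        { app := fun j => Grp.homMk (A := ⟨c.pt⟩) (B := F.obj j) (p j)
          naturality := fun i j f => by
            ext
            change 𝟙 _ ≫ p j = p i ≫ (F.map f).hom.hom
            rw [Category.id_comp, hp] } }
  let σ : ∀ (s : Cone F) (j : J), s.pt.X ⟶ (F.obj j).X := fun s j => (s.π.app j).hom.hom
  have hs : ∀ (s : Cone F) {i j : J} (f : i ⟶ j), σ s i ≫ (F.map f).hom.hom = σ s j := by
    intro s i j f
    exact congrArg (fun z => z.hom.hom) (s.w f)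
  let l : ∀ (s : Cone F), s.pt.X ⟶ c.pt := fun s => lf (σ s) (hs s)
  have hlσ : ∀ (s : Cone F) (j : J), l s ≫ p j = σ s j := fun s j => hlf (σ s) (hs s) j
  have hσ : ∀ (s : Cone F) (j : J), IsMonHom (σ s j) := fun s j => inferInstanceAs (IsMonHom (s.π.app j).hom.hom)
  have hl : ∀ s : Cone F, IsMonHom (l s) := by
    intro s
    refine ⟨hex _ _ fun j => ?_, hex _ _ fun j => ?_⟩
    · rw [Category.assoc, hlσ, IsMonHom.one_hom, IsMonHom.one_hom]
    · rw [Category.assoc, hlσ, IsMonHom.mul_hom, Category.assoc, IsMonHom.mul_hom, ← Category.assoc,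
        tensorHom_comp_tensorHom, hlσ]
  have hK : IsLimit K := by
    refine ⟨fun s => Grp.homMk (A := s.pt) (B := ⟨c.pt⟩) (l s), fun s j => ?_, fun s m hm => ?_⟩
    · ext
      exact hlσ s j
    · ext
      refine hex _ _ fun j => ?_
      have h1 := congrArg (fun z => z.hom.hom) (hm j)
      exact h1.trans (hlσ s j).symm
  refine preservesLimit_of_preserves_limit_cone hK ?_
  exact IsLimit.ofIsoLimit hc (Cone.ext (Iso.refl _) (fun j => (Category.id_comp _).symm))

end K554.GrpLimit
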