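import Groth.Agent.Sga4A.IndEtTower
import Mathlib.AlgebraicGeometry.AffineTransitionLimit
import Mathlib.AlgebraicGeometry.Morphisms.Flat
import Mathlib.CategoryTheory.Limits.Constructions.Over.Connected

/-!
# Cofiltered limits of affine faithfully flat schemes over a base

`limit_props`: a cofiltered limit over `X` of schemes affine, flat and surjective over `X` is affine, flat
and surjective over `X`.
-/

set_option autoImplicit false
universe u

open CategoryTheory CategoryTheory.Limits AlgebraicGeometry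

namespace K554.LimitFlat

open Groth.Agent.Proet

/-- A filtered colimit of faithfully flat `A`-algebras is faithfully flat (colimit taken in `CommRingCat`). -/
theorem ff_colimit {J : Type u} [SmallCategory J] [IsFiltered J] (D : J ⥤ CommRingCat.{u}) (c : Cocone D)
    (hc : IsColimit c) {A : CommRingCat.{u}} (ψ : ∀ j, A ⟶ D.obj j)
    (hψ : ∀ (i j : J) (f : i ⟶ j), ψ i ≫ D.map f = ψ j) (h : ∀ j, (ψ j).hom.FaithfullyFlat) (φ : A ⟶ c.pt)
    (hφ : ∀ j, ψ j ≫ c.ι.app j = φ) : φ.hom.FaithfullyFlat := by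
  apply Groth.Agent.Sga4A.IndEtTower.ff_of_approx
  intro l f r x hx
  obtain ⟨j, x', hx'⟩ := IndFlat.exists_rep_finite hc x
  have hw : ∀ k, ∀ a : A, φ.hom a = (c.ι.app k).hom ((ψ k).hom a) := by
    intro k a
    exact congr(($(hφ k)).hom a).symm
  have hrel : (c.ι.app j).hom (∑ i, (ψ j).hom (f i) * x' i) = (c.ι.app j).hom ((ψ j).hom r) := by
    rw [← hw, ← hx, map_sum]
    refine Finset.sum_congr rfl fun i _ => ?_
    rw [map_mul, hx', ← hw]
  obtain ⟨n, t, ht⟩ := IndFlat.exists_map_eq hc _ _ hrel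
  have hw' : ∀ a : A, (ψ n).hom a = (D.map t).hom ((ψ j).hom a) := by
    intro a
    exact congr(($(hψ j n t)).hom a).symm
  refine ⟨D.obj n, inferInstance, (ψ n).hom, (c.ι.app n).hom,
    fun i => (D.map t).hom (x' i), h n, hw n, ?_, ?_⟩
  · intro i
    rw [← hx']
    exact congr(($(c.w t)).hom (x' i))
  · rw [map_sum, ← hw'] at ht
    rw [← ht]
    refine Finset.sum_congr rfl fun i _ => ?_
    rw [map_mul, hw']

variable {I : Type u} [SmallCategory I] [IsCofiltered I]

/-- the affine case -/
theorem limit_props_Spec {A : CommRingCat.{u}} (D : I ⥤ Over (Spec A)) (c : Cone D) (hc : IsLimit c)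
    (h1 : ∀ i, IsAffine (D.obj i).left) (h2 : ∀ i, Flat (D.obj i).hom) (h3 : ∀ i, Surjective (D.obj i).hom) :
    IsAffine c.pt.left ∧ Flat c.pt.hom ∧ Surjective c.pt.hom := by
  have hc' : IsLimit ((Over.forget (Spec A)).mapCone c) := isLimitOfPreserves (Over.forget (Spec A)) hc
  have haff : ∀ i, IsAffine ((D ⋙ Over.forget (Spec A)).obj i) := h1
  have h0 : IsAffine ((Over.forget (Spec A)).mapCone c).pt := Scheme.isAffine_of_isLimit _ hc'
  have h0' : IsAffine c.pt.left := h0
  refine ⟨h0, ?_⟩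
  obtain ⟨hcol⟩ := nonempty_isColimit_Γ_mapCocone (D ⋙ Over.forget (Spec A)) _ hc'
  let ψ : ∀ j : Iᵒᵖ, A ⟶ Γ((D.obj j.unop).left, ⊤) := fun j => (Scheme.ΓSpecIso A).inv ≫ (D.obj j.unop).hom.appTop
  let φ : A ⟶ Γ(c.pt.left, ⊤) := (Scheme.ΓSpecIso A).inv ≫ c.pt.hom.appTop
  have key : ∀ (Y : Over (Spec A)) [IsAffine Y.left], 
      ((Scheme.ΓSpecIso A).inv ≫ Y.hom.appTop).hom.FaithfullyFlat ↔ Flat Y.hom ∧ Surjective Y.hom := by
    intro Y _
    rw [← flat_and_surjective_SpecMap_iff]
    have e : Y.hom = Y.left.isoSpec.hom ≫ Spec.map ((Scheme.ΓSpecIso A).inv ≫ Y.hom.appTop) := by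
      rw [Spec.map_comp, Scheme.isoSpec_hom, ← Scheme.toSpecΓ_naturality_assoc, toSpecΓ_SpecMap_ΓSpecIso_inv,
        Category.comp_id]
    constructor
    · rintro ⟨a, b⟩
      rw [e]
      exact ⟨inferInstance, inferInstance⟩
    · rintro ⟨a, b⟩
      have e' : Spec.map ((Scheme.ΓSpecIso A).inv ≫ Y.hom.appTop) = Y.left.isoSpec.inv ≫ Y.hom := by
        rw [Iso.eq_inv_comp, ← e]
      rw [e']
      exact ⟨inferInstance, inferInstance⟩
  rw [← key]
  refine ff_colimit _ _ hcol ψ ?_ (fun j => ?_) φ ?_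
  · intro i j f
    change ((Scheme.ΓSpecIso A).inv ≫ (D.obj i.unop).hom.appTop) ≫ (D.map f.unop).left.appTop = _
    rw [Category.assoc, ← Scheme.Hom.comp_appTop, Over.w]
  · have := h1 j.unop
    exact (key (D.obj j.unop)).2 ⟨h2 _, h3 _⟩
  · intro j
    change ((Scheme.ΓSpecIso A).inv ≫ (D.obj j.unop).hom.appTop) ≫ (c.π.app j.unop).left.appTop = _
    rw [Category.assoc, ← Scheme.Hom.comp_appTop, Over.w]
    rfl

/-- A cofiltered limit over `X` of schemes affine, flat and surjective over `X` is affine, flat and surjective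
over `X`. -/
theorem limit_props {X : Scheme.{u}} (D : I ⥤ Over X) (c : Cone D) (hc : IsLimit c)
    (h1 : ∀ i, IsAffineHom (D.obj i).hom) (h2 : ∀ i, Flat (D.obj i).hom) (h3 : ∀ i, Surjective (D.obj i).hom) :
    IsAffineHom c.pt.hom ∧ Flat c.pt.hom ∧ Surjective c.pt.hom := by
  have key : ∀ i : X.affineCover.I₀, IsAffineHom (pullback.snd c.pt.hom (X.affineCover.f i)) ∧
      Flat (pullback.snd c.pt.hom (X.affineCover.f i)) ∧ Surjective (pullback.snd c.pt.hom (X.affineCover.f i)) := by
    intro i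
    let j : X.affineCover.X i ⟶ X := X.affineCover.f i
    have hj : IsOpenImmersion j := X.affineCover.map_prop i
    have hlim : IsLimit ((Over.pullback j).mapCone c) := isLimitOfPreserves (Over.pullback j) hc
    have a1 : ∀ i, IsAffine ((D ⋙ Over.pullback j).obj i).left := by
      intro l
      have b1 : IsAffineHom (pullback.snd (D.obj l).hom j) := by
        have := h1 l
        infer_instance
      exact isAffine_of_isAffineHom (pullback.snd (D.obj l).hom j)
    have a2 : ∀ i, Flat ((D ⋙ Over.pullback j).obj i).hom := by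
      intro l
      have := h2 l
      exact inferInstanceAs (Flat (pullback.snd (D.obj l).hom j))
    have a3 : ∀ i, Surjective ((D ⋙ Over.pullback j).obj i).hom := by
      intro l
      have := h3 l
      exact inferInstanceAs (Surjective (pullback.snd (D.obj l).hom j))
    obtain ⟨b1, b2, b3⟩ := limit_props_Spec (D ⋙ Over.pullback j) _ hlim a1 a2 a3
    refine ⟨?_, b2, b3⟩
    have c1 : IsAffine (pullback c.pt.hom j) := b1
    have c2 : IsAffine (X.affineCover.X i) := inferInstance
    infer_instance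
  refine ⟨?_, ?_, ?_⟩
  · rw [IsZariskiLocalAtTarget.iff_of_openCover (P := @IsAffineHom) X.affineCover]
    exact fun i => (key i).1
  · rw [IsZariskiLocalAtTarget.iff_of_openCover (P := @Flat) X.affineCover]
    exact fun i => (key i).2.1
  · rw [IsZariskiLocalAtTarget.iff_of_openCover (P := @Surjective) X.affineCover]
    exact fun i => (key i).2.2

end K554.LimitFlat
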