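import Groth.Agent.NonAbH1.K554.GrpLimit
import Groth.Agent.NonAbH1.K554.LimitFlat
import Groth.Agent.NonAbH1.K554.Fpqc2

/-!
# Cofiltered limits of torsors
-/

set_option autoImplicit false
universe u

open CategoryTheory CategoryTheory.Limits MonoidalCategory CartesianMonoidalCategory MonObj GrpObj AlgebraicGeometry
open Groth.Agent.Books.BorelOrb K554.Fpqc

namespace K554.LimTors

/-- diagrams of affine schemes have limits -/
theorem hasLimit_of_isAffine {I : Type u} [SmallCategory I] (D : I ⥤ Scheme.{u}) (h : ∀ i, IsAffine (D.obj i)) :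
    HasLimit D := by
  let e : D ≅ (D ⋙ Scheme.Γ.rightOp) ⋙ Scheme.Spec :=
    NatIso.ofComponents (fun i => (D.obj i).isoSpec) (fun f => by
      simpa [Scheme.isoSpec_hom] using (Scheme.toSpecΓ_naturality (D.map f)))
  have h1 : HasLimit ((D ⋙ Scheme.Γ.rightOp) ⋙ Scheme.Spec) :=
    ⟨⟨⟨Scheme.Spec.mapCone (limit.cone (D ⋙ Scheme.Γ.rightOp)), isLimitOfPreserves _ (limit.isLimit _)⟩⟩⟩
  exact hasLimit_of_iso e.symm

/-- cofiltered diagrams of affine schemes over a base have limits -/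
theorem hasLimit_over_of_isAffine {B : Scheme.{u}} {I : Type u} [SmallCategory I] [IsCofiltered I] (D : I ⥤ Over B)
    (h : ∀ i, IsAffine (D.obj i).left) : HasLimit D := by
  have h1 : HasLimit (D ⋙ Over.forget B) := hasLimit_of_isAffine _ h
  have h2 : IsConnected I := IsCofiltered.isConnected I
  exact hasLimit_of_created D (Over.forget B)

section

variable {B X : Scheme.{u}} (f : X ⟶ B) {I : Type u} [SmallCategory I]
    (DG : I ⥤ Grp (Over B))
    (cG : Cone DG) (hcG : IsLimit ((Grp.forget _).mapCone cG))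
    (DT : I ⥤ Over X)
    (aT : ∀ i, AlgGrp.Action (Red.bc f (DG.obj i).X) (DT.obj i))
    (hT : ∀ i, NonAbH1.IsPseudoTorsorSch (aT i))
    (hDT : ∀ (i j : I) (φ : i ⟶ j), AlgGrp.Action.IsEquivariant (aT i)
      ((aT j).restrict ((Over.pullback f).map (DG.map φ).hom.hom)) (DT.map φ))
    (cT : Cone DT) (hcT : IsLimit cT)
    (a : AlgGrp.Action (Red.bc f cG.pt.X) cT.pt)
    (ha : ∀ i, AlgGrp.Action.IsEquivariant a
      ((aT i).restrict ((Over.pullback f).map (cG.π.app i).hom.hom)) (cT.π.app i))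

include hcG hT hDT hcT ha in
theorem isPseudoTorsorSch_limit : NonAbH1.IsPseudoTorsorSch a := by
  have hDT' := fun i j φ => (isEquivariant_iff _ _ _).1 (hDT i j φ)
  have ha' := fun i => (isEquivariant_iff _ _ _).1 (ha i)
  rw [isPseudoTorsorSch_iff]
  intro Y x x'
  let g : ∀ i, Y ⟶ Red.bc f (DG.obj i).X := fun i => dif (hT i) (x ≫ cT.π.app i) (x' ≫ cT.π.app i)
  have hg : ∀ i, sm (aT i) (g i) (x' ≫ cT.π.app i) = x ≫ cT.π.app i := fun i => sm_dif _ _ _
  have hgc : ∀ (i j : I) (φ : i ⟶ j), g i ≫ (Over.pullback f).map (DG.map φ).hom.hom = g j := by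
    intro i j φ
    refine (dif_eq (hT j) ?_).symm
    have h1 := hDT' i j φ Y (g i) (x' ≫ cT.π.app i)
    rw [hg, sm_restrict, Category.assoc, Category.assoc, cT.w] at h1
    exact h1.symm
  let s : Cone (DG ⋙ Grp.forget _) :=
    { pt := (Over.map f).obj Y
      π :=
        { app := fun i => BcPt.un f (g i)
          naturality := fun i j φ => by
            change 𝟙 _ ≫ _ = BcPt.un f (g i) ≫ (DG.map φ).hom.hom
            rw [Category.id_comp, ← BcPt.un_comp_map, hgc]
            rfl } }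
  let t : (Over.map f).obj Y ⟶ cG.pt.X := hcG.lift s
  have ht : ∀ i, t ≫ (cG.π.app i).hom.hom = BcPt.un f (g i) := fun i => hcG.fac s i
  have ht' : ∀ i, BcPt.mk f t ≫ (Over.pullback f).map (cG.π.app i).hom.hom = g i := by
    intro i
    rw [BcPt.mk_comp_map, ht, BcPt.mk_un]
  refine ⟨BcPt.mk f t, ?_, ?_⟩
  · refine hcT.hom_ext fun i => ?_
    rw [ha', sm_restrict, ht', hg]
  · intro y hy
    apply BcPt.un_injective f
    rw [BcPt.un_mk]
    refine hcG.hom_ext fun i => ?_
    change BcPt.un f y ≫ (cG.π.app i).hom.hom = t ≫ (cG.π.app i).hom.hom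
    rw [ht, ← BcPt.un_comp_map]
    congr 1
    refine (dif_eq (hT i) ?_).symm
    rw [← sm_restrict, ← ha']
    exact congrArg (· ≫ cT.π.app i) hy

end

/-- A cofiltered limit of torsors under affine group schemes over an affine base `B`, `X` over `B`, is a torsor. -/
theorem isTorsorFor_limit {B X : Scheme.{u}} [IsAffine B] (f : X ⟶ B) {I : Type u} [SmallCategory I] [IsCofiltered I]
    (DG : I ⥤ Grp (Over B)) (hflat : ∀ i, Flat (DG.obj i).X.hom) (haff : ∀ i, IsAffineHom (DG.obj i).X.hom)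
    (cG : Cone DG) (hcG : IsLimit cG)
    (DT : I ⥤ Over X)
    (aT : ∀ i, AlgGrp.Action (Red.bc f (DG.obj i).X) (DT.obj i))
    (hT : ∀ i, NonAbH1.IsTorsorFor Scheme.fpqcPrecoverage (aT i))
    (hDT : ∀ (i j : I) (φ : i ⟶ j), AlgGrp.Action.IsEquivariant (aT i)
      ((aT j).restrict ((Over.pullback f).map (DG.map φ).hom.hom)) (DT.map φ))
    (cT : Cone DT) (hcT : IsLimit cT)
    (a : AlgGrp.Action (Red.bc f cG.pt.X) cT.pt)
    (ha : ∀ i, AlgGrp.Action.IsEquivariant a
      ((aT i).restrict ((Over.pullback f).map (cG.π.app i).hom.hom)) (cT.π.app i)) :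
    NonAbH1.IsTorsorFor Scheme.fpqcPrecoverage a := by
  have h1 : HasLimit (DG ⋙ Grp.forget (Over B)) := hasLimit_over_of_isAffine _ (fun i =>
    @isAffine_of_isAffineHom _ _ (DG.obj i).X.hom (haff i) ‹_›)
  have h2 : PreservesLimit DG (Grp.forget (Over B)) := K554.GrpLimit.preservesLimit_forget DG _ (limit.isLimit _)
  have h3 : IsLimit ((Grp.forget _).mapCone cG) := isLimitOfPreserves (Grp.forget (Over B)) hcG
  refine ⟨isPseudoTorsorSch_limit f DG cG h3 DT aT (fun i => (hT i).1) hDT cT hcT a ha, ?_⟩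
  have := K554.FibProd.flat_descends.{u}
  obtain ⟨k1, k2, k3⟩ := K554.LimitFlat.limit_props DT cT hcT
    (fun i => prop_of_isTorsorFor @IsAffineHom (hT i) 
      (MorphismProperty.pullback_snd (P := @IsAffineHom) (DG.obj i).X.hom f (haff i)))
    (fun i => prop_of_isTorsorFor @Flat (hT i) (by
      have := hflat i
      exact inferInstanceAs (Flat (pullback.snd (DG.obj i).X.hom f))))
    (fun i => K554.Fpqc2.surjective_of_isLocallyTrivialFor (hT i).2)
  exact K554.Fpqc2.isLocallyTrivialFor_of_flat cT.pt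

end K554.LimTors
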