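import Groth.Agent.NonAbH1.K554.Fpqc
import Groth.Agent.Ega3A.FiberRank
import Mathlib.AlgebraicGeometry.Morphisms.Finite
import Mathlib.RingTheory.Finiteness.ModuleFinitePresentation

/-!
# Flatness of finite pseudo-torsors over a reduced base

`flat_of_shear`: `S` reduced, `P` and `F` finite over `S`, `P` flat and locally of finite presentation,
`F ⟶ S` surjective, `P ×_S F ≅ F ×_S F`; then `F` is flat over `S`.
-/

set_option autoImplicit false
universe u v

open CategoryTheory CategoryTheory.Limits MonoidalCategory CartesianMonoidalCategory MonObj GrpObj AlgebraicGeometry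
open Groth.Agent.Ega3A.FiberRank TensorProduct

namespace K554.RankFlat

/-- Over a reduced ring a finite module with locally constant fibre rank is flat. -/
theorem flat_of_isReduced {R : Type u} [CommRing R] [IsReduced R] {M : Type v} [AddCommGroup M] [Module R M]
    [Module.Finite R M] (h : IsLocallyConstant (fiberRank (R := R) M)) : Module.Flat R M := by
  refine Module.flat_of_localized_maximal M fun P _ ↦ ?_
  have h1 : Module.Free (Localization.AtPrime P) ((Localization.AtPrime P) ⊗[R] M) := by
    apply free_of_reduced_local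
    intro q _
    rw [fiberRank_baseChange, fiberRank_baseChange]
    apply eq_of_isLocallyConstant_of_le h
    exact Ideal.comap_mono (f := algebraMap R (Localization.AtPrime P))
      (IsLocalRing.le_maximalIdeal q.2.ne_top)
  have h2 : Module.Flat R ((Localization.AtPrime P) ⊗[R] M) := Module.Flat.trans R (Localization.AtPrime P) _
  exact Module.Flat.of_linearEquiv ((LocalizedModule.equivTensorProduct P.primeCompl M).restrictScalars R)

lemma fiberRank_tensor {R : Type u} [CommRing R] (M N : Type v) [AddCommGroup M] [Module R M]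
    [AddCommGroup N] [Module R N] (x : PrimeSpectrum R) :
    fiberRank (M ⊗[R] N) x = fiberRank M x * fiberRank N x := by
  unfold fiberRank
  rw [(TensorProduct.AlgebraTensorModule.distribBaseChange R x.asIdeal.ResidueField M N).finrank_eq,
    Module.finrank_tensorProduct]

lemma fiberRank_ne_zero {R : Type u} [CommRing R] (B : Type v) [CommRing B] [Algebra R B] [Module.Finite R B]
    (x : PrimeSpectrum R) (hx : x ∈ Set.range (PrimeSpectrum.comap (algebraMap R B))) : fiberRank B x ≠ 0 := by
  have h := (PrimeSpectrum.nontrivial_iff_mem_rangeComap x).2 hx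
  unfold fiberRank
  exact Module.finrank_pos.ne'

theorem flat_of_equiv {R : Type u} [CommRing R] [IsReduced R] (H B : Type u) [CommRing B] [Algebra R B]
    [Module.Finite R B] [AddCommGroup H] [Module R H] [Module.Flat R H] [Module.FinitePresentation R H]
    (hB : Function.Surjective (PrimeSpectrum.comap (algebraMap R B)))
    (e : (H ⊗[R] B) ≃ₗ[R] (B ⊗[R] B)) : Module.Flat R B := by
  apply flat_of_isReduced
  have h1 : fiberRank (R := R) B = fiberRank (R := R) H := by
    funext x
    have h2 := fiberRank_congr e x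
    rw [fiberRank_tensor, fiberRank_tensor] at h2
    exact (Nat.eq_of_mul_eq_mul_right (Nat.pos_of_ne_zero (fiberRank_ne_zero B x (hB x))) h2).symm
  rw [h1]
  exact isLocallyConstant_fiberRank

section Scheme

variable {A : Type u} [CommRing A]

/-- an affine scheme over `Spec A` is `Spec B` for an `A`-algebra `B` -/
theorem exists_spec (Y : Over (Spec (CommRingCat.of A))) [IsAffine Y.left] :
    ∃ (B : Type u) (_ : CommRing B) (_ : Algebra A B),
      Nonempty (Y ≅ Over.mk (Spec.map (CommRingCat.ofHom (algebraMap A B)))) := by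
  let φ : CommRingCat.of A ⟶ Γ(Y.left, ⊤) := Spec.preimage (Y.left.isoSpec.inv ≫ Y.hom)
  refine ⟨Γ(Y.left, ⊤), inferInstance, φ.hom.toAlgebra, ⟨Over.isoMk Y.left.isoSpec ?_⟩⟩
  change Y.left.isoSpec.hom ≫ Spec.map φ = Y.hom
  rw [Spec.map_preimage, Iso.hom_inv_id_assoc]

/-- isomorphic affine schemes over `Spec A` have isomorphic algebras -/
theorem nonempty_algEquiv {B C : Type u} [CommRing B] [CommRing C] [Algebra A B] [Algebra A C]
    (e : Spec (CommRingCat.of B) ≅ Spec (CommRingCat.of C))
    (h : e.hom ≫ Spec.map (CommRingCat.ofHom (algebraMap A C)) =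
      Spec.map (CommRingCat.ofHom (algebraMap A B))) : Nonempty (C ≃ₐ[A] B) := by
  let φ : CommRingCat.of C ⟶ CommRingCat.of B := Spec.preimage e.hom
  let ψ : CommRingCat.of B ⟶ CommRingCat.of C := Spec.preimage e.inv
  have h1 : φ ≫ ψ = 𝟙 _ := by
    apply Spec.map_injective
    rw [Spec.map_comp, Spec.map_preimage, Spec.map_preimage, Iso.inv_hom_id, Spec.map_id]
  have h2 : ψ ≫ φ = 𝟙 _ := by
    apply Spec.map_injective
    rw [Spec.map_comp, Spec.map_preimage, Spec.map_preimage, Iso.hom_inv_id, Spec.map_id]
  have h3 : CommRingCat.ofHom (algebraMap A C) ≫ φ = CommRingCat.ofHom (algebraMap A B) := by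
    apply Spec.map_injective
    rw [Spec.map_comp, Spec.map_preimage, h]
  refine ⟨AlgEquiv.ofAlgHom ⟨φ.hom, fun a => ?_⟩ ⟨ψ.hom, fun a => ?_⟩ ?_ ?_⟩
  · exact congrArg (fun z => z.hom a) h3
  · have h4 : CommRingCat.ofHom (algebraMap A B) ≫ ψ = CommRingCat.ofHom (algebraMap A C) := by
      rw [← h3, Category.assoc, h1, Category.comp_id]
    exact congrArg (fun z => z.hom a) h4
  · ext b
    exact congrArg (fun z => z.hom b) h2
  · ext b
    exact congrArg (fun z => z.hom b) h1

theorem flat_of_shear_Spec [IsReduced A] (P F : Over (Spec (CommRingCat.of A))) [IsFinite P.hom] [Flat P.hom]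
    [LocallyOfFinitePresentation P.hom] [IsFinite F.hom] [Surjective F.hom] (e : P ⊗ F ≅ F ⊗ F) : Flat F.hom := by
  have : IsAffine P.left := isAffine_of_isAffineHom P.hom
  have : IsAffine F.left := isAffine_of_isAffineHom F.hom
  obtain ⟨H, _, _, ⟨eH⟩⟩ := exists_spec P
  obtain ⟨B, _, _, ⟨eB⟩⟩ := exists_spec F
  let p := Spec.map (CommRingCat.ofHom (algebraMap A H))
  let q := Spec.map (CommRingCat.ofHom (algebraMap A B))
  have hp : eH.hom.left ≫ p = P.hom := Over.w eH.hom
  have hq : eB.hom.left ≫ q = F.hom := Over.w eB.hom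
  have hp' : eH.inv.left ≫ P.hom = p := Over.w eH.inv
  have hq' : eB.inv.left ≫ F.hom = q := Over.w eB.inv
  have h1 : IsFinite p := by rw [← hp']; infer_instance
  have h2 : Flat p := by rw [← hp']; infer_instance
  have h3 : LocallyOfFinitePresentation p := by rw [← hp']; infer_instance
  have h4 : IsFinite q := by rw [← hq']; infer_instance
  have h5 : Surjective q := by rw [← hq']; infer_instance
  have e1 : Over.mk p ⊗ Over.mk q ≅ Over.mk q ⊗ Over.mk q := (eH.symm ⊗ᵢ eB.symm) ≪≫ e ≪≫ (eB ⊗ᵢ eB)
  let e2 : Spec (CommRingCat.of (H ⊗[A] B)) ≅ Spec (CommRingCat.of (B ⊗[A] B)) :=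
    (pullbackSpecIso A H B).symm ≪≫ (Over.forget _).mapIso e1 ≪≫ pullbackSpecIso A B B
  have h6 : Nonempty ((B ⊗[A] B) ≃ₐ[A] (H ⊗[A] B)) := by
    refine nonempty_algEquiv e2 ?_
    have h7 : e1.hom.left ≫ pullback.fst q q ≫ q = pullback.fst p q ≫ p := Over.w e1.hom
    have h8 : (pullbackSpecIso A B B).hom ≫ Spec.map (CommRingCat.ofHom (algebraMap A (B ⊗[A] B))) =
      pullback.fst q q ≫ q := pullbackSpecIso_hom_base A B B
    have h9 : (pullbackSpecIso A H B).hom ≫ Spec.map (CommRingCat.ofHom (algebraMap A (H ⊗[A] B))) =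
      pullback.fst p q ≫ p := pullbackSpecIso_hom_base A H B
    change ((pullbackSpecIso A H B).inv ≫ e1.hom.left ≫ (pullbackSpecIso A B B).hom) ≫ _ = _
    rw [Category.assoc, Category.assoc, h8, h7, ← h9, Iso.inv_hom_id_assoc]
  obtain ⟨e3⟩ := h6
  have h10 : Module.Finite A H := RingHom.finite_algebraMap.1 ((IsFinite.SpecMap_iff _).1 h1)
  have h11 : Module.Flat A H := (RingHom.flat_algebraMap_iff).1 (Flat.SpecMap_iff.1 h2)
  have h12 : Algebra.FinitePresentation A H :=
    (RingHom.finitePresentation_algebraMap).1 ((LocallyOfFinitePresentation.SpecMap_iff _).1 h3)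
  have h13 : Module.FinitePresentation A H := Module.FinitePresentation.of_finite_of_finitePresentation A H
  have h14 : Module.Finite A B := RingHom.finite_algebraMap.1 ((IsFinite.SpecMap_iff _).1 h4)
  have h15 : Module.Flat A B := flat_of_equiv H B h5.surj e3.symm.toLinearEquiv
  have h16 : Flat q := Flat.SpecMap_iff.2 ((RingHom.flat_algebraMap_iff).2 h15)
  rw [← hq]
  infer_instance

end Scheme

theorem flat_pullback {S : Scheme.{u}} [IsReduced S] (P F : Over S) [IsFinite P.hom] [Flat P.hom]
    [LocallyOfFinitePresentation P.hom] [IsFinite F.hom] [Surjective F.hom] (e : P ⊗ F ≅ F ⊗ F)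
    (A : Type u) [CommRing A] (j : Spec (CommRingCat.of A) ⟶ S) [IsOpenImmersion j] :
    Flat (pullback.snd F.hom j) := by
  have h0 : IsReduced (Spec (CommRingCat.of A)) := isReduced_of_isOpenImmersion j
  have hA : _root_.IsReduced A := by
    have := (affine_isReduced_iff (CommRingCat.of A)).1 h0
    exact this
  let e' : (Over.pullback j).obj P ⊗ (Over.pullback j).obj F ≅ (Over.pullback j).obj F ⊗ (Over.pullback j).obj F :=
    Functor.Monoidal.μIso (Over.pullback j) P F ≪≫ (Over.pullback j).mapIso e ≪≫
      (Functor.Monoidal.μIso (Over.pullback j) F F).symm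
  have h1 : IsFinite ((Over.pullback j).obj P).hom := inferInstanceAs (IsFinite (pullback.snd P.hom j))
  have h2 : Flat ((Over.pullback j).obj P).hom := inferInstanceAs (Flat (pullback.snd P.hom j))
  have h3 : LocallyOfFinitePresentation ((Over.pullback j).obj P).hom :=
    inferInstanceAs (LocallyOfFinitePresentation (pullback.snd P.hom j))
  have h4 : IsFinite ((Over.pullback j).obj F).hom := inferInstanceAs (IsFinite (pullback.snd F.hom j))
  have h5 : Surjective ((Over.pullback j).obj F).hom := inferInstanceAs (Surjective (pullback.snd F.hom j))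
  exact flat_of_shear_Spec _ _ e'

/-- A finite surjective `F ⟶ S` over a reduced scheme with `P ×_S F ≅ F ×_S F`, `P` finite locally free, is flat. -/
theorem flat_of_shear {S : Scheme.{u}} [IsReduced S] (P F : Over S) [IsFinite P.hom] [Flat P.hom]
    [LocallyOfFinitePresentation P.hom] [IsFinite F.hom] [Surjective F.hom] (e : P ⊗ F ≅ F ⊗ F) : Flat F.hom := by
  rw [IsZariskiLocalAtTarget.iff_of_openCover (P := @Flat) S.affineCover]
  intro i
  have : IsOpenImmersion (S.affineCover.f i) := S.affineCover.map_prop i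
  exact @flat_pullback S _ P F _ _ _ _ _ e _ _ (S.affineCover.f i) this

end K554.RankFlat
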