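import Groth.Agent.NonAbH1.K554.StabAff
import Groth.Agent.NonAbH1.K554.RankFlat
import Groth.Agent.NonAbH1.K554.ExtIso
import Groth.Agent.NoriFGS.K996.KAct
import Groth.Agent.FlatA.SteinNoeth
import Groth.Agent.PrincBund.K826.Descend

/-!
# Nori-reduced pointed torsors under finite group schemes and their global functions
-/

set_option autoImplicit false
universe u

open CategoryTheory CategoryTheory.Limits MonoidalCategory CartesianMonoidalCategory MonObj GrpObj AlgebraicGeometry
open Groth.Agent.Books.BorelOrb K554.Fpqc K554.Fpqc2 K554.FibAct K554.BcPt K554.ExtTors K554.StabAff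
open Groth.Agent.Sga3C.Affinization

namespace K554.NoriRed

section KAct

variable {S X : Scheme.{u}} (f : X ⟶ S) {G : Over S} [GrpObj G] {P : Over X}

lemma sm_kact (a : AlgGrp.Action (Red.bc f G) P) {T : Over X} (g : T ⟶ Red.bc f G) (p : T ⟶ P) :
    sm (K996.KAct.kact f a) (un f g) ((Over.map f).map p) = (Over.map f).map (sm a g p) := by
  have h := K996.KAct.sm_kact f a (un f g) p
  have h2 : K996.Pts.up f (un f g) = g := mk_un f g
  rw [h2] at h
  exact h

end KAct

variable {k : Type u} [Field k] {X : Scheme.{u}} (f : X ⟶ Spec (CommRingCat.of k))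
  {G : Over (Spec (CommRingCat.of k))} [GrpObj G] [IsFinite G.hom] {T : Over X}
  {a : AlgGrp.Action (Red.bc f G) T}

/-- If the only functions on `T` are constant then `T` has no proper subtorsor. -/
theorem isIso_of_bijective [Nonempty X] [QuasiCompact f] (hT : NonAbH1.IsTorsorFor Scheme.fppfPrecoverage a)
    (hbij : Function.Bijective (T.hom ≫ f).appTop.hom) (H : Over (Spec (CommRingCat.of k))) [GrpObj H] (i : H ⟶ G)
    [IsMonHom i] [IsClosedImmersion i.left] (V : Over X) (j : V ⟶ T)
    (b : AlgGrp.Action (Red.bc f H) V) (hb : NonAbH1.IsTorsorFor Scheme.fppfPrecoverage b)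
    (hj : AlgGrp.Action.IsEquivariant b (a.restrict ((Over.pullback f).map i)) j) : IsIso j := by
  have hmi' : Mono ((Over.forget _).map i) := inferInstanceAs (Mono i.left)
  have hmi : Mono i := (Over.forget _).mono_of_mono_map hmi'
  have hH : IsFinite H.hom := by
    have h1 : i.left ≫ G.hom = H.hom := Over.w i
    rw [← h1]
    infer_instance
  have hHl : LocallyOfFinitePresentation H.hom := LocallyOfFinitePresentation.iff_locallyOfFiniteType.2 inferInstance
  have hGa : IsAffine G.left := isAffine_of_isAffineHom G.hom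
  -- the action of `H` on `G`
  let c : AlgGrp.Action H G := mkAction (snd H G * (fst H G ≫ i)⁻¹)
    (by
      intro R g
      rw [MonObj.comp_mul, lift_snd, GrpObj.comp_inv, lift_fst_assoc, MonObj.one_comp, inv_one, _root_.mul_one])
    (by
      intro R g h x
      simp only [MonObj.comp_mul, GrpObj.comp_inv, lift_snd, lift_fst_assoc, MonObj.mul_comp, _root_.mul_inv_rev]
      rw [_root_.mul_assoc])
  have hc : ∀ (R : Over (Spec (CommRingCat.of k))) (h : R ⟶ H) (g : R ⟶ G), sm c h g = g * (h ≫ i)⁻¹ := by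
    intro R h g
    change lift h g ≫ (snd H G * (fst H G ≫ i)⁻¹) = _
    rw [MonObj.comp_mul, lift_snd, GrpObj.comp_inv, lift_fst_assoc]
  have hcm : Mono (lift c.act (snd H G)) := by
    refine ⟨fun {R} s t h => ?_⟩
    have h1 := congrArg (· ≫ fst _ _) h
    have h2 := congrArg (· ≫ snd _ _) h
    simp only [Category.assoc, lift_fst, lift_snd] at h1 h2
    have h3 : ∀ r : R ⟶ H ⊗ G, r ≫ c.act = sm c (r ≫ fst _ _) (r ≫ snd _ _) := by
      intro r
      rw [sm, lift_comp_fst_snd]
    rw [h3, h3, hc, hc, h2] at h1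
    have h4 := inv_injective (mul_left_cancel h1)
    rw [cancel_mono] at h4
    exact CartesianMonoidalCategory.hom_ext _ _ h4 h2
  obtain ⟨M, q, hMa, -, -, -, -, hq⟩ := FreeQuot.exists_quotient c
  -- the morphism `T ⟶ M`
  have hj' : ∀ (R : Over X) (h : R ⟶ Red.bc f H) (v : R ⟶ V),
      sm b h v ≫ j = sm a (h ≫ (Over.pullback f).map i) (v ≫ j) := by
    rw [isEquivariant_iff] at hj
    intro R h v
    rw [hj, sm_restrict]
  let F : T ⊗ V ⟶ Red.bc f M := dif hT.1 (fst T V) (snd T V ≫ j) ≫ (Over.pullback f).map q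
  have hF : ∀ (R : Over X) (t : R ⟶ T) (v : R ⟶ V),
      un f (lift t v ≫ F) = un f (dif hT.1 t (v ≫ j)) ≫ q := by
    intro R t v
    rw [← Category.assoc, un_comp_map, comp_dif, lift_fst, lift_snd_assoc]
  obtain ⟨m, hm, -⟩ := K826.Descend.existsUnique_descend Scheme.fppfPrecoverage_le_fpqcPrecoverage hb.2
    (T := T) (Y := Red.bc f M) F (by
      intro R t v v'
      apply un_injective f
      rw [hF, hF, hq]
      refine ⟨un f (dif hb.1 v v'), ?_⟩
      rw [hc, ← un_comp_map, ← un_inv, ← un_mul, ← dif_sm_right, ← hj', sm_dif])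
  -- it is constant
  have haff : IsAffinization (toUnit ((Over.map f).obj T)) := by
    refine ⟨inferInstanceAs (IsAffine (Spec (CommRingCat.of k))), ?_⟩
    have h1 : (toUnit ((Over.map f).obj T)).left = T.hom ≫ f := rfl
    rw [h1]
    exact (ConcreteCategory.isIso_iff_bijective _).2 hbij
  obtain ⟨c₀, hc₀⟩ := haff.exists_fac (un f m)
  have key : ∀ (R : Over X) (t : R ⟶ T) (v : R ⟶ V), un f (dif hT.1 t (v ≫ j)) ≫ q = toUnit _ ≫ c₀ := by
    intro R t v
    rw [← hF, ← hm, lift_fst_assoc, un_comp, ← hc₀, ← Category.assoc]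
    congr 1
    exact toUnit_unique _ _
  -- hence `q` is constant
  let Vk := (Over.map f).obj V
  have hG1 : IsFinite (Red.bc f G).hom := inferInstanceAs (IsFinite (pullback.snd G.hom f))
  have hH1 : IsFinite (Red.bc f H).hom := inferInstanceAs (IsFinite (pullback.snd H.hom f))
  have hV1 : IsFinite V.hom := K551.Tors.isFinite_of_torsor hb
  have hV2 : Surjective V.hom := K551.Tors.surjective_of_isLocallyTrivial hb.2
  have hVk1 : Surjective Vk.hom := by
    obtain ⟨x⟩ := (inferInstance : Nonempty X)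
    obtain ⟨v, -⟩ := hV2.surj x
    refine ⟨fun s => ⟨v, Subsingleton.elim _ _⟩⟩
  have hVk2 : QuasiCompact Vk.hom := inferInstanceAs (QuasiCompact (V.hom ≫ f))
  have hVk : NonAbH1.IsLocallyTrivialFor Scheme.fpqcPrecoverage Vk := isLocallyTrivialFor_of_flat Vk
  have hconst : ∀ (R : Over (Spec (CommRingCat.of k))) (g : R ⟶ G), g ≫ q = toUnit _ ≫ c₀ := by
    intro R g
    refine K826.Descend.cancel_fst le_rfl hVk ?_
    obtain ⟨R', e, v', he⟩ := K996.KAct.exists_iso (q := f) (snd R Vk)
    let g' : (Over.map f).obj R' ⟶ G := e.hom ≫ fst R Vk ≫ g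
    have h1 := key R' (sm a (mk f g') (v' ≫ j)) v'
    rw [dif_sm_left, dif_self, _root_.mul_one, un_mk] at h1
    rw [← cancel_epi e.hom, ← Category.assoc (fst R Vk)]
    rw [show e.hom ≫ (fst R Vk ≫ g) ≫ q = g' ≫ q from (Category.assoc _ _ _).symm, h1, ← Category.assoc,
      ← Category.assoc]
    congr 1
    exact toUnit_unique _ _
  -- hence `H = G`
  obtain ⟨h, hh⟩ := (hq G (𝟙 G) 1).1 ((hconst G (𝟙 G)).trans (hconst G 1).symm)
  rw [hc, _root_.one_mul] at hh
  have hsp : (h⁻¹ : G ⟶ H) ≫ i = 𝟙 G := by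
    rw [← hh, GrpObj.inv_comp]
  have hiso : IsIso i := by
    refine ⟨(h⁻¹ : G ⟶ H), ?_, hsp⟩
    rw [← cancel_mono i, Category.assoc, hsp, Category.comp_id, Category.id_comp]
  refine isIso_of_isEquivariant Scheme.fppfPrecoverage b (a.restrict ((Over.pullback f).map i)) hb ?_ j hj
  rw [isPseudoTorsorSch_iff]
  intro R t t'
  refine ⟨dif hT.1 t t' ≫ inv ((Over.pullback f).map i), ?_, ?_⟩
  · change sm _ _ _ = _
    rw [sm_restrict, Category.assoc, IsIso.inv_hom_id, Category.comp_id, sm_dif]
  · intro h' hh'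
    rw [sm_restrict] at hh'
    rw [← cancel_mono ((Over.pullback f).map i), Category.assoc, IsIso.inv_hom_id, Category.comp_id]
    exact (dif_eq hT.1 hh').symm

/-- If `T` has no proper subtorsor then all its functions are constant. -/
theorem bijective_of_forall [IsProper f] [IsReduced X] [ConnectedSpace X]
    (x : Spec (CommRingCat.of k) ⟶ X) (hx : x ≫ f = 𝟙 _)
    (hT : NonAbH1.IsTorsorFor Scheme.fppfPrecoverage a)
    (t : Spec (CommRingCat.of k) ⟶ T.left) (ht : t ≫ T.hom = x)
    (hN : ∀ (H : Over (Spec (CommRingCat.of k))) [GrpObj H] (i : H ⟶ G) [IsMonHom i] [IsClosedImmersion i.left]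
        (V : Over X) (j : V ⟶ T) [IsClosedImmersion j.left]
        (b : AlgGrp.Action (Red.bc f H) V),
        NonAbH1.IsTorsorFor Scheme.fppfPrecoverage b →
        AlgGrp.Action.IsEquivariant b (a.restrict ((Over.pullback f).map i)) j → IsIso j) :
    Function.Bijective (T.hom ≫ f).appTop.hom := by
  have hXn : IsLocallyNoetherian X := LocallyOfFiniteType.isLocallyNoetherian f
  have hXc : CompactSpace X := QuasiCompact.compactSpace_of_compactSpace f
  have hXs : QuasiSeparatedSpace X := quasiSeparatedSpace_of_quasiSeparated f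
  have hGa : IsAffine G.left := isAffine_of_isAffineHom G.hom
  have hG1 : IsFinite (Red.bc f G).hom := inferInstanceAs (IsFinite (pullback.snd G.hom f))
  have hG2 : Flat (Red.bc f G).hom := inferInstanceAs (Flat (pullback.snd G.hom f))
  have hT1 : IsFinite T.hom := K551.Tors.isFinite_of_torsor hT
  have hT2 : Flat T.hom := ExtIso.flat_of_torsor hT
  have hT3 : LocallyOfFinitePresentation T.hom := LocallyOfFinitePresentation.iff_locallyOfFiniteType.2 inferInstance
  have hTc : CompactSpace T.left := QuasiCompact.compactSpace_of_compactSpace T.hom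
  have hTs : QuasiSeparatedSpace T.left := quasiSeparatedSpace_of_quasiSeparated T.hom
  let Tk : Over (Spec (CommRingCat.of k)) := (Over.map f).obj T
  have hTkc : CompactSpace Tk.left := hTc
  have hTks : QuasiSeparatedSpace Tk.left := hTs
  let κ : AlgGrp.Action G Tk := K996.KAct.kact f a
  let Z : Over (Spec (CommRingCat.of k)) := affOver Tk
  let π : Tk ⟶ Z := toAff Tk
  have hπ : IsAffinization π := isAffinization_toAff Tk
  obtain ⟨β, hβ⟩ := exists_affAct k π hπ κ
  -- `Z` is finite
  have hZ : IsFinite Z.hom := by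
    change IsFinite (Spec.map _)
    rw [IsFinite.SpecMap_iff]
    have hp : IsProper Tk.hom := inferInstanceAs (IsProper (T.hom ≫ f))
    exact Groth.Agent.FlatA.SteinNoeth.finite_toGlobal k Tk.left Tk.hom
  have hZd : DiscreteTopology Z.left := FibProd.discreteTopology_of_isFinite Z.hom
  -- the base point
  let tk : 𝟙_ (Over (Spec (CommRingCat.of k))) ⟶ Tk := Over.homMk t (by
    change t ≫ T.hom ≫ f = 𝟙 _
    rw [← Category.assoc, ht, hx])
  let z₀ := tk ≫ π
  have hz₀ : IsClosedImmersion z₀.left := by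
    have h1 : IsClosedImmersion (z₀.left ≫ Z.hom) := by
      rw [Over.w]
      exact inferInstanceAs (IsClosedImmersion (𝟙 _))
    exact IsClosedImmersion.of_comp z₀.left Z.hom
  obtain ⟨H, hH, i, himon, hicl, himono, hi⟩ := exists_stabilizer β z₀
  -- the fibre over the base point
  let V : Over X := Over.mk (pullback.fst π.left z₀.left ≫ T.hom)
  let j : V ⟶ T := Over.homMk (pullback.fst π.left z₀.left) rfl
  have hjcl : IsClosedImmersion j.left := inferInstanceAs (IsClosedImmersion (pullback.fst π.left z₀.left))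
  have hjm' : Mono ((Over.forget _).map j) := inferInstanceAs (Mono j.left)
  have hjm : Mono j := (Over.forget _).mono_of_mono_map hjm'
  have hVpt : ∀ (R : Over X) (τ : R ⟶ T), (∃ v : R ⟶ V, v ≫ j = τ) ↔
      (Over.map f).map τ ≫ π = toUnit _ ≫ z₀ := by
    intro R τ
    constructor
    · rintro ⟨v, rfl⟩
      apply Over.OverMorphism.ext
      change (v.left ≫ pullback.fst π.left z₀.left) ≫ π.left = (toUnit ((Over.map f).obj R)).left ≫ z₀.left
      rw [Category.assoc, pullback.condition, ← Category.assoc]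
      congr 1
      have h1 : pullback.snd π.left z₀.left = pullback.fst π.left z₀.left ≫ T.hom ≫ f := by
        have h2 : z₀.left ≫ Z.hom = 𝟙 _ := Over.w z₀
        have h3 : π.left ≫ Z.hom = T.hom ≫ f := Over.w π
        rw [← h3, ← Category.assoc, pullback.condition, Category.assoc, h2, Category.comp_id]
      rw [h1]
      have h4 : v.left ≫ pullback.fst π.left z₀.left ≫ T.hom = R.hom := Over.w v
      calc v.left ≫ pullback.fst π.left z₀.left ≫ T.hom ≫ f = (v.left ≫ pullback.fst π.left z₀.left ≫ T.hom) ≫ f := by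
            simp only [Category.assoc]
        _ = _ := by rw [h4]; rfl
    · intro h
      have h1 := congrArg CommaMorphism.left h
      refine ⟨Over.homMk (pullback.lift τ.left ((toUnit ((Over.map f).obj R)).left) h1) ?_, ?_⟩
      · change pullback.lift _ _ _ ≫ pullback.fst π.left z₀.left ≫ T.hom = _
        rw [pullback.lift_fst_assoc, Over.w]
      · apply Over.OverMorphism.ext
        exact pullback.lift_fst _ _ _
  -- the action of `H`
  have hstab : ∀ (R : Over X) (g : R ⟶ Red.bc f G) (v v' : R ⟶ V), sm a g (v' ≫ j) = v ≫ j →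
      ∃ h : R ⟶ Red.bc f H, h ≫ (Over.pullback f).map i = g := by
    intro R g v v' h
    have e1 := (hVpt R _).1 ⟨v, rfl⟩
    have e2 := (hVpt R _).1 ⟨v', rfl⟩
    have h1 : sm β (un f g) (toUnit _ ≫ z₀) = toUnit _ ≫ z₀ := by
      refine Eq.trans ?_ e1
      rw [← h, ← sm_kact, ← hβ, e2]
    obtain ⟨h₀, hh₀⟩ := (hi _ _).2 h1
    refine ⟨mk f h₀, ?_⟩
    rw [mk_comp_map, hh₀, mk_un]
  have hsub : ∀ (R : Over X) (h : R ⟶ Red.bc f H) (v : R ⟶ V),
      ∃ w : R ⟶ V, w ≫ j = sm a (h ≫ (Over.pullback f).map i) (v ≫ j) := by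
    intro R h v
    rw [hVpt, ← sm_kact, ← hβ, (hVpt R _).1 ⟨v, rfl⟩, un_comp_map]
    exact (hi _ _).1 ⟨_, rfl⟩
  obtain ⟨b, hb⟩ := exists_subAct ((Over.pullback f).map i) a j hsub
  have hbp : NonAbH1.IsPseudoTorsorSch b := isPseudoTorsorSch_sub (i := (Over.pullback f).map i) hT.1 b hb
    (fun R v v' => hstab R _ v v' (sm_dif _ _ _))
  -- `V ⟶ X` is finite, surjective and flat
  have hV1 : IsFinite V.hom := by
    have h1 : IsFinite (j.left ≫ T.hom) := inferInstance
    rwa [Over.w] at h1
  have hV2 : LocallyOfFinitePresentation V.hom := LocallyOfFinitePresentation.iff_locallyOfFiniteType.2 inferInstance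
  have hV3 : Surjective V.hom := by
    let W : Set T.left := π.left ⁻¹' {z₀.left (IsLocalRing.closedPoint k)}
    have hW : IsClopen W := (isClopen_discrete _).preimage π.left.continuous
    have hop : IsOpenMap T.hom := Scheme.Hom.isOpenMap T.hom
    have hcl : IsClosedMap T.hom := Scheme.Hom.isClosedMap T.hom
    have hpW : IsClopen (T.hom '' W) := ⟨hcl _ hW.1, hop _ hW.2⟩
    have hne : (T.hom '' W).Nonempty := ⟨_, t (IsLocalRing.closedPoint k), rfl, rfl⟩
    have huniv : T.hom '' W = Set.univ := hpW.eq_univ hne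
    refine ⟨fun p => ?_⟩
    obtain ⟨w, hw, hwp⟩ : p ∈ T.hom '' W := by rw [huniv]; trivial
    obtain ⟨v, hv1, hv2⟩ := Scheme.Pullback.exists_preimage_pullback (f := π.left) (g := z₀.left) w _ hw
    refine ⟨v, ?_⟩
    change (pullback.fst π.left z₀.left ≫ T.hom) v = p
    rw [Scheme.Hom.comp_apply, hv1, hwp]
  have hH1 : IsFinite H.hom := by
    have h1 : i.left ≫ G.hom = H.hom := Over.w i
    rw [← h1]
    infer_instance
  have hH2 : LocallyOfFinitePresentation H.hom := LocallyOfFinitePresentation.iff_locallyOfFiniteType.2 inferInstance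
  have hV4 : Flat V.hom := by
    have h1 : IsFinite (Red.bc f H).hom := inferInstanceAs (IsFinite (pullback.snd H.hom f))
    have h2 : Flat (Red.bc f H).hom := inferInstanceAs (Flat (pullback.snd H.hom f))
    have h3 : LocallyOfFinitePresentation (Red.bc f H).hom :=
      inferInstanceAs (LocallyOfFinitePresentation (pullback.snd H.hom f))
    have h4 : IsIso (lift b.act (snd (Red.bc f H) V)) := hbp
    exact RankFlat.flat_of_shear (Red.bc f H) V (asIso (lift b.act (snd (Red.bc f H) V)))
  have hbt : NonAbH1.IsTorsorFor Scheme.fppfPrecoverage b := ⟨hbp, isLocallyTrivialFor_fppf_of_flat V⟩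
  have hiso : IsIso j := hN H i V j b hbt (by
    rw [isEquivariant_iff]
    intro R h v
    rw [sm_restrict]
    exact hb R h v)
  -- conclusion
  have hπc : π = toUnit Tk ≫ z₀ := by
    have h1 := (hVpt T (𝟙 T)).1 ⟨inv j, IsIso.inv_hom_id j⟩
    rw [CategoryTheory.Functor.map_id, Category.id_comp] at h1
    exact h1
  have e1 : t ≫ T.hom ≫ f = 𝟙 _ := by rw [← Category.assoc, ht, hx]
  constructor
  · have h1 : (T.hom ≫ f).appTop ≫ t.appTop = 𝟙 _ := by
      rw [← Scheme.Hom.comp_appTop, e1, Scheme.Hom.id_appTop]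
    intro u v huv
    have h2 := congrArg t.appTop.hom huv
    have h3 : ∀ w, t.appTop.hom ((T.hom ≫ f).appTop.hom w) = w := fun w => congrArg (fun m => m.hom w) h1
    rwa [h3, h3] at h2
  · have h2 : IsIso π.left.appTop := hπ.isIso
    have h3 : π.left.appTop = z₀.left.appTop ≫ (T.hom ≫ f).appTop := by
      rw [← Scheme.Hom.comp_appTop]
      have h4 : π.left = (T.hom ≫ f) ≫ z₀.left := congrArg CommaMorphism.left hπc
      rw [h4]
    intro w
    obtain ⟨w', hw'⟩ := ((ConcreteCategory.isIso_iff_bijective _).1 h2).2 w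
    refine ⟨z₀.left.appTop.hom w', ?_⟩
    rw [← hw']
    exact (congrArg (fun m => m.hom w') h3).symm

end K554.NoriRed
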