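import Groth.Agent.NonAbH1.K554.FibAct
import Groth.Agent.Variety.K436.FibBC
import Groth.Agent.Pi1A.SteinEtale
import Groth.Agent.Dix.EtMinD

/-!
# Morphisms from the source of an `O`-connected morphism to an affine scheme over the base

* `hom_ext`, `existsUnique_fac`: if `α : P₁ ⟶ P` induces isomorphisms on functions over all opens, maps to schemes
  affine over the base factor uniquely.
* `exists_bcHom`: morphisms between base changes along an `O`-connected flat morphism descend.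
-/

set_option autoImplicit false
universe u

open CategoryTheory CategoryTheory.Limits MonoidalCategory CartesianMonoidalCategory MonObj GrpObj AlgebraicGeometry
open Groth.Agent.Books.BorelOrb K554.Fpqc K554.FibAct

namespace K554.RelAff

theorem isIso_of_fac {P₁ P E : Scheme.{u}} (α : P₁ ⟶ P) (hα : ∀ V : P.Opens, IsIso (α.app V)) (j : E ⟶ P)
    [IsAffineHom j] (t : P₁ ⟶ E) (ht : t ≫ j = α)
    (h : (∀ V : P.Opens, IsAffineOpen V → Function.Surjective (j.app V).hom) ∨
      ∀ V : P.Opens, IsAffineOpen V → Function.Injective (t.app (j ⁻¹ᵁ V)).hom) : IsIso j := by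
  refine Groth.Agent.Dix.EtMinD.isIso_of_isIso_app j fun V hV => ?_
  subst ht
  have h1 := hα V
  rw [Scheme.Hom.comp_app] at h1
  have h2 : Function.Bijective ((t.app (j ⁻¹ᵁ V)).hom ∘ (j.app V).hom) := (ConcreteCategory.isIso_iff_bijective _).1 h1
  rw [ConcreteCategory.isIso_iff_bijective]
  rcases h with h | h
  · exact ⟨h2.1.of_comp, h V hV⟩
  · exact ⟨h2.1.of_comp, fun x => by
      obtain ⟨y, hy⟩ := h2.2 ((t.app (j ⁻¹ᵁ V)).hom x)
      exact ⟨y, h V hV hy⟩⟩

theorem hom_ext {P₁ P Z Y : Scheme.{u}} (α : P₁ ⟶ P) (hα : ∀ V : P.Opens, IsIso (α.app V)) (h : Z ⟶ Y)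
    [IsSeparated h] {w₁ w₂ : P ⟶ Z} (hw : w₁ ≫ h = w₂ ≫ h) (hw' : α ≫ w₁ = α ≫ w₂) : w₁ = w₂ := by
  let X' : Over Y := Over.mk (w₁ ≫ h)
  let Z' : Over Y := Over.mk h
  have hsep : IsSeparated Z'.hom := inferInstanceAs (IsSeparated h)
  let u₁ : X' ⟶ Z' := Over.homMk w₁ rfl
  let u₂ : X' ⟶ Z' := Over.homMk w₂ hw.symm
  let P' : Over Y := Over.mk (α ≫ w₁ ≫ h)
  let a' : P' ⟶ X' := Over.homMk α rfl
  have hcond : a' ≫ u₁ = a' ≫ u₂ := by ext; exact hw'
  have hcl : IsClosedImmersion (equalizer.ι u₁ u₂).left := inferInstance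
  have ht : (equalizer.lift a' hcond).left ≫ (equalizer.ι u₁ u₂).left = α :=
    congrArg (fun m => m.left) (equalizer.lift_ι a' hcond)
  have hiso : IsIso (equalizer.ι u₁ u₂).left := isIso_of_fac α hα (equalizer.ι u₁ u₂).left
    (equalizer.lift a' hcond).left ht (Or.inl fun V hV => (equalizer.ι u₁ u₂).left.app_surjective V hV)
  have h4 : (equalizer.ι u₁ u₂).left ≫ w₁ = (equalizer.ι u₁ u₂).left ≫ w₂ :=
    congrArg (fun m => m.left) (equalizer.condition u₁ u₂)
  exact (cancel_epi (equalizer.ι u₁ u₂).left).1 h4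

theorem existsUnique_fac {P₁ P Z Y : Scheme.{u}} (α : P₁ ⟶ P) [QuasiCompact α]
    (hα : ∀ V : P.Opens, IsIso (α.app V)) (p : P ⟶ Y) (h : Z ⟶ Y) [IsAffineHom h] (v : P₁ ⟶ Z)
    (hv : v ≫ h = α ≫ p) : ∃ w : P ⟶ Z, w ≫ h = p ∧ α ≫ w = v := by
  let s : P₁ ⟶ pullback h p := pullback.lift v α hv
  have hs : s ≫ pullback.snd h p = α := pullback.lift_snd _ _ _
  have haff : IsAffineHom (pullback.snd h p) := MorphismProperty.pullback_snd _ _ inferInstance
  have hqc : QuasiCompact s := by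
    have : QuasiCompact (s ≫ pullback.snd h p) := by rw [hs]; infer_instance
    exact QuasiCompact.of_comp s (pullback.snd h p)
  have haff2 : IsAffineHom (s.imageι ≫ pullback.snd h p) := inferInstance
  have ht : s.toImage ≫ (s.imageι ≫ pullback.snd h p) = α := by rw [Scheme.Hom.toImage_imageι_assoc, hs]
  have hj : IsIso (s.imageι ≫ pullback.snd h p) := isIso_of_fac α hα _ s.toImage ht (Or.inr fun V hV =>
    Scheme.Hom.toImage_app_injective s ⟨_, hV.preimage (pullback.snd h p)⟩)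
  have h1 : α ≫ inv (s.imageι ≫ pullback.snd h p) = s.toImage := by
    rw [IsIso.comp_inv_eq, ht]
  refine ⟨inv (s.imageι ≫ pullback.snd h p) ≫ s.imageι ≫ pullback.fst h p, ?_, ?_⟩
  · rw [Category.assoc, Category.assoc, pullback.condition, ← Category.assoc s.imageι]
    exact IsIso.inv_hom_id_assoc (s.imageι ≫ pullback.snd h p) p
  · rw [reassoc_of% h1, Scheme.Hom.toImage_imageι_assoc, pullback.lift_fst]

end K554.RelAff
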