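import Groth.Agent.NonAbH1.K554.TrivFib
import Groth.Agent.NonAbH1.K554.DescAct
import Groth.Agent.NonAbH1.K554.ExtIso
import Groth.Agent.NonAbH1.K553.Bc
import Groth.Agent.S2387
import Groth.Agent.S1297
import Groth.Agent.S1340
import Groth.Agent.S2393

/-!
# Descent of a torsor which is trivial on the closed fibres of a proper flat morphism with `h^0 = 1` fibres
-/

set_option autoImplicit false
universe u

open CategoryTheory CategoryTheory.Limits MonoidalCategory CartesianMonoidalCategory MonObj GrpObj AlgebraicGeometry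
open Groth.Agent.Ega3B Groth.Agent.Ega3B.EqzSections Groth.Agent.Sga3C.Affinization K554.GrGlob K554.TrivFib

namespace K554.StTriv

theorem map_left_eq {Y : Scheme.{u}} {A B : Over Y} (α : A ⟶ B) (z : Y) :
    ((Over.pullback (Y.fromSpecResidueField z)).map α).left =
      CohIII.fiberMapOver α.left A.hom B.hom (Over.w α) z := by
  apply pullback.hom_ext
  · exact (pullback.lift_fst _ _ _).trans (pullback.lift_fst _ _ _).symm
  · refine (pullback.lift_snd _ _ _).trans (Eq.trans ?_ (pullback.lift_snd _ _ _).symm)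
    exact (Category.comp_id _).symm

theorem isIso_of_closed {X Z Y : Scheme.{u}} [JacobsonSpace Y] (u : X ⟶ Z) (h : Z ⟶ Y)
    (H : ∀ z : Y, IsClosed ({z} : Set Y) → ∃ U : Y.Opens, z ∈ U ∧ IsIso (u ∣_ (h ⁻¹ᵁ U))) : IsIso u := by
  choose! U hU1 hU2 using H
  have hcov : ⨆ z : {z : Y // IsClosed ({z} : Set Y)}, U z.1 = ⊤ := by
    by_contra hne
    have h1 : ((⨆ z : {z : Y // IsClosed ({z} : Set Y)}, U z.1 : Y.Opens) : Set Y)ᶜ.Nonempty := by
      rw [Set.nonempty_compl]
      intro h2
      exact hne (TopologicalSpace.Opens.ext h2)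
    obtain ⟨z, hz1, hz2⟩ := nonempty_inter_closedPoints h1
      (TopologicalSpace.Opens.isOpen _).isClosed_compl.isLocallyClosed
    apply hz1
    rw [SetLike.mem_coe, TopologicalSpace.Opens.mem_iSup]
    exact ⟨⟨z, hz2⟩, hU1 z hz2⟩
  have hcov' : ⨆ z : {z : Y // IsClosed ({z} : Set Y)}, h ⁻¹ᵁ (U z.1) = ⊤ := by
    rw [← Scheme.Hom.preimage_iSup, hcov, Scheme.Hom.preimage_top]
  change MorphismProperty.isomorphisms _ u
  rw [IsZariskiLocalAtTarget.iff_of_iSup_eq_top (P := MorphismProperty.isomorphisms Scheme) _ hcov']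
  intro z
  exact hU2 z.1 z.2

variable {X Y : Scheme.{u}} (f : X ⟶ Y) [IsProper f] [Flat f]
  (hfib : ∀ y' : Y, Function.Bijective (pullback.snd f (Y.fromSpecResidueField y')).appTop.hom)

include hfib in
omit [IsProper f] [Flat f] in
theorem surjective : Surjective f := by
  refine ⟨fun y => ?_⟩
  by_contra hne
  have h1 : IsEmpty (f.fiber y) := by
    refine ⟨fun w => hne ⟨f.fiberι y w, ?_⟩⟩
    have h2 := f.range_fiberι y
    have h3 : f.fiberι y w ∈ f ⁻¹' {y} := by rw [← h2]; exact ⟨w, rfl⟩
    exact h3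
  have h2 : Subsingleton Γ(f.fiber y, ⊤) := inferInstance
  have h3 : Subsingleton Γ(Spec (Y.residueField y), ⊤) :=
    @Function.Injective.subsingleton _ _ _ (hfib y).1 h2
  have h4 : Subsingleton (Y.residueField y) := (Scheme.ΓSpecIso (Y.residueField y)).commRingCatIsoToRingEquiv.symm.injective.subsingleton
  exact not_subsingleton (Y.residueField y) h4

include hfib in
theorem isIso_app [IsLocallyNoetherian Y] (V : Y.Opens) : IsIso (f.app V) := by
  refine Groth.Agent.S1340.isIso_app_of_basis f (fun y U hy => ?_) V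
  have h1 : Function.Bijective (algebraMap (Y.residueField y) Γ(f.fiber y, ⊤)) := by
    have h2 : Function.Bijective (Scheme.ΓSpecIso (Y.residueField y)).inv.hom :=
      (ConcreteCategory.isIso_iff_bijective _).1 inferInstance
    exact (hfib y).comp h2
  obtain ⟨W, hW1, hW2⟩ := Groth.Agent.S2393.result f y h1
  exact ⟨W ⊓ U, ⟨hW1, hy⟩, inf_le_right, hW2 _ inf_le_left⟩

theorem isAffinization_toUnit {X Y : Scheme.{u}} (f : X ⟶ Y) {z : Y} (hb : Function.Bijective (pullback.snd f (Y.fromSpecResidueField z)).appTop.hom) :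
    IsAffinization (toUnit ((Over.pullback (Y.fromSpecResidueField z)).obj (Over.mk f))) := by
  refine ⟨inferInstanceAs (IsAffine (Spec _)), ?_⟩
  have h1 : (toUnit ((Over.pullback (Y.fromSpecResidueField z)).obj (Over.mk f))).left =
      pullback.snd f (Y.fromSpecResidueField z) := by
    have h2 := Over.w (toUnit ((Over.pullback (Y.fromSpecResidueField z)).obj (Over.mk f)))
    exact (Category.comp_id _).symm.trans h2
  rw [h1, ConcreteCategory.isIso_iff_bijective]
  exact hb

section Main

variable {B : Type u} [Field B] (q : Y ⟶ Spec (CommRingCat.of B)) {p : X ⟶ Spec (CommRingCat.of B)} (hp : f ≫ q = p)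
  {G : Over (Spec (CommRingCat.of B))} [GrpObj G] [IsFinite G.hom] {T : Over X}
  {a : AlgGrp.Action (Red.bc p G) T} (ha : NonAbH1.IsPseudoTorsorSch a) [IsFinite T.hom] [Flat T.hom]
  (htriv : ∀ y' : Y, IsClosed ({y'} : Set Y) →
      NonAbH1.HasSectionOver T (pullback.fst f (Y.fromSpecResidueField y')))
  [IsLocallyNoetherian Y] [JacobsonSpace Y] [AlgebraicGeometry.IsReduced Y]

include hfib hp ha htriv in
theorem exists_descent : ∃ Z : Over Y, IsFinite Z.hom ∧ Flat Z.hom ∧ Nonempty (T ≅ Red.bc f Z) := by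
  have hGa : IsAffine G.left := isAffine_of_isAffineHom G.hom
  let g₀ : T.left ⟶ Y := T.hom ≫ f
  have hpr : IsProper g₀ := inferInstance
  have hfl : Flat g₀ := inferInstance
  have hfin : IsFinite g₀.fromNormalization := Groth.Agent.S1297.result g₀
  have hcomp : g₀.toNormalization ≫ g₀.fromNormalization = g₀ := g₀.toNormalization_fromNormalization
  have hπ : ∀ U, IsIso (g₀.toNormalization.app U) := Groth.Agent.S1340.result g₀
  generalize g₀.toNormalization = π, g₀.fromNormalization = h' at hfin hcomp hπ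
  have hsec : ∀ z : Y, IsClosed ({z} : Set Y) → secDim (Y.residueField z) (g₀.fiberToSpecResidueField z) =
      secDim B G.hom := by
    intro z hz
    have : CompactSpace ((Over.pullback (Y.fromSpecResidueField z)).obj (Over.mk f)).left :=
      inferInstanceAs (CompactSpace (f.fiber z))
    have : QuasiSeparatedSpace ((Over.pullback (Y.fromSpecResidueField z)).obj (Over.mk f)).left :=
      quasiSeparatedSpace_of_quasiSeparated (pullback.snd f (Y.fromSpecResidueField z))
    exact TrivFib.secDim_fibre (κ := Y.residueField z) q f (Y.fromSpecResidueField z) hp ha (htriv z hz)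
      (isAffinization_toUnit f (hfib z))
  have hp1 : IsProper (π ≫ h') := by rw [hcomp]; exact hpr
  have hf1 : Flat (π ≫ h') := by rw [hcomp]; exact hfl
  have hsec' : ∀ z : Y, IsClosed ({z} : Set Y) →
      secDim (Y.residueField z) ((π ≫ h').fiberToSpecResidueField z) = secDim B G.hom := by
    rw [hcomp]; exact hsec
  have hflat : Flat h' := GrGlob.flat π h' hπ _ hsec'
  have hfi : ∀ (z : Y) (g : T.left ⟶ Y) (hg : π ≫ h' = g), IsIso (CohIII.fiberMapOver π g h' hg z).appTop := by
    rintro z _ rfl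
    exact GrGlob.isIso_fibre π h' hπ _ hsec' z
  let Z : Over Y := Over.mk h'
  let α : (Over.map f).obj T ⟶ Z := Over.homMk π hcomp
  let u : (Over.map f).obj T ⟶ Z ⊗ Over.mk f := lift α (tau f T)
  have hpZ : IsProper (Z ⊗ Over.mk f).hom := inferInstanceAs (IsProper (pullback.fst h' f ≫ h'))
  have hpT : IsProper ((Over.map f).obj T).hom := hpr
  have hfT : Flat ((Over.map f).obj T).hom := hfl
  have hu : IsIso u.left := by
    refine isIso_of_closed u.left (Z ⊗ Over.mk f).hom fun z hz => ?_
    have : CompactSpace ((Over.pullback (Y.fromSpecResidueField z)).obj (Over.mk f)).left :=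
      inferInstanceAs (CompactSpace (f.fiber z))
    have : QuasiSeparatedSpace ((Over.pullback (Y.fromSpecResidueField z)).obj (Over.mk f)).left :=
      quasiSeparatedSpace_of_quasiSeparated (pullback.snd f (Y.fromSpecResidueField z))
    have hα : IsAffinization ((Over.pullback (Y.fromSpecResidueField z)).map α) := by
      refine ⟨inferInstanceAs (IsAffine (pullback h' (Y.fromSpecResidueField z))), ?_⟩
      rw [map_left_eq]
      exact hfi z _ _
    have h1 := TrivFib.isIso_map_lift (κ := Y.residueField z) q f (Y.fromSpecResidueField z) hp ha (htriv z hz)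
      (isAffinization_toUnit f (hfib z)) α hα
    have h2 : IsIso (CohIII.fiberMapOver u.left ((Over.map f).obj T).hom (Z ⊗ Over.mk f).hom (Over.w u) z) := by
      rw [← map_left_eq]
      exact inferInstanceAs (IsIso ((Over.forget _).map ((Over.pullback (Y.fromSpecResidueField z)).map u)))
    exact Groth.Agent.S2387.result u.left _ _ (Over.w u) z
  refine ⟨Z, hfin, hflat, ⟨Over.isoMk (asIso u.left) ?_⟩⟩
  exact congrArg (fun m => m.left) (lift_snd α (tau f T))

end Main

theorem main (k : Type u) [Field k] (X Y : Scheme.{u}) [X.Over (Spec (CommRingCat.of k))]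
    [Y.Over (Spec (CommRingCat.of k))] [LocallyOfFiniteType (X ↘ Spec (CommRingCat.of k))]
    [LocallyOfFiniteType (Y ↘ Spec (CommRingCat.of k))] [AlgebraicGeometry.IsReduced Y]
    (f : X ⟶ Y) (hf : f ≫ (Y ↘ Spec (CommRingCat.of k)) = X ↘ Spec (CommRingCat.of k))
    [IsProper f] [Flat f]
    (hfib : ∀ y' : Y, Function.Bijective (pullback.snd f (Y.fromSpecResidueField y')).appTop.hom)
    (G : Over (Spec (CommRingCat.of k))) [GrpObj G] [IsFinite G.hom]
    (T : Over X) (a : AlgGrp.Action (Red.bc (X ↘ Spec (CommRingCat.of k)) G) T)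
    (hT : NonAbH1.IsTorsorFor Scheme.fppfPrecoverage a)
    (htriv : ∀ y' : Y, IsClosed ({y'} : Set Y) →
      NonAbH1.HasSectionOver T (pullback.fst f (Y.fromSpecResidueField y'))) :
    ∃ (T' : Over Y) (a' : AlgGrp.Action (Red.bc (Y ↘ Spec (CommRingCat.of k)) G) T'),
      NonAbH1.IsTorsorFor Scheme.fppfPrecoverage a' ∧
      Nonempty (NonAbH1.EquivIso (a'.bc f)
        (a.restrict (ActBC.bcCompIso f (Y ↘ Spec (CommRingCat.of k)) G hf).hom)) := by
  have hN : IsLocallyNoetherian Y := LocallyOfFiniteType.isLocallyNoetherian (Y ↘ Spec (CommRingCat.of k))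
  have hJ : JacobsonSpace Y := LocallyOfFiniteType.jacobsonSpace (Y ↘ Spec (CommRingCat.of k))
  have hGfl : Flat G.hom := inferInstance
  have hGX : IsFinite (Red.bc (X ↘ Spec (CommRingCat.of k)) G).hom :=
    inferInstanceAs (IsFinite (pullback.snd G.hom (X ↘ Spec (CommRingCat.of k))))
  have hGX2 : Flat (Red.bc (X ↘ Spec (CommRingCat.of k)) G).hom :=
    inferInstanceAs (Flat (pullback.snd G.hom (X ↘ Spec (CommRingCat.of k))))
  have hGY2 : Flat (Red.bc (Y ↘ Spec (CommRingCat.of k)) G).hom :=
    inferInstanceAs (Flat (pullback.snd G.hom (Y ↘ Spec (CommRingCat.of k))))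
  have hTfin : IsFinite T.hom := K551.Tors.isFinite_of_torsor hT
  have hTfl : Flat T.hom := K551.Tors.flat_of_torsor hT
  have hTs : Surjective T.hom := K551.Tors.surjective_of_torsor hT
  have hfs : Surjective f := surjective f hfib
  obtain ⟨Z, hZ1, hZ2, ⟨u⟩⟩ := exists_descent f hfib (Y ↘ Spec (CommRingCat.of k)) hf hT.1 htriv
  have hZs : Surjective Z.hom := by
    have h1 : u.hom.left ≫ pullback.fst Z.hom f ≫ Z.hom = T.hom ≫ f := by
      rw [pullback.condition, ← Category.assoc]
      congr 1
      exact Over.w u.hom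
    have h2 : Surjective ((u.hom.left ≫ pullback.fst Z.hom f) ≫ Z.hom) := by
      rw [Category.assoc, h1]
      infer_instance
    exact Surjective.of_comp (u.hom.left ≫ pullback.fst Z.hom f) Z.hom
  have hZl : LocallyOfFinitePresentation Z.hom := LocallyOfFinitePresentation.iff_locallyOfFiniteType.2 inferInstance
  obtain ⟨a', ⟨e⟩⟩ := DescAct.exists_descAct f (isIso_app f hfib) u
    (a.restrict (ActBC.bcCompIso f (Y ↘ Spec (CommRingCat.of k)) G hf).hom)
  refine ⟨Z, a', DescAct.isTorsorFor_of_descAct f _ ?_ a' e, ⟨e⟩⟩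
  exact K553.Bc.isPseudoTorsorSch_restrict hT.1 _

end K554.StTriv
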