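import Groth.Agent.NonAbH1.K554.GrGlob
import Groth.Agent.PrincBund.K826.BcTors
import Groth.Agent.NonAbH1.K551.Tors

/-!
# The fibre of a torsor which is trivial over the fibre of the base
-/

set_option autoImplicit false
universe u

open CategoryTheory CategoryTheory.Limits MonoidalCategory CartesianMonoidalCategory MonObj GrpObj AlgebraicGeometry
open TensorProduct
open Groth.Agent.Ega3B Groth.Agent.Ega3B.EqzSections Groth.Agent.Sga3C.Affinization K554.GrGlob

namespace K554.TrivFib

/-- the structure morphism of `T` as a morphism over `Y` -/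
noncomputable abbrev tau {X Y : Scheme.{u}} (f : X ⟶ Y) (T : Over X) : (Over.map f).obj T ⟶ Over.mk f :=
  Over.homMk T.hom rfl

theorem exists_isPullback {B X Y S' : Scheme.{u}} (p : X ⟶ B) (f : X ⟶ Y) (c : S' ⟶ Y) {G : Over B} [GrpObj G]
    {T : Over X} {a : AlgGrp.Action (Red.bc p G) T} (ha : NonAbH1.IsPseudoTorsorSch a)
    (h : NonAbH1.HasSectionOver T (pullback.fst f c)) :
    ∃ cG : ((Over.pullback c).obj ((Over.map f).obj T)).left ⟶ G.left,
      IsPullback cG ((Over.pullback c).map (tau f T)).left G.hom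
        (pullback.fst f c ≫ p) := by
  obtain ⟨e⟩ := K551.Tors.nonempty_iso_bc ha _ h
  have S1 : IsPullback (pullback.fst ((Over.map f).obj T).hom c)
    ((Over.pullback c).map (tau f T)).left T.hom (pullback.fst f c) :=
    (K826.BcTors.isPullback_map_left c (tau f T)).flip
  have S2 : IsPullback (pullback.fst T.hom (pullback.fst f c)) (pullback.snd T.hom (pullback.fst f c)) T.hom
    (pullback.fst f c) := IsPullback.of_hasPullback _ _
  have S3 : IsPullback (pullback.fst (pullback.snd G.hom p) (pullback.fst f c))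
    (pullback.snd (pullback.snd G.hom p) (pullback.fst f c)) (pullback.snd G.hom p) (pullback.fst f c) :=
      IsPullback.of_hasPullback _ _
  have S4 : IsPullback (pullback.fst G.hom p) (pullback.snd G.hom p) G.hom p := IsPullback.of_hasPullback _ _
  let θ := S1.isoIsPullback _ _ S2
  have hθ : θ.hom ≫ pullback.snd T.hom (pullback.fst f c) =
      ((Over.pullback c).map (tau f T)).left :=
    IsPullback.isoIsPullback_hom_snd _ _ _ _
  have he : e.inv.left ≫ pullback.snd (pullback.snd G.hom p) (pullback.fst f c) = pullback.snd T.hom (pullback.fst f c) :=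
    Over.w e.inv
  let ζ : ((Over.pullback c).obj ((Over.map f).obj T)).left ≅ pullback (pullback.snd G.hom p) (pullback.fst f c) :=
    θ ≪≫ (Over.forget _).mapIso e.symm
  refine ⟨ζ.hom ≫ (pullback.fst (pullback.snd G.hom p) (pullback.fst f c)) ≫ pullback.fst G.hom p, ?_⟩
  refine IsPullback.of_iso (S3.paste_horiz S4) ζ.symm (Iso.refl _) (Iso.refl _) (Iso.refl _) ?_ ?_ ?_ ?_
  · rw [Iso.refl_hom, Category.comp_id, Iso.symm_hom, Iso.inv_hom_id_assoc]
  · rw [Iso.refl_hom, Category.comp_id, Iso.symm_hom, ← hθ]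
    have h1 : ζ.hom ≫ pullback.snd (pullback.snd G.hom p) (pullback.fst f c) =
        θ.hom ≫ pullback.snd T.hom (pullback.fst f c) := by
      change (θ.hom ≫ e.inv.left) ≫ _ = _
      rw [Category.assoc, he]
    rw [← h1, Iso.inv_hom_id_assoc]
  · rw [Iso.refl_hom, Category.comp_id, Iso.refl_hom, Category.id_comp]
  · rw [Iso.refl_hom, Category.comp_id, Iso.refl_hom, Category.id_comp]

theorem isIso_lift_of_isPullback {S : Scheme.{u}} {P G X : Over S} (c : P ⟶ G) (p : P ⟶ X)
    (h : IsPullback c.left p.left G.hom X.hom) : IsIso (lift c p) := by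
  have h1 : IsIso (lift c p).left := by
    have h2 : (lift c p).left = h.isoPullback.hom := by
      apply pullback.hom_ext
      · rw [IsPullback.isoPullback_hom_fst]
        exact congrArg (fun m => m.left) (lift_fst c p)
      · rw [IsPullback.isoPullback_hom_snd]
        exact congrArg (fun m => m.left) (lift_snd c p)
    rw [h2]
    infer_instance
  have h3 : IsIso ((Over.forget S).map (lift c p)) := h1
  exact isIso_of_reflects_iso (lift c p) (Over.forget S)

theorem secDim_eq {κ : Type u} [Field κ] {P Q : Over (Spec (CommRingCat.of κ))} (c : P ⟶ Q)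
    (hc : IsIso c.left.appTop) : secDim κ P.hom = secDim κ Q.hom := by
  have h4 : CommRingCat.ofHom (R := κ) (S := Γ(Q.left, ⊤)) (secMap Q.hom ⊤) ≫ c.left.appTop =
      CommRingCat.ofHom (R := κ) (S := Γ(P.left, ⊤)) (secMap P.hom ⊤) := by
    rw [GrH0.secMap_top, GrH0.secMap_top, Category.assoc, ← Scheme.Hom.comp_appTop, Over.w]
  let e : Sec Q.hom ⊤ ≃+* Sec P.hom ⊤ :=
    RingEquiv.ofBijective c.left.appTop.hom ((ConcreteCategory.isIso_iff_bijective c.left.appTop).1 hc)
  let E : Sec Q.hom ⊤ ≃ₐ[κ] Sec P.hom ⊤ := AlgEquiv.ofRingEquiv (f := e) fun r =>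
    congrArg (fun m => m.hom r) h4
  exact E.toLinearEquiv.finrank_eq.symm

theorem secDim_bc {k κ : Type u} [Field k] [Field κ] [Algebra k κ] {X Y : Scheme.{u}} [IsAffine X]
    {π : X ⟶ Spec (CommRingCat.of k)} {g : Y ⟶ X} {q : Y ⟶ Spec (CommRingCat.of κ)}
    (H : IsPullback g q π (Spec.map (CommRingCat.ofHom (algebraMap k κ)))) : secDim κ q = secDim k π := by
  let e := bcEquiv H ⊤ (isAffineOpen_top X)
  have he : ∀ b : κ, e (b ⊗ₜ[k] 1) = algebraMap κ (Sec q (g ⁻¹ᵁ ⊤)) b := fun b => bcEquiv_tmul_one H ⊤ _ b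
  let E : (κ ⊗[k] Sec π ⊤) ≃ₐ[κ] Sec q (g ⁻¹ᵁ ⊤) := AlgEquiv.ofRingEquiv (f := e) fun r => he r
  have h1 := E.toLinearEquiv.finrank_eq
  rw [Module.finrank_baseChange] at h1
  exact h1.symm

section Field

variable {k κ : Type u} [Field k] [Field κ] {X Y : Scheme.{u}} (q : Y ⟶ Spec (CommRingCat.of k)) (f : X ⟶ Y)
  (c : Spec (CommRingCat.of κ) ⟶ Y) {G : Over (Spec (CommRingCat.of k))} [GrpObj G] [IsAffine G.left] {T : Over X}
  {p : X ⟶ Spec (CommRingCat.of k)} (hp : f ≫ q = p)
  {a : AlgGrp.Action (Red.bc p G) T} (ha : NonAbH1.IsPseudoTorsorSch a)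
  (h : NonAbH1.HasSectionOver T (pullback.fst f c))
  (hX : IsAffinization (toUnit ((Over.pullback c).obj (Over.mk f))))
  [CompactSpace ((Over.pullback c).obj (Over.mk f)).left] [QuasiSeparatedSpace ((Over.pullback c).obj (Over.mk f)).left]

include hp ha h in
omit [IsAffine G.left] [CompactSpace ((Over.pullback c).obj (Over.mk f)).left]
  [QuasiSeparatedSpace ((Over.pullback c).obj (Over.mk f)).left] in
theorem exists_isIso_lift : ∃ cG : (Over.pullback c).obj ((Over.map f).obj T) ⟶ Red.bc (c ≫ q) G,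
    IsIso (lift cG ((Over.pullback c).map (tau f T))) := by
  obtain ⟨cG, hcG⟩ := exists_isPullback p f c ha h
  have PB2 : IsPullback (pullback.fst G.hom (c ≫ q)) (pullback.snd G.hom (c ≫ q)) G.hom (c ≫ q) :=
    IsPullback.of_hasPullback _ _
  let τ : (Over.map f).obj T ⟶ Over.mk f := Over.homMk T.hom
  have hX' : pullback.fst f c ≫ p = ((Over.pullback c).obj (Over.mk f)).hom ≫ (c ≫ q) := by
    rw [← hp, ← Category.assoc, pullback.condition, Category.assoc]
    rfl
  have hP : ((Over.pullback c).map τ).left ≫ ((Over.pullback c).obj (Over.mk f)).hom =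
      ((Over.pullback c).obj ((Over.map f).obj T)).hom := Over.w _
  have hw : cG ≫ G.hom = ((Over.pullback c).obj ((Over.map f).obj T)).hom ≫ (c ≫ q) := by
    rw [hcG.w, hX', ← Category.assoc, hP]
  let cκ : (Over.pullback c).obj ((Over.map f).obj T) ⟶ Red.bc (c ≫ q) G :=
    Over.homMk (PB2.lift cG ((Over.pullback c).obj ((Over.map f).obj T)).hom hw) (PB2.lift_snd _ _ _)
  refine ⟨cκ, isIso_lift_of_isPullback cκ _ ?_⟩
  refine IsPullback.of_right (h₁₂ := pullback.fst G.hom (c ≫ q)) (v₁₃ := G.hom) (h₂₂ := c ≫ q) ?_ ?_ PB2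
  · have h1 : cκ.left ≫ pullback.fst G.hom (c ≫ q) = cG := PB2.lift_fst _ _ _
    rw [h1, ← hX']
    exact hcG
  · exact (PB2.lift_snd _ _ _).trans hP.symm

include hp ha h hX in
theorem secDim_fibre : secDim κ ((Over.pullback c).obj ((Over.map f).obj T)).hom = secDim k G.hom := by
  obtain ⟨φ, hφ⟩ : ∃ φ : CommRingCat.of k ⟶ CommRingCat.of κ, c ≫ q = Spec.map φ :=
    ⟨Spec.preimage (c ≫ q), (Spec.map_preimage _).symm⟩
  let _ : Algebra k κ := φ.hom.toAlgebra
  have hG : IsAffine (Red.bc (c ≫ q) G).left := inferInstanceAs (IsAffine (pullback G.hom (c ≫ q)))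
  obtain ⟨cG, hcG⟩ := exists_isIso_lift q f c hp ha h
  have h1 := GrFib.isAffinization_of_isIso hX cG
    ((Over.pullback c).map (tau f T))
  rw [secDim_eq cG h1.isIso]
  have H : IsPullback (pullback.fst G.hom (c ≫ q)) (pullback.snd G.hom (c ≫ q)) G.hom
      (Spec.map (CommRingCat.ofHom (algebraMap k κ))) := by
    have h2 : Spec.map (CommRingCat.ofHom (algebraMap k κ)) = c ≫ q := hφ.symm
    rw [h2]
    exact IsPullback.of_hasPullback _ _
  exact secDim_bc H

include hp ha h hX in
theorem isIso_map_lift {Z : Over Y} (α : (Over.map f).obj T ⟶ Z) (hα : IsAffinization ((Over.pullback c).map α)) :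
    IsIso ((Over.pullback c).map (lift α (tau f T))) := by
  have hG : IsAffine (Red.bc (c ≫ q) G).left := inferInstanceAs (IsAffine (pullback G.hom (c ≫ q)))
  obtain ⟨cG, hcG⟩ := exists_isIso_lift q f c hp ha h
  have h1 := GrFib.isIso_lift_of_isAffinization hX cG
    ((Over.pullback c).map (tau f T)) ((Over.pullback c).map α) hα
  rw [← Functor.OplaxMonoidal.lift_δ] at h1
  exact IsIso.of_isIso_comp_right _ (Functor.OplaxMonoidal.δ (Over.pullback c) Z (Over.mk f))

end Field

end K554.TrivFib
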